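import Mathlib

/-!
# Similarity, conjugacy and centralisers in `GL₂` and `SL₂`

Everything lives in `namespace Cfsg.Agent.GL2.Classes`.
-/

set_option autoImplicit false

open Matrix
open scoped MatrixGroups

namespace Cfsg.Agent.GL2.Classes

universe u

variable {F : Type u} [Field F]

/-- `M` is a scalar matrix. -/
def IsScalar (M : Matrix (Fin 2) (Fin 2) F) : Prop := ∃ c : F, M = c • 1

theorem isScalar_iff (M : Matrix (Fin 2) (Fin 2) F) :
    IsScalar M ↔ M 0 1 = 0 ∧ M 1 0 = 0 ∧ M 0 0 = M 1 1 := by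
  constructor
  · rintro ⟨c, rfl⟩
    simp
  · rintro ⟨h1, h2, h3⟩
    refine ⟨M 0 0, ?_⟩
    ext i j
    fin_cases i <;> fin_cases j <;> simp [h1, h2, h3]

theorem IsScalar.commute {M : Matrix (Fin 2) (Fin 2) F} (h : IsScalar M)
    (X : Matrix (Fin 2) (Fin 2) F) : X * M = M * X := by
  obtain ⟨c, rfl⟩ := h
  simp

/-- The companion matrix of `X² - t X + d`. -/
def companion (t d : F) : Matrix (Fin 2) (Fin 2) F := !![0, -d; 1, t]

theorem trace_companion (t d : F) : (companion t d).trace = t := by simp [companion, trace_fin_two]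

theorem det_companion (t d : F) : (companion t d).det = d := by simp [companion, det_fin_two]

theorem not_isScalar_companion (t d : F) : ¬ IsScalar (companion t d) := by
  simp [isScalar_iff, companion]

theorem exists_cyclic {M : Matrix (Fin 2) (Fin 2) F} (h : ¬ IsScalar M) :
    ∃ v : Fin 2 → F, v 0 * (M *ᵥ v) 1 - v 1 * (M *ᵥ v) 0 ≠ 0 := by
  by_contra hc
  push Not at hc
  refine h ((isScalar_iff M).2 ?_)
  have h0 := hc ![1, 0]
  have h1 := hc ![0, 1]
  have h2 := hc ![1, 1]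
  simp [Matrix.mulVec, dotProduct, Fin.sum_univ_two] at h0 h1 h2
  refine ⟨h1, h0, ?_⟩
  linear_combination -h2 + h0 - h1

theorem exists_companion {M : Matrix (Fin 2) (Fin 2) F} (h : ¬ IsScalar M) :
    ∃ P : Matrix (Fin 2) (Fin 2) F, P.det ≠ 0 ∧ M * P = P * companion M.trace M.det := by
  obtain ⟨v, hv⟩ := exists_cyclic h
  refine ⟨!![v 0, (M *ᵥ v) 0; v 1, (M *ᵥ v) 1], ?_, ?_⟩
  · rw [det_fin_two_of]
    exact fun h' => hv (by linear_combination h')
  · ext i j
    fin_cases i <;> fin_cases j <;>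
      simp [companion, Matrix.mul_apply, Matrix.mulVec, dotProduct, Fin.sum_univ_two, trace_fin_two,
        det_fin_two] <;> ring

theorem exists_similar {M N : Matrix (Fin 2) (Fin 2) F} (hM : ¬ IsScalar M) (hN : ¬ IsScalar N)
    (ht : M.trace = N.trace) (hd : M.det = N.det) :
    ∃ P : Matrix (Fin 2) (Fin 2) F, P.det ≠ 0 ∧ M * P = P * N := by
  obtain ⟨P, hP, hMP⟩ := exists_companion hM
  obtain ⟨Q, hQ, hNQ⟩ := exists_companion hN
  have hQu : IsUnit Q.det := isUnit_iff_ne_zero.2 hQ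
  refine ⟨P * Q⁻¹, by rw [det_mul, det_nonsing_inv, Ring.inverse_eq_inv]; simp [hP, hQ], ?_⟩
  have hC : companion N.trace N.det = Q⁻¹ * N * Q := by
    rw [Matrix.mul_assoc, hNQ, ← Matrix.mul_assoc, nonsing_inv_mul _ hQu, Matrix.one_mul]
  rw [← Matrix.mul_assoc, hMP, ht, hd, hC]
  simp only [Matrix.mul_assoc]
  rw [mul_nonsing_inv _ hQu, Matrix.mul_one]

theorem similar_trace_det {M N P : Matrix (Fin 2) (Fin 2) F} (hP : P.det ≠ 0) (h : M * P = P * N) :
    M.trace = N.trace ∧ M.det = N.det := by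
  constructor
  · have hPu : IsUnit P.det := isUnit_iff_ne_zero.2 hP
    have hM : M = P * N * P⁻¹ := by rw [← h, Matrix.mul_assoc, mul_nonsing_inv _ hPu, Matrix.mul_one]
    rw [hM, Matrix.trace_mul_cycle, nonsing_inv_mul _ hPu, Matrix.one_mul]
  · have h' := congrArg Matrix.det h
    rw [det_mul, det_mul, mul_comm P.det] at h'
    exact mul_right_cancel₀ hP h'

theorem commute_iff {M : Matrix (Fin 2) (Fin 2) F} (h : ¬ IsScalar M) (X : Matrix (Fin 2) (Fin 2) F) :
    X * M = M * X ↔ ∃ a b : F, X = a • 1 + b • M := by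
  constructor
  · intro hc
    obtain ⟨v, hv⟩ := exists_cyclic h
    set D := v 0 * (M *ᵥ v) 1 - v 1 * (M *ᵥ v) 0 with hD
    set a := ((X *ᵥ v) 0 * (M *ᵥ v) 1 - (X *ᵥ v) 1 * (M *ᵥ v) 0) / D with ha
    set b := (v 0 * (X *ᵥ v) 1 - v 1 * (X *ᵥ v) 0) / D with hb
    refine ⟨a, b, ?_⟩
    set Y := a • (1 : Matrix (Fin 2) (Fin 2) F) + b • M with hY
    have h1 : X *ᵥ v = Y *ᵥ v := by
      rw [hY, add_mulVec, smul_mulVec, smul_mulVec, one_mulVec]
      funext i
      have hi : (a * v i + b * (M *ᵥ v) i) * D = (X *ᵥ v) i * D := by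
        rw [add_mul, mul_right_comm a, mul_right_comm b, ha, hb, div_mul_cancel₀ _ hv,
          div_mul_cancel₀ _ hv, hD]
        fin_cases i <;> simp <;> ring
      simp only [Pi.add_apply, Pi.smul_apply, smul_eq_mul]
      exact (mul_right_cancel₀ hv hi).symm
    have hYc : Y * M = M * Y := by
      rw [hY, add_mul, mul_add, smul_mul, Matrix.mul_smul, Matrix.one_mul, Matrix.mul_one, smul_mul,
        Matrix.mul_smul]
    have h2 : X *ᵥ (M *ᵥ v) = Y *ᵥ (M *ᵥ v) := by
      rw [mulVec_mulVec, hc, ← mulVec_mulVec, h1, mulVec_mulVec, ← hYc, ← mulVec_mulVec]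
    set P : Matrix (Fin 2) (Fin 2) F := !![v 0, (M *ᵥ v) 0; v 1, (M *ᵥ v) 1] with hP
    have hPu : IsUnit P.det := by
      rw [isUnit_iff_ne_zero, hP, det_fin_two_of]
      exact fun h' => hv (by rw [hD]; linear_combination h')
    have h3 : X * P = Y * P := by
      have e0 : ∀ Z : Matrix (Fin 2) (Fin 2) F, ∀ i, (Z * P) i 0 = (Z *ᵥ v) i := fun Z i => by
        simp [hP, Matrix.mul_apply, Matrix.mulVec, dotProduct, Fin.sum_univ_two]
      have e1 : ∀ Z : Matrix (Fin 2) (Fin 2) F, ∀ i, (Z * P) i 1 = (Z *ᵥ (M *ᵥ v)) i := fun Z i => by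
        simp [hP, Matrix.mul_apply, Matrix.mulVec, dotProduct, Fin.sum_univ_two]
      refine Matrix.ext fun i => Fin.forall_fin_two.2 ⟨?_, ?_⟩
      · rw [e0, e0, h1]
      · rw [e1, e1, h2]
    have := congrArg (· * P⁻¹) h3
    simpa [Matrix.mul_assoc, mul_nonsing_inv _ hPu] using this
  · rintro ⟨a, b, rfl⟩
    rw [add_mul, mul_add, smul_mul, Matrix.mul_smul, Matrix.one_mul, Matrix.mul_one, smul_mul,
      Matrix.mul_smul]

/-- The determinant of `a + b M`. -/
def normForm (M : Matrix (Fin 2) (Fin 2) F) (x : F × F) : F :=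
  x.1 ^ 2 + x.1 * x.2 * M.trace + x.2 ^ 2 * M.det

theorem det_comb (M : Matrix (Fin 2) (Fin 2) F) (x : F × F) :
    (x.1 • (1 : Matrix (Fin 2) (Fin 2) F) + x.2 • M).det = normForm M x := by
  simp [normForm, det_fin_two, trace_fin_two]
  ring

theorem comb_injective {M : Matrix (Fin 2) (Fin 2) F} (h : ¬ IsScalar M) :
    Function.Injective (fun x : F × F => x.1 • (1 : Matrix (Fin 2) (Fin 2) F) + x.2 • M) := by
  rintro ⟨a, b⟩ ⟨a', b'⟩ heq
  simp only at heq
  by_cases hb : b = b'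
  · subst hb
    have h1 := congrFun (congrFun heq 0) 0
    simp at h1
    rw [h1]
  · refine (h ⟨(a' - a) / (b - b'), ?_⟩).elim
    have h1 : (b - b') • M = (a' - a) • (1 : Matrix (Fin 2) (Fin 2) F) := by
      rw [sub_smul, sub_smul, sub_eq_sub_iff_add_eq_add, add_comm (b • M), heq]
    rw [div_eq_inv_mul, ← smul_smul, ← h1, smul_smul, inv_mul_cancel₀ (sub_ne_zero.2 hb), one_smul]

/-! ### `GL₂` -/

theorem det_val_ne_zero (g : GL (Fin 2) F) : (g : Matrix (Fin 2) (Fin 2) F).det ≠ 0 :=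
  (Matrix.GeneralLinearGroup.det g).ne_zero

theorem isConj_GL_iff_exists (g h : GL (Fin 2) F) :
    IsConj g h ↔ ∃ P : Matrix (Fin 2) (Fin 2) F, P.det ≠ 0 ∧
      (h : Matrix (Fin 2) (Fin 2) F) * P = P * (g : Matrix (Fin 2) (Fin 2) F) := by
  rw [isConj_iff]
  constructor
  · rintro ⟨c, rfl⟩
    refine ⟨c, det_val_ne_zero c, ?_⟩
    rw [← Units.val_mul, ← Units.val_mul, inv_mul_cancel_right]
  · rintro ⟨P, hP, h'⟩
    refine ⟨GeneralLinearGroup.mkOfDetNeZero P hP, ?_⟩
    rw [mul_inv_eq_iff_eq_mul]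
    exact Units.ext h'.symm

theorem isConj_GL_of_not_scalar {g h : GL (Fin 2) F} (hg : ¬ IsScalar (g : Matrix (Fin 2) (Fin 2) F))
    (hh : ¬ IsScalar (h : Matrix (Fin 2) (Fin 2) F))
    (ht : (g : Matrix (Fin 2) (Fin 2) F).trace = (h : Matrix (Fin 2) (Fin 2) F).trace)
    (hd : (g : Matrix (Fin 2) (Fin 2) F).det = (h : Matrix (Fin 2) (Fin 2) F).det) : IsConj g h :=
  (isConj_GL_iff_exists g h).2 (exists_similar hh hg ht.symm hd.symm)

theorem IsConj.trace_det_GL {g h : GL (Fin 2) F} (hc : IsConj g h) :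
    (g : Matrix (Fin 2) (Fin 2) F).trace = (h : Matrix (Fin 2) (Fin 2) F).trace ∧
      (g : Matrix (Fin 2) (Fin 2) F).det = (h : Matrix (Fin 2) (Fin 2) F).det := by
  obtain ⟨P, hP, h'⟩ := (isConj_GL_iff_exists g h).1 hc
  obtain ⟨h1, h2⟩ := similar_trace_det hP h'
  exact ⟨h1.symm, h2.symm⟩

theorem eq_of_isConj_scalar {g h : GL (Fin 2) F} (hc : IsConj g h)
    (hs : IsScalar (g : Matrix (Fin 2) (Fin 2) F)) : g = h := by
  obtain ⟨c, rfl⟩ := isConj_iff.1 hc
  have hcomm : c * g = g * c := Units.ext (hs.commute _)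
  rw [hcomm, mul_inv_cancel_right]

/-- The centraliser of a non-scalar element of `GL₂`. -/
noncomputable def centralizerEquivGL (g : GL (Fin 2) F) (hg : ¬ IsScalar (g : Matrix (Fin 2) (Fin 2) F)) :
    {x : F × F // normForm (g : Matrix (Fin 2) (Fin 2) F) x ≠ 0} ≃
      Subgroup.centralizer ({g} : Set (GL (Fin 2) F)) :=
  Equiv.ofBijective
    (fun x => ⟨GeneralLinearGroup.mkOfDetNeZero
        (x.1.1 • (1 : Matrix (Fin 2) (Fin 2) F) + x.1.2 • (g : Matrix (Fin 2) (Fin 2) F))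
        (by rw [det_comb]; exact x.2), by
      rw [Subgroup.mem_centralizer_singleton_iff]
      exact Units.ext ((commute_iff hg _).2 ⟨_, _, rfl⟩)⟩)
    ⟨fun x y hxy => Subtype.ext (comb_injective hg (congrArg (fun z => Units.val z.1) hxy)), fun y => by
      have hy := congrArg Units.val (Subgroup.mem_centralizer_singleton_iff.1 y.2)
      obtain ⟨a, b, hab⟩ := (commute_iff hg (y.1 : Matrix (Fin 2) (Fin 2) F)).1 hy
      refine ⟨⟨(a, b), ?_⟩, Subtype.ext (Units.ext hab.symm)⟩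
      rw [← det_comb (g : Matrix (Fin 2) (Fin 2) F) (a, b)]
      show (a • 1 + b • (g : Matrix (Fin 2) (Fin 2) F)).det ≠ 0
      rw [← hab]
      exact det_val_ne_zero _⟩

/-! ### `SL₂` -/

/-- An element of `SL₂` from its matrix. -/
def mkSL (A : Matrix (Fin 2) (Fin 2) F) (h : A.det = 1) : SL(2, F) := ⟨A, h⟩

@[simp] theorem coe_mkSL (A : Matrix (Fin 2) (Fin 2) F) (h : A.det = 1) :
    (mkSL A h : Matrix (Fin 2) (Fin 2) F) = A := rfl

theorem isConj_SL_iff_exists (g h : SL(2, F)) :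
    IsConj g h ↔ ∃ P : Matrix (Fin 2) (Fin 2) F, P.det = 1 ∧
      (h : Matrix (Fin 2) (Fin 2) F) * P = P * (g : Matrix (Fin 2) (Fin 2) F) := by
  rw [isConj_iff]
  constructor
  · rintro ⟨c, rfl⟩
    refine ⟨c, c.2, ?_⟩
    rw [← Matrix.SpecialLinearGroup.coe_mul, ← Matrix.SpecialLinearGroup.coe_mul, inv_mul_cancel_right]
  · rintro ⟨P, hP, h'⟩
    refine ⟨mkSL P hP, ?_⟩
    rw [mul_inv_eq_iff_eq_mul]
    exact Subtype.ext h'.symm

/-- Conjugacy in `SL₂` of non-scalar elements with equal trace, when the norm form is onto. -/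
theorem isConj_SL_of_surjective {g h : SL(2, F)} (hg : ¬ IsScalar (g : Matrix (Fin 2) (Fin 2) F))
    (hh : ¬ IsScalar (h : Matrix (Fin 2) (Fin 2) F))
    (ht : (g : Matrix (Fin 2) (Fin 2) F).trace = (h : Matrix (Fin 2) (Fin 2) F).trace)
    (hsurj : ∀ c : F, c ≠ 0 → ∃ x, normForm (g : Matrix (Fin 2) (Fin 2) F) x = c) : IsConj g h := by
  obtain ⟨P, hP, hPg⟩ := exists_similar hh hg ht.symm (by rw [g.2, h.2])
  obtain ⟨x, hx⟩ := hsurj P.det⁻¹ (inv_ne_zero hP)
  refine (isConj_SL_iff_exists g h).2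
    ⟨P * (x.1 • 1 + x.2 • (g : Matrix (Fin 2) (Fin 2) F)), ?_, ?_⟩
  · rw [det_mul, det_comb, hx, mul_inv_cancel₀ hP]
  · rw [← Matrix.mul_assoc, hPg, Matrix.mul_assoc, Matrix.mul_assoc, (commute_iff hg _).2 ⟨_, _, rfl⟩]

/-- The centraliser of a non-scalar element of `SL₂`. -/
noncomputable def centralizerEquivSL (g : SL(2, F)) (hg : ¬ IsScalar (g : Matrix (Fin 2) (Fin 2) F)) :
    {x : F × F // normForm (g : Matrix (Fin 2) (Fin 2) F) x = 1} ≃
      Subgroup.centralizer ({g} : Set SL(2, F)) :=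
  Equiv.ofBijective
    (fun x => ⟨mkSL (x.1.1 • (1 : Matrix (Fin 2) (Fin 2) F) + x.1.2 • (g : Matrix (Fin 2) (Fin 2) F))
        (by rw [det_comb]; exact x.2), by
      rw [Subgroup.mem_centralizer_singleton_iff]
      exact Subtype.ext ((commute_iff hg _).2 ⟨_, _, rfl⟩)⟩)
    ⟨fun x y hxy => Subtype.ext (comb_injective hg (congrArg (fun z : Subgroup.centralizer ({g} : Set SL(2, F)) =>
        ((z : SL(2, F)) : Matrix (Fin 2) (Fin 2) F)) hxy)),
     fun (y : Subgroup.centralizer ({g} : Set SL(2, F))) => by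
      have hy := congrArg (fun z : SL(2, F) => (z : Matrix (Fin 2) (Fin 2) F))
        (Subgroup.mem_centralizer_singleton_iff.1 y.2)
      obtain ⟨a, b, hab⟩ := (commute_iff hg (y.1 : Matrix (Fin 2) (Fin 2) F)).1 hy
      refine ⟨⟨(a, b), ?_⟩, Subtype.ext (Subtype.ext hab.symm)⟩
      rw [← det_comb (g : Matrix (Fin 2) (Fin 2) F) (a, b)]
      show (a • 1 + b • (g : Matrix (Fin 2) (Fin 2) F)).det = 1
      rw [← hab]
      exact y.1.2⟩

/-! ### Norm forms over finite fields -/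

theorem exists_normForm_eq [Fintype F] {M : Matrix (Fin 2) (Fin 2) F}
    (h : (2 : F) = 0 ∨ M.trace ^ 2 ≠ 4 * M.det) {c : F} : ∃ x, normForm M x = c := by
  classical
  rcases eq_or_ne (2 : F) 0 with h2 | h2
  · obtain ⟨p, hp⟩ := CharP.exists F
    have := hp
    have : CharP F 2 := CharTwo.of_one_ne_zero_of_two_eq_zero one_ne_zero h2
    obtain ⟨r, hr⟩ := (Finite.injective_iff_surjective.1
      (show Function.Injective (fun a : F => a ^ 2) from CharTwo.sq_injective)) c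
    exact ⟨(r, 0), by simpa [normForm] using hr⟩
  · have hne : M.trace ^ 2 ≠ 4 * M.det := h.resolve_left h2
    set D := M.det - M.trace ^ 2 / 4 with hD
    have h4 : (4 : F) ≠ 0 := by
      rw [show (4 : F) = 2 * 2 by norm_num]
      exact mul_ne_zero h2 h2
    have hD0 : D ≠ 0 := by
      intro h0
      apply hne
      rw [sub_eq_zero] at h0
      rw [h0, mul_div_cancel₀ _ h4]
    have hchar : ringChar F ≠ 2 := by
      intro hc
      exact h2 (by rw [show (2 : F) = ((2 : ℕ) : F) by norm_num, ← hc, ringChar.Nat.cast_ringChar])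
    obtain ⟨a, b, hab⟩ := FiniteField.exists_root_sum_quadratic
      (f := Polynomial.X ^ 2 - Polynomial.C c) (g := Polynomial.C D * Polynomial.X ^ 2)
      (Polynomial.degree_X_pow_sub_C (by norm_num) c)
      (by rw [Polynomial.degree_C_mul hD0, Polynomial.degree_X_pow]; norm_num)
      (FiniteField.odd_card_of_char_ne_two hchar)
    refine ⟨(a - b * M.trace / 2, b), ?_⟩
    simp only [Polynomial.eval_sub, Polynomial.eval_pow, Polynomial.eval_X, Polynomial.eval_C,
      Polynomial.eval_mul] at hab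
    simp only [normForm]
    rw [hD] at hab
    field_simp at hab ⊢
    linear_combination hab

end Cfsg.Agent.GL2.Classes
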