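import Cfsg.Prelude.Def_Characters
import Cfsg.Prelude.Def_ParabolicCharacters
import Cfsg.Agent.Lib.Characters.Induction
import Cfsg.Agent.Lib.Characters.Counting
import Cfsg.Agent.Lib.Classical.GL2
import Cfsg.Agent.Lib.GL2.Classes

/-!
# The Borel subgroups of `GL₂` and `SL₂`, coset representatives, induced functions
-/

set_option autoImplicit false
set_option linter.unusedSectionVars false

open Matrix
open scoped MatrixGroups ComplexConjugate

namespace Cfsg.Agent.GL2.Borel

universe u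

/-- Induced functions as sums over coset representatives. -/
theorem indFun_eq_sum_reps {G : Type u} [Group G] [Fintype G] (H : Subgroup G) (θ : H → ℂ)
    {ι : Type*} [Fintype ι] (r : ι → G)
    (hr : Function.Bijective fun i => (QuotientGroup.mk (r i) : G ⧸ H))
    (hθ : Cfsg.IsClassFunction H θ) (g : G) :
    Cfsg.indFun H θ g = ∑ i, Cfsg.extendByZero H θ ((r i)⁻¹ * g * r i) := by
  classical
  haveI := Fintype.ofFinite H
  have h0 : (Nat.card H : ℂ) ≠ 0 := Nat.cast_ne_zero.mpr Nat.card_pos.ne'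
  apply mul_left_cancel₀ h0
  rw [CharTheory.IndBasic.card_mul_indFun]
  let e : ι × H → G := fun x => r x.1 * x.2
  have he : Function.Bijective e := by
    constructor
    · rintro ⟨i, h⟩ ⟨j, k⟩ hjk
      have hij : i = j := hr.injective (QuotientGroup.eq.2 (by
        have h' : (r i)⁻¹ * r j = h * (k : G)⁻¹ := by
          rw [eq_mul_inv_iff_mul_eq, mul_assoc, inv_mul_eq_iff_eq_mul]
          exact hjk.symm
        rw [h']; exact H.mul_mem h.2 (H.inv_mem k.2)))
      subst hij
      exact Prod.ext rfl (Subtype.ext (mul_left_cancel hjk))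
    · intro x
      obtain ⟨i, hi⟩ := hr.surjective (QuotientGroup.mk x)
      exact ⟨⟨i, ⟨(r i)⁻¹ * x, QuotientGroup.eq.1 hi⟩⟩, mul_inv_cancel_left _ _⟩
  rw [← (Equiv.ofBijective e he).sum_comp, Fintype.sum_prod_type, Finset.mul_sum]
  refine Finset.sum_congr rfl fun i _ => ?_
  rw [Finset.sum_congr rfl fun h _ => ?_, Finset.sum_const, Finset.card_univ, nsmul_eq_mul,
    Nat.card_eq_fintype_card]
  show Cfsg.extendByZero H θ ((r i * h)⁻¹ * g * (r i * h)) = _
  set y := (r i)⁻¹ * g * r i with hy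
  have hyy : (r i * h)⁻¹ * g * (r i * h) = (h : G)⁻¹ * y * h := by rw [hy]; group
  rw [hyy]
  by_cases hm : y ∈ H
  · have h1 : (h : G)⁻¹ * y * h = ((h⁻¹ * ⟨y, hm⟩ * h : H) : G) := rfl
    rw [h1, CharTheory.IndBasic.extendByZero_coe, CharTheory.IndBasic.extendByZero_of_mem H θ hm]
    simpa using hθ ⟨y, hm⟩ h⁻¹
  · rw [CharTheory.IndBasic.extendByZero_of_notMem H θ hm,
      CharTheory.IndBasic.extendByZero_of_notMem]
    intro hc
    refine hm ?_
    have : y = h * ((h : G)⁻¹ * y * h) * (h : G)⁻¹ := by group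
    rw [this]
    exact H.mul_mem (H.mul_mem h.2 hc) (H.inv_mem h.2)

variable {F : Type u} [Field F]

/-- The upper triangular element of `GL₂` with diagonal `p`, `r` and corner `x`. -/
def mkB (p r : Fˣ) (x : F) : GL (Fin 2) F :=
  GeneralLinearGroup.mkOfDetNeZero !![(p : F), x; 0, (r : F)] (by simp [det_fin_two_of])

@[simp] theorem coe_mkB (p r : Fˣ) (x : F) :
    (mkB p r x : Matrix (Fin 2) (Fin 2) F) = !![(p : F), x; 0, (r : F)] := rfl

/-- The upper triangular element of `SL₂` with diagonal `p`, `p⁻¹` and corner `x`. -/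
def mkS (p : Fˣ) (x : F) : SL(2, F) :=
  ⟨!![(p : F), x; 0, ((p⁻¹ : Fˣ) : F)], by simp [det_fin_two_of]⟩

@[simp] theorem coe_mkS (p : Fˣ) (x : F) :
    (mkS p x : Matrix (Fin 2) (Fin 2) F) = !![(p : F), x; 0, ((p⁻¹ : Fˣ) : F)] := rfl

theorem toGL_mkS (p : Fˣ) (x : F) :
    Matrix.SpecialLinearGroup.toGL (mkS p x) = mkB p p⁻¹ x := Units.ext rfl

/-- The Borel subgroup of `SL₂`. -/
abbrev BS (F : Type u) [Field F] : Subgroup SL(2, F) :=
  (Cfsg.upperTriangularGL 2 F).comap Matrix.SpecialLinearGroup.toGL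

theorem mem_B_iff (g : GL (Fin 2) F) :
    g ∈ Cfsg.upperTriangularGL 2 F ↔ (g : Matrix (Fin 2) (Fin 2) F) 1 0 = 0 := by
  show (g : Matrix (Fin 2) (Fin 2) F).BlockTriangular id ↔ _
  refine ⟨fun h => h (by decide), fun h i j hij => ?_⟩
  fin_cases i <;> fin_cases j <;> simp_all

theorem mem_BS_iff (g : SL(2, F)) : g ∈ BS F ↔ (g : Matrix (Fin 2) (Fin 2) F) 1 0 = 0 :=
  mem_B_iff (Matrix.SpecialLinearGroup.toGL g)

theorem mkB_mem (p r : Fˣ) (x : F) : mkB p r x ∈ Cfsg.upperTriangularGL 2 F :=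
  (mem_B_iff _).2 (by simp)

theorem mkS_mem (p : Fˣ) (x : F) : mkS p x ∈ BS F := (mem_BS_iff _).2 (by simp)

theorem exists_mkB {g : GL (Fin 2) F} (h : (g : Matrix (Fin 2) (Fin 2) F) 1 0 = 0) :
    ∃ p r x, g = mkB p r x := by
  obtain ⟨h0, h1⟩ := Classical.GL2.GL_apply_zero_zero_ne_zero g h
  refine ⟨Units.mk0 _ h0, Units.mk0 _ h1, (g : Matrix (Fin 2) (Fin 2) F) 0 1, Units.ext ?_⟩
  ext i j
  fin_cases i <;> fin_cases j <;> simp [h]

theorem mkB_bijective : Function.Bijective (fun t : Fˣ × Fˣ × F =>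
    (⟨mkB t.1 t.2.1 t.2.2, mkB_mem _ _ _⟩ : Cfsg.upperTriangularGL 2 F)) := by
  constructor
  · rintro ⟨p, r, x⟩ ⟨p', r', x'⟩ h
    have h' := congrArg (fun b : Cfsg.upperTriangularGL 2 F =>
      ((b : GL (Fin 2) F) : Matrix (Fin 2) (Fin 2) F)) h
    simp only [coe_mkB] at h'
    have e1 := congrFun (congrFun h' 0) 0
    have e2 := congrFun (congrFun h' 1) 1
    have e3 := congrFun (congrFun h' 0) 1
    simp at e1 e2 e3
    exact Prod.ext (Units.ext e1) (Prod.ext (Units.ext e2) e3)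
  · rintro ⟨g, hg⟩
    obtain ⟨p, r, x, rfl⟩ := exists_mkB ((mem_B_iff g).1 hg)
    exact ⟨(p, r, x), rfl⟩

theorem mkS_bijective : Function.Bijective (fun t : Fˣ × F =>
    (⟨mkS t.1 t.2, mkS_mem _ _⟩ : BS F)) := by
  constructor
  · rintro ⟨p, x⟩ ⟨p', x'⟩ h
    have h' := congrArg (fun b : BS F => ((b : SL(2, F)) : Matrix (Fin 2) (Fin 2) F)) h
    simp only [coe_mkS] at h'
    have e1 := congrFun (congrFun h' 0) 0
    have e3 := congrFun (congrFun h' 0) 1
    simp at e1 e3
    exact Prod.ext (Units.ext e1) e3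
  · rintro ⟨g, hg⟩
    obtain ⟨p, r, x, hm⟩ := exists_mkB (g := Matrix.SpecialLinearGroup.toGL g) ((mem_BS_iff g).1 hg)
    have hM : (g : Matrix (Fin 2) (Fin 2) F) = !![(p : F), x; 0, (r : F)] :=
      congrArg Units.val hm
    have hd : (p : F) * r = 1 := by
      have h := g.2
      rw [hM, det_fin_two_of] at h
      linear_combination h
    have hr : r = p⁻¹ := eq_inv_of_mul_eq_one_right (Units.ext hd)
    refine ⟨(p, x), Subtype.ext (Subtype.ext ?_)⟩
    simp [hM, hr]

/-- Coset representatives of the Borel subgroup of `SL₂`. -/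
def repS : Option F → SL(2, F)
  | none => 1
  | some a => ⟨!![a, -1; 1, 0], by simp [det_fin_two_of]⟩

/-- Coset representatives of the Borel subgroup of `GL₂`. -/
def repG (o : Option F) : GL (Fin 2) F := Matrix.SpecialLinearGroup.toGL (repS o)

theorem repS_inv (a : F) :
    (((repS (some a))⁻¹ : SL(2, F)) : Matrix (Fin 2) (Fin 2) F) = !![0, 1; -1, a] := by
  rw [Matrix.SpecialLinearGroup.coe_inv]
  show adjugate (!![a, -1; 1, 0] : Matrix (Fin 2) (Fin 2) F) = _
  simp [adjugate_fin_two_of]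

theorem repG_inv (a : F) :
    (((repG (some a))⁻¹ : GL (Fin 2) F) : Matrix (Fin 2) (Fin 2) F) = !![0, 1; -1, a] := by
  rw [repG, ← map_inv]
  exact repS_inv a

theorem conj_repG (a : F) (g : GL (Fin 2) F) :
    (((repG (some a))⁻¹ * g * repG (some a) : GL (Fin 2) F) : Matrix (Fin 2) (Fin 2) F) 1 0 =
      a ^ 2 * g 1 0 + a * (g 1 1 - g 0 0) - g 0 1 := by
  rw [Units.val_mul, Units.val_mul, repG_inv]
  show ((!![0, 1; -1, a] : Matrix (Fin 2) (Fin 2) F) * g * !![a, -1; 1, 0]) 1 0 = _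
  simp [Matrix.mul_apply, Fin.sum_univ_two, Matrix.vecMul, dotProduct]
  ring

theorem conj_repG_mkB (a : F) (p r : Fˣ) {x : F} (h : x = a * ((r : F) - p)) :
    (repG (some a))⁻¹ * mkB p r x * repG (some a) = mkB r p 0 := by
  refine Units.ext ?_
  rw [Units.val_mul, Units.val_mul, repG_inv]
  show (!![0, 1; -1, a] : Matrix (Fin 2) (Fin 2) F) * !![(p : F), x; 0, (r : F)] * !![a, -1; 1, 0] = _
  subst h
  ext i j
  fin_cases i <;> fin_cases j <;> simp [Matrix.mul_apply, Fin.sum_univ_two]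
  ring

theorem repS_bijective :
    Function.Bijective (fun o : Option F => (QuotientGroup.mk (repS o) : SL(2, F) ⧸ BS F)) := by
  have key : ∀ (a : F) (g : SL(2, F)),
      (((repS (some a))⁻¹ * g : SL(2, F)) : Matrix (Fin 2) (Fin 2) F) 1 0 = a * g 1 0 - g 0 0 := by
    intro a g
    rw [Matrix.SpecialLinearGroup.coe_mul, repS_inv]
    simp [Matrix.mul_apply, Fin.sum_univ_two]
    ring
  constructor
  · rintro (_ | a) (_ | b) h
    · rfl
    · have h' := (mem_BS_iff _).1 (QuotientGroup.eq.1 h.symm)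
      rw [key] at h'; simp [repS] at h'
    · have h' := (mem_BS_iff _).1 (QuotientGroup.eq.1 h)
      rw [key] at h'; simp [repS] at h'
    · have h' := (mem_BS_iff _).1 (QuotientGroup.eq.1 h)
      rw [key] at h'
      simp [repS, sub_eq_zero] at h'
      exact congrArg some h'
  · intro C
    induction C using QuotientGroup.induction_on with
    | _ g =>
      by_cases h : (g : Matrix (Fin 2) (Fin 2) F) 1 0 = 0
      · exact ⟨none, QuotientGroup.eq.2 ((mem_BS_iff _).2 (by simpa [repS] using h))⟩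
      · refine ⟨some ((g : Matrix (Fin 2) (Fin 2) F) 0 0 / (g : Matrix (Fin 2) (Fin 2) F) 1 0),
          QuotientGroup.eq.2 ((mem_BS_iff _).2 ?_)⟩
        rw [key, div_mul_cancel₀ _ h, sub_self]

theorem repG_inv_mul (a : F) (g : GL (Fin 2) F) :
    (((repG (some a))⁻¹ * g : GL (Fin 2) F) : Matrix (Fin 2) (Fin 2) F) 1 0 = a * g 1 0 - g 0 0 := by
  rw [Units.val_mul, repG_inv]
  simp [Matrix.mul_apply, Fin.sum_univ_two]
  ring

theorem repG_bijective :
    Function.Bijective (fun o : Option F =>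
      (QuotientGroup.mk (repG o) : GL (Fin 2) F ⧸ Cfsg.upperTriangularGL 2 F)) := by
  constructor
  · intro o o' h
    refine repS_bijective.injective (QuotientGroup.eq.2 ?_)
    show Matrix.SpecialLinearGroup.toGL ((repS o)⁻¹ * repS o') ∈ Cfsg.upperTriangularGL 2 F
    rw [map_mul, map_inv]
    exact QuotientGroup.eq.1 h
  · intro C
    induction C using QuotientGroup.induction_on with
    | _ g =>
      by_cases h : (g : Matrix (Fin 2) (Fin 2) F) 1 0 = 0
      · exact ⟨none, QuotientGroup.eq.2 ((mem_B_iff _).2 (by simpa [repG, repS] using h))⟩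
      · refine ⟨some ((g : Matrix (Fin 2) (Fin 2) F) 0 0 / (g : Matrix (Fin 2) (Fin 2) F) 1 0),
          QuotientGroup.eq.2 ((mem_B_iff _).2 ?_)⟩
        rw [repG_inv_mul, div_mul_cancel₀ _ h, sub_self]

/-- The linear function `α(b₀₀) β(b₁₁)` on the Borel subgroup of `GL₂`. -/
noncomputable def thetaG (α β : MulChar F ℂ) : Cfsg.upperTriangularGL 2 F → ℂ :=
  fun b => α (((b : GL (Fin 2) F) : Matrix (Fin 2) (Fin 2) F) 0 0) *
    β (((b : GL (Fin 2) F) : Matrix (Fin 2) (Fin 2) F) 1 1)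

/-- The linear function `α(b₀₀)` on the Borel subgroup of `SL₂`. -/
noncomputable def thetaS (α : MulChar F ℂ) : BS F → ℂ :=
  fun b => α (((b : SL(2, F)) : Matrix (Fin 2) (Fin 2) F) 0 0)

theorem thetaG_mul (α β : MulChar F ℂ) (a b : Cfsg.upperTriangularGL 2 F) :
    thetaG α β (a * b) = thetaG α β a * thetaG α β b := by
  have ha := (mem_B_iff _).1 a.2
  have hb := (mem_B_iff _).1 b.2
  simp only [thetaG, Subgroup.coe_mul, Units.val_mul, Matrix.mul_apply, Fin.sum_univ_two, ha, hb,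
    mul_zero, zero_mul, add_zero, zero_add, map_mul]
  ring

theorem thetaS_mul (α : MulChar F ℂ) (a b : BS F) :
    thetaS α (a * b) = thetaS α a * thetaS α b := by
  have hb := (mem_BS_iff _).1 b.2
  simp only [thetaS, Subgroup.coe_mul, Matrix.SpecialLinearGroup.coe_mul, Matrix.mul_apply,
    Fin.sum_univ_two, hb, mul_zero, add_zero, map_mul]

theorem thetaG_one (α β : MulChar F ℂ) : thetaG α β 1 = 1 := by simp [thetaG]

theorem thetaS_one (α : MulChar F ℂ) : thetaS α 1 = 1 := by simp [thetaS]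

theorem isCharacter_thetaG (α β : MulChar F ℂ) :
    Cfsg.IsCharacter (Cfsg.upperTriangularGL 2 F) (thetaG α β) :=
  Characters.isCharacter_of_isIrr (Characters.isIrrCharacter_monoidHom
    ({ toFun := thetaG α β, map_one' := thetaG_one α β, map_mul' := thetaG_mul α β } :
      Cfsg.upperTriangularGL 2 F →* ℂ))

theorem isCharacter_thetaS (α : MulChar F ℂ) : Cfsg.IsCharacter (BS F) (thetaS α) :=
  Characters.isCharacter_of_isIrr (Characters.isIrrCharacter_monoidHom
    ({ toFun := thetaS α, map_one' := thetaS_one α, map_mul' := thetaS_mul α } : BS F →* ℂ))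

theorem extend_thetaG_mkB (α β : MulChar F ℂ) (p r : Fˣ) (x : F) :
    Cfsg.extendByZero (Cfsg.upperTriangularGL 2 F) (thetaG α β) (mkB p r x) = α p * β r := by
  rw [CharTheory.IndBasic.extendByZero_of_mem _ _ (mkB_mem p r x)]
  simp [thetaG]

variable [Fintype F] [DecidableEq F]

/-- The principal series function of `GL₂`. -/
noncomputable def pind (α β : MulChar F ℂ) : GL (Fin 2) F → ℂ :=
  Cfsg.indFun (Cfsg.upperTriangularGL 2 F) (thetaG α β)

/-- The principal series function of `SL₂`. -/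
noncomputable def pindS (α : MulChar F ℂ) : SL(2, F) → ℂ :=
  Cfsg.indFun (BS F) (thetaS α)

theorem isCharacter_pind (α β : MulChar F ℂ) : Cfsg.IsCharacter (GL (Fin 2) F) (pind α β) :=
  Characters.isCharacter_indFun _ (isCharacter_thetaG α β)

theorem isCharacter_pindS (α : MulChar F ℂ) : Cfsg.IsCharacter SL(2, F) (pindS α) :=
  Characters.isCharacter_indFun _ (isCharacter_thetaS α)

theorem pind_eq_sum (α β : MulChar F ℂ) (g : GL (Fin 2) F) :
    pind α β g = ∑ o : Option F, Cfsg.extendByZero (Cfsg.upperTriangularGL 2 F) (thetaG α β)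
      ((repG o)⁻¹ * g * repG o) :=
  indFun_eq_sum_reps _ _ _ repG_bijective
    (Characters.char_isClassFunction (isCharacter_thetaG α β)) g

theorem pindS_eq_sum (α : MulChar F ℂ) (g : SL(2, F)) :
    pindS α g = ∑ o : Option F, Cfsg.extendByZero (BS F) (thetaS α) ((repS o)⁻¹ * g * repS o) :=
  indFun_eq_sum_reps _ _ _ repS_bijective
    (Characters.char_isClassFunction (isCharacter_thetaS α)) g

/-- Restriction of the principal series from `GL₂` to `SL₂`. -/
theorem pind_toGL (α β : MulChar F ℂ) (h : SL(2, F)) :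
    pind α β (Matrix.SpecialLinearGroup.toGL h) = pindS (α * β⁻¹) h := by
  rw [pind_eq_sum, pindS_eq_sum]
  refine Finset.sum_congr rfl fun o _ => ?_
  rw [repG, ← map_inv, ← map_mul, ← map_mul]
  set y := (repS o)⁻¹ * h * repS o
  by_cases hy : y ∈ BS F
  · rw [CharTheory.IndBasic.extendByZero_of_mem _ _ (show Matrix.SpecialLinearGroup.toGL y ∈
      Cfsg.upperTriangularGL 2 F from hy), CharTheory.IndBasic.extendByZero_of_mem _ _ hy]
    obtain ⟨⟨p, x⟩, hp⟩ := mkS_bijective.surjective ⟨y, hy⟩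
    have hy' : y = mkS p x := (congrArg Subtype.val hp).symm
    simp only [thetaG, thetaS, hy', toGL_mkS, coe_mkB, coe_mkS]
    simp [MulChar.mul_apply, MulChar.inv_apply']
  · rw [CharTheory.IndBasic.extendByZero_of_notMem _ _ hy,
      CharTheory.IndBasic.extendByZero_of_notMem _ _ (show Matrix.SpecialLinearGroup.toGL y ∉
      Cfsg.upperTriangularGL 2 F from hy)]

theorem pind_mkB (α β : MulChar F ℂ) (p r : Fˣ) (x : F) :
    pind α β (mkB p r x) = α p * β r +
      ((Finset.univ.filter fun a : F => x = a * ((r : F) - p)).card : ℂ) * (α r * β p) := by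
  rw [pind_eq_sum, Fintype.sum_option]
  congr 1
  · rw [show (repG (none : Option F)) = 1 by simp [repG, repS], inv_one, one_mul, mul_one,
      extend_thetaG_mkB]
  · rw [← nsmul_eq_mul, ← Finset.sum_const, Finset.sum_filter]
    refine Finset.sum_congr rfl fun a _ => ?_
    split_ifs with h
    · rw [conj_repG_mkB a p r h, extend_thetaG_mkB]
    · refine CharTheory.IndBasic.extendByZero_of_notMem _ _ fun hm => h ?_
      have := (mem_B_iff _).1 hm
      rw [conj_repG] at this
      simp at this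
      linear_combination -this

theorem pind_mkB_ne (α β : MulChar F ℂ) {p r : Fˣ} (h : p ≠ r) (x : F) :
    pind α β (mkB p r x) = α p * β r + α r * β p := by
  have hne : (r : F) - p ≠ 0 := sub_ne_zero.2 fun e => h (Units.ext e).symm
  rw [pind_mkB, show (Finset.univ.filter fun a : F => x = a * ((r : F) - p)) = {x / ((r : F) - p)} by
    ext a; simp [eq_div_iff hne, eq_comm]]
  simp

theorem pind_mkB_unipotent (α β : MulChar F ℂ) (p : Fˣ) {x : F} (hx : x ≠ 0) :
    pind α β (mkB p p x) = α p * β p := by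
  rw [pind_mkB]
  simp [hx]

theorem pind_eq_zero (α β : MulChar F ℂ) {g : GL (Fin 2) F}
    (h : ∀ (c : F) (v : Fin 2 → F), v ≠ 0 → (g : Matrix (Fin 2) (Fin 2) F) *ᵥ v ≠ c • v) :
    pind α β g = 0 := by
  rw [pind_eq_sum]
  refine Finset.sum_eq_zero fun o _ => CharTheory.IndBasic.extendByZero_of_notMem _ _ fun hm => ?_
  have hm' := (mem_B_iff _).1 hm
  rcases o with _ | a
  · simp [repG, repS] at hm'
    refine h ((g : Matrix (Fin 2) (Fin 2) F) 0 0) ![1, 0] (by simp) ?_
    funext i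
    fin_cases i <;> simp [Matrix.mulVec, dotProduct, hm']
  · rw [conj_repG] at hm'
    refine h ((g : Matrix (Fin 2) (Fin 2) F) 1 0 * a + (g : Matrix (Fin 2) (Fin 2) F) 1 1)
      ![a, 1] (by simp) ?_
    funext i
    fin_cases i <;> simp [Matrix.mulVec, dotProduct]
    linear_combination -hm'

theorem sum_borel (f : Cfsg.upperTriangularGL 2 F → ℂ)
    [Fintype (Cfsg.upperTriangularGL 2 F)] :
    ∑ b, f b = ∑ p : Fˣ, ∑ r : Fˣ, ∑ x : F, f ⟨mkB p r x, mkB_mem p r x⟩ := by
  rw [← (Equiv.ofBijective _ mkB_bijective).sum_comp]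
  simp only [Equiv.ofBijective_apply, Fintype.sum_prod_type]

theorem sum_borelS (f : BS F → ℂ) [Fintype (BS F)] :
    ∑ b, f b = ∑ p : Fˣ, ∑ x : F, f ⟨mkS p x, mkS_mem p x⟩ := by
  rw [← (Equiv.ofBijective _ mkS_bijective).sum_comp]
  simp only [Equiv.ofBijective_apply, Fintype.sum_prod_type]

theorem natCard_B : Nat.card (Cfsg.upperTriangularGL 2 F) =
    (Fintype.card F - 1) * ((Fintype.card F - 1) * Fintype.card F) := by
  rw [← Nat.card_eq_of_bijective _ mkB_bijective, Nat.card_prod, Nat.card_prod,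
    Classical.Linear.natCard_units_eq, Nat.card_eq_fintype_card]

theorem natCard_BS : Nat.card (BS F) = (Fintype.card F - 1) * Fintype.card F := by
  rw [← Nat.card_eq_of_bijective _ mkS_bijective, Nat.card_prod,
    Classical.Linear.natCard_units_eq, Nat.card_eq_fintype_card]

end Cfsg.Agent.GL2.Borel
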