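import Cfsg.Agent.Lib.GL2.ClassifyGL

/-!
# Principal series of `SL₂(q)` and restriction from `GL₂(q)`
-/

set_option autoImplicit false
set_option linter.unusedSectionVars false

open Matrix
open scoped MatrixGroups ComplexConjugate

namespace Cfsg.Agent.GL2.PrincipalSL

open Borel Principal
open Cfsg.Agent.Characters

universe u

variable {F : Type u} [Field F] [Fintype F] [DecidableEq F]

/-- Restriction of a function on `GL₂` to `SL₂`. -/
def res (ψ : GL (Fin 2) F → ℂ) : SL(2, F) → ℂ := ψ ∘ Matrix.SpecialLinearGroup.toGL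

theorem isCharacter_res {ψ : GL (Fin 2) F → ℂ} (h : Cfsg.IsCharacter (GL (Fin 2) F) ψ) :
    Cfsg.IsCharacter SL(2, F) (res ψ) :=
  isCharacter_comp _ h

theorem res_pind (α β : MulChar F ℂ) : res (pind α β) = pindS (α * β⁻¹) :=
  funext fun h => pind_toGL α β h

theorem pindS_apply (α : MulChar F ℂ) (h : SL(2, F)) :
    pindS α h = pind α 1 (Matrix.SpecialLinearGroup.toGL h) := by
  rw [pind_toGL, inv_one, mul_one]

theorem res_lin (α : MulChar F ℂ) : res (lin α) = fun _ => 1 := by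
  funext h
  show α (h : Matrix (Fin 2) (Fin 2) F).det = 1
  rw [h.2, map_one]

theorem pindS_one (α : MulChar F ℂ) : pindS α 1 = (Fintype.card F : ℂ) + 1 := by
  rw [pindS_apply, map_one, pind_one]

theorem pindS_mkS_ne (α : MulChar F ℂ) {p : Fˣ} (h : p ≠ p⁻¹) (x : F) :
    pindS α (mkS p x) = α p + α ((p⁻¹ : Fˣ) : F) := by
  rw [pindS_apply, toGL_mkS, pind_mkB_ne _ _ h]
  simp only [MulChar.one_apply_coe, mul_one]

theorem pindS_uni (α : MulChar F ℂ) {p : Fˣ} (h : p = p⁻¹) {x : F} (hx : x ≠ 0) :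
    pindS α (mkS p x) = α p := by
  rw [pindS_apply, toGL_mkS, ← h, pind_mkB_unipotent _ _ _ hx]
  simp

theorem pindS_eq_zero (α : MulChar F ℂ) {g : SL(2, F)}
    (h : ∀ (c : F) (v : Fin 2 → F), v ≠ 0 → (g : Matrix (Fin 2) (Fin 2) F) *ᵥ v ≠ c • v) :
    pindS α g = 0 := by
  rw [pindS_apply]
  exact pind_eq_zero α 1 h

theorem sum_pindS (α : MulChar F ℂ) (p : Fˣ) :
    ∑ x : F, pindS α (mkS p x) = (Fintype.card F : ℂ) * (α p + α ((p⁻¹ : Fˣ) : F)) := by
  simp_rw [pindS_apply, toGL_mkS, sum_pind, MulChar.one_apply_coe, mul_one]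

theorem classInner_pindS_left (α : MulChar F ℂ) {χ : SL(2, F) → ℂ}
    (hχ : Cfsg.IsClassFunction SL(2, F) χ) :
    Cfsg.classInner (pindS α) χ =
      (Nat.card (BS F) : ℂ)⁻¹ * ∑ p : Fˣ, α p * conj (∑ x : F, χ (mkS p x)) := by
  haveI := Fintype.ofFinite (BS F)
  rw [pindS, frobenius_reciprocity _ _ hχ, classInner_def, sum_borelS]
  congr 1
  refine Finset.sum_congr rfl fun p _ => ?_
  rw [map_sum, Finset.mul_sum]
  refine Finset.sum_congr rfl fun x _ => ?_
  simp [thetaS]

theorem apply_inv_units (α : MulChar F ℂ) (p : Fˣ) : α ((p⁻¹ : Fˣ) : F) = α⁻¹ p := by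
  rw [MulChar.inv_apply, Ring.inverse_unit]

theorem classInner_pindS (α α' : MulChar F ℂ) [DecidableEq (MulChar F ℂ)] :
    Cfsg.classInner (pindS α) (pindS α') =
      (if α = α' then 1 else 0) + (if α = α'⁻¹ then 1 else 0) := by
  rw [classInner_pindS_left α (char_isClassFunction (isCharacter_pindS α'))]
  have hsum : ∀ p : Fˣ, α p * conj (∑ x : F, pindS α' (mkS p x)) =
      (Fintype.card F : ℂ) * (α * α'⁻¹) p + (Fintype.card F : ℂ) * (α * α'⁻¹⁻¹) p := by
    intro p
    rw [sum_pindS, map_mul, map_add, Complex.conj_natCast, apply_inv_units, ← apply_mul_inv,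
      ← apply_mul_inv]
    ring
  simp_rw [hsum, Finset.sum_add_distrib, ← Finset.mul_sum, sum_units, mul_inv_eq_one, natCard_BS_cast]
  have h1 := card_units_ne_zero (F := F)
  have h2 := card_ne_zero (F := F)
  split_ifs <;> simp <;> field_simp <;> norm_num

theorem classInner_pindS_one (α : MulChar F ℂ) [Decidable (α = 1)] :
    Cfsg.classInner (pindS α) (fun _ => 1) = if α = 1 then 1 else 0 := by
  rw [classInner_pindS_left α (char_isClassFunction isCharacter_one)]
  have hsum : ∀ p : Fˣ, α p * conj (∑ _x : F, (1 : ℂ)) = (Fintype.card F : ℂ) * α p := by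
    intro p
    simp [mul_comm]
  simp_rw [hsum, ← Finset.mul_sum, sum_units, natCard_BS_cast]
  have h1 := card_units_ne_zero (F := F)
  have h2 := card_ne_zero (F := F)
  split_ifs <;> simp <;> field_simp

theorem isIrr_pindS {α : MulChar F ℂ} (h : α ^ 2 ≠ 1) : Cfsg.IsIrrCharacter SL(2, F) (pindS α) := by
  classical
  refine isIrr_of_isCharacter_of_norm_one (isCharacter_pindS α) ?_
  rw [classInner_pindS, if_pos rfl, if_neg, add_zero]
  rw [eq_inv_iff_mul_eq_one, ← sq]
  exact h

theorem classInner_pindS_self_of_sq {α : MulChar F ℂ} (h : α ^ 2 = 1) :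
    Cfsg.classInner (pindS α) (pindS α) = 2 := by
  classical
  rw [classInner_pindS, if_pos rfl, if_pos (eq_inv_iff_mul_eq_one.2 (by rw [← sq, h]))]
  norm_num

theorem pindS_inv (α : MulChar F ℂ) : pindS α⁻¹ = pindS α := by
  classical
  refine sub_eq_zero.1 (classInner_self_eq_zero.1 ?_)
  simp only [classInner_sub_left, classInner_sub_right, classInner_pindS, inv_inv]
  by_cases h : α = α⁻¹
  · rw [← h]; norm_num
  · simp [h, Ne.symm h]

theorem pindS_eq_iff (α β : MulChar F ℂ) : pindS α = pindS β ↔ α = β ∨ α = β⁻¹ := by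
  classical
  refine ⟨fun h => ?_, ?_⟩
  · by_contra hc
    push Not at hc
    have h1 : Cfsg.classInner (pindS α) (pindS α) = Cfsg.classInner (pindS α) (pindS β) := by rw [← h]
    rw [classInner_pindS, classInner_pindS, if_pos rfl, if_neg hc.1, if_neg hc.2] at h1
    split_ifs at h1 <;> norm_num at h1
  · rintro (rfl | rfl)
    · rfl
    · exact pindS_inv _

/-- The Steinberg character of `SL₂`. -/
noncomputable def StS : SL(2, F) → ℂ := pindS 1 - fun _ => 1

theorem res_stTw (α : MulChar F ℂ) : res (stTw α) = (StS : SL(2, F) → ℂ) := by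
  funext h
  have h1 : lin α (Matrix.SpecialLinearGroup.toGL h) = 1 := congrFun (res_lin α) h
  show St (Matrix.SpecialLinearGroup.toGL h) * lin α (Matrix.SpecialLinearGroup.toGL h) = _
  rw [h1, mul_one, St, StS, Pi.sub_apply, Pi.sub_apply, pindS_apply]

theorem isIrr_StS : Cfsg.IsIrrCharacter SL(2, F) (StS : SL(2, F) → ℂ) := by
  classical
  refine isIrr_of_gen_norm_one (isGen_sub (isGen_of_isCharacter (isCharacter_pindS 1))
    (isGen_of_isCharacter isCharacter_one)) ?_ ?_
  · unfold StS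
    simp only [classInner_sub_left, classInner_sub_right]
    rw [classInner_conj_symm (pindS 1) (fun _ => 1), classInner_pindS_one, classInner_pindS_self_of_sq
      (one_pow 2), classInner_isIrr_self isIrrCharacter_one]
    simp
    norm_num
  · simp [StS, pindS_one, Fintype.card_pos]

theorem StS_one : (StS : SL(2, F) → ℂ) 1 = Fintype.card F := by simp [StS, pindS_one]

theorem card_sq_eq_one : Nat.card {α : MulChar F ℂ // α ^ 2 = 1} = Nat.card {r : F // r ^ 2 = 1} := by
  obtain ⟨e⟩ := MulChar.mulEquiv_units F ℂ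
  refine Nat.card_congr ?_
  refine (e.toEquiv.subtypeEquiv (q := fun a : Fˣ => a ^ 2 = 1) fun α => ?_).trans
    { toFun := fun a => ⟨a.1, by rw [← Units.val_pow_eq_pow_val, a.2, Units.val_one]⟩
      invFun := fun r => ⟨Units.mk0 r.1 (fun h => by simpa [h] using r.2), Units.ext (by simp [r.2])⟩
      left_inv := fun a => Subtype.ext (Units.ext rfl)
      right_inv := fun r => rfl }
  show α ^ 2 = 1 ↔ e α ^ 2 = 1
  rw [← map_pow, ← e.injective.eq_iff (b := 1), map_one]

theorem center_mul {G : Type*} [Group G] [Fintype G] {χ : G → ℂ} (h : Cfsg.IsIrrCharacter G χ)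
    {z : G} (hz : ∀ g, z * g = g * z) (g : G) :
    χ (g * z) = χ g * χ z / χ 1 ∧ ‖χ z‖ = ‖χ 1‖ := by
  have key : ∀ a : G, χ (a * z) = χ a * χ z / χ 1 := by
    intro a
    have h1 := sum_mul_conjugates h a z
    have hx : ∀ x : G, x * z * x⁻¹ = z := fun x => by rw [← hz, mul_inv_cancel_right]
    simp only [hx, Finset.sum_const, Finset.card_univ, nsmul_eq_mul,
      mul_div_assoc, mul_assoc, ← Nat.card_eq_fintype_card] at h1
    rw [mul_div_assoc]
    exact mul_left_cancel₀ natCard_ne_zero h1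
  refine ⟨key g, ?_⟩
  have h2 := key z⁻¹
  rw [inv_mul_cancel, char_inv (isCharacter_of_isIrr h), eq_div_iff (irr_one_ne_zero h),
    mul_comm (conj _), Complex.mul_conj'] at h2
  have h3 := congrArg norm h2
  rw [norm_mul, norm_pow, Complex.norm_real, norm_norm, ← sq] at h3
  exact (pow_left_inj₀ (norm_nonneg _) (norm_nonneg _) two_ne_zero).1 h3.symm

theorem card_scalar_fiber (g : GL (Fin 2) F) :
    (Finset.univ.filter fun t : Fˣ × SL(2, F) =>
      Counts.scalarGL t.1 * Matrix.SpecialLinearGroup.toGL t.2 = g).card ≤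
        Nat.card {r : F // r ^ 2 = 1} := by
  classical
  set s := Finset.univ.filter fun t : Fˣ × SL(2, F) =>
      Counts.scalarGL t.1 * Matrix.SpecialLinearGroup.toGL t.2 = g
  rcases s.eq_empty_or_nonempty with h | ⟨t₀, ht₀⟩
  · simp [h]
  rw [Nat.card_eq_fintype_card, ← Finset.card_univ]
  have hdet : ∀ t ∈ s, (t.1 : F) ^ 2 = (g : Matrix (Fin 2) (Fin 2) F).det := by
    intro t ht
    rw [← (Finset.mem_filter.1 ht).2, Units.val_mul, det_mul]
    show _ = ((t.1 : F) • (1 : Matrix (Fin 2) (Fin 2) F)).det * (t.2 : Matrix (Fin 2) (Fin 2) F).det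
    rw [t.2.2]
    simp
  refine Finset.card_le_card_of_injOn (fun t : Fˣ × SL(2, F) =>
    if h : ((t.1 : F) / t₀.1) ^ 2 = 1 then (⟨_, h⟩ : {r : F // r ^ 2 = 1}) else ⟨1, one_pow 2⟩)
    (fun _ _ => Finset.mem_univ _) ?_
  intro t ht t' ht' he
  have h1 : ∀ a ∈ s, ((a.1 : F) / t₀.1) ^ 2 = 1 := fun a ha => by
    rw [div_pow, hdet a ha, hdet t₀ ht₀, div_self (Classes.det_val_ne_zero g)]
  simp only [dif_pos (h1 t ht), dif_pos (h1 t' ht'), Subtype.mk.injEq] at he
  have e1 : t.1 = t'.1 := Units.ext ((div_left_inj' t₀.1.ne_zero).1 he)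
  refine Prod.ext e1 (Matrix.SpecialLinearGroup.toGL_injective ?_)
  have := (Finset.mem_filter.1 ht).2.trans (Finset.mem_filter.1 ht').2.symm
  rw [e1] at this
  exact mul_left_cancel this

/-- The restriction of an irreducible character of `GL₂` has norm at most the number of `±1`. -/
theorem norm_res_le {ψ : GL (Fin 2) F → ℂ} (hψ : Cfsg.IsIrrCharacter (GL (Fin 2) F) ψ) :
    ∃ n : ℕ, n ≤ Nat.card {r : F // r ^ 2 = 1} ∧ Cfsg.classInner (res ψ) (res ψ) = (n : ℂ) := by
  classical
  obtain ⟨n, hn⟩ := classInner_char_nat (isCharacter_res (isCharacter_of_isIrr hψ))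
    (isCharacter_res (isCharacter_of_isIrr hψ))
  refine ⟨n, ?_, hn⟩
  have hG := classInner_isIrr_self hψ
  rw [classInner_def] at hn hG
  simp only [Complex.mul_conj, ← Complex.ofReal_sum, ← Complex.normSq_eq_norm_sq] at hn hG
  rw [inv_mul_eq_iff_eq_mul₀ natCard_ne_zero] at hn hG
  have hn' : ∑ h : SL(2, F), Complex.normSq (res ψ h) = (Nat.card SL(2, F) : ℝ) * n := by
    exact_mod_cast hn
  have hG' : ∑ g : GL (Fin 2) F, Complex.normSq (ψ g) = (Nat.card (GL (Fin 2) F) : ℝ) := by
    rw [mul_one] at hG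
    exact_mod_cast hG
  set k := Nat.card {r : F // r ^ 2 = 1} with hk
  have hle : ∑ t : Fˣ × SL(2, F), Complex.normSq (res ψ t.2) ≤
      (k : ℝ) * ∑ g : GL (Fin 2) F, Complex.normSq (ψ g) := by
    have hval : ∀ t : Fˣ × SL(2, F), Complex.normSq (res ψ t.2) =
        Complex.normSq (ψ (Counts.scalarGL t.1 * Matrix.SpecialLinearGroup.toGL t.2)) := by
      intro t
      have hz : ∀ g : GL (Fin 2) F, Counts.scalarGL t.1 * g = g * Counts.scalarGL t.1 := fun g =>
        Units.ext ((Counts.isScalar_scalarGL t.1).commute _).symm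
      obtain ⟨h1, h2⟩ := center_mul hψ hz (Matrix.SpecialLinearGroup.toGL t.2)
      rw [hz, h1, Complex.normSq_div, Complex.normSq_mul]
      simp only [Complex.normSq_eq_norm_sq, h2]
      rw [mul_div_assoc, div_self (pow_ne_zero 2 (norm_ne_zero_iff.2 (irr_one_ne_zero hψ))), mul_one]
      rfl
    simp_rw [hval]
    rw [← Finset.sum_fiberwise' Finset.univ
      (fun t : Fˣ × SL(2, F) => Counts.scalarGL t.1 * Matrix.SpecialLinearGroup.toGL t.2)
      (fun g => Complex.normSq (ψ g)), Finset.mul_sum]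
    refine Finset.sum_le_sum fun g _ => ?_
    rw [Finset.sum_const, nsmul_eq_mul]
    exact mul_le_mul_of_nonneg_right (Nat.cast_le.2 (card_scalar_fiber g)) (Complex.normSq_nonneg _)
  rw [Fintype.sum_prod_type] at hle
  simp only [Finset.sum_const, Finset.card_univ, nsmul_eq_mul] at hle
  rw [hn', hG', Classical.Linear.natCard_GL_eq_mul, ← Fintype.card_units, Nat.cast_mul] at hle
  have hpos : (0 : ℝ) < (Fintype.card Fˣ : ℝ) * (Nat.card SL(2, F) : ℝ) :=
    mul_pos (Nat.cast_pos.2 Fintype.card_pos) (Nat.cast_pos.2 Nat.card_pos)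
  exact_mod_cast (show (n : ℝ) ≤ k by nlinarith)

end Cfsg.Agent.GL2.PrincipalSL
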