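import Cfsg.Agent.Lib.GL2.ClassifySL

/-!
# The six kinds of irreducible characters of `SL₂(q)` and their numbers
-/

set_option autoImplicit false
set_option linter.unusedSectionVars false

open Matrix
open scoped MatrixGroups ComplexConjugate

namespace Cfsg.Agent.GL2.CountsSL

open Borel Principal PrincipalSL ClassifySL
open Cfsg.Agent.Characters

universe u

variable {F : Type u} [Field F] [Fintype F] [DecidableEq F]

/-- Twice the degree of each kind. -/
def deg2 (q : ℕ) : Fin 6 → ℕ := ![2, 2 * q, 2 * q + 2, q + 1, 2 * (q - 1), q - 1]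

/-- The kinds that are cuspidal. -/
def cuspKind : Fin 6 → Bool := ![false, false, false, false, true, true]

/-- The kind of a character. -/
def Kind (i : Fin 6) (χ : SL(2, F) → ℂ) : Prop :=
  (IsCuspS χ ↔ cuspKind i = true) ∧ 2 * χ 1 = (deg2 (Fintype.card F) i : ℂ)

theorem deg2_injective {q : ℕ} (hq : 4 ≤ q) : Function.Injective (deg2 q) := by
  intro i j h
  fin_cases i <;> fin_cases j <;> simp [deg2] at h ⊢ <;> omega

theorem kind_unique {i j : Fin 6} {χ : SL(2, F) → ℂ} (hi : Kind i χ) (hj : Kind j χ) : i = j := by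
  have hq := Fintype.one_lt_card (α := F)
  have hd : deg2 (Fintype.card F) i = deg2 (Fintype.card F) j :=
    Nat.cast_injective (R := ℂ) (hi.2.symm.trans hj.2)
  have hc : cuspKind i = cuspKind j := by
    rw [Bool.eq_iff_iff, ← hi.1, hj.1]
  fin_cases i <;> fin_cases j <;> simp [deg2, cuspKind] at hd hc ⊢ <;> omega

theorem cast_sub_one : ((Fintype.card F - 1 : ℕ) : ℂ) = (Fintype.card F : ℂ) - 1 := by
  rw [Nat.cast_sub Fintype.card_pos, Nat.cast_one]

theorem kind_zero : Kind 0 (fun _ => 1 : SL(2, F) → ℂ) :=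
  ⟨by simp [cuspKind, one_not_cusp], by simp [deg2]⟩

theorem kind_one : Kind 1 (StS : SL(2, F) → ℂ) :=
  ⟨by simp [cuspKind, StS_not_cusp], by simp [deg2, StS_one]⟩

theorem kind_two {α : MulChar F ℂ} (h : α ^ 2 ≠ 1) : Kind 2 (pindS α) :=
  ⟨by simp [cuspKind, pindS_not_cusp h], by simp [deg2, pindS_one]; ring⟩

theorem kind_three {χ : SL(2, F) → ℂ} (hχ : Cfsg.IsIrrCharacter SL(2, F) χ) (h : IsHalf χ) :
    Kind 3 χ :=
  ⟨by simp [cuspKind, (isIrr_half hχ h).1], by simp [deg2, (isIrr_half hχ h).2]⟩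

theorem exists_kind {χ : SL(2, F) → ℂ} (hχ : Cfsg.IsIrrCharacter SL(2, F) χ) : ∃ i, Kind i χ := by
  rcases classify_degree hχ with ⟨rfl, -⟩ | ⟨rfl, -⟩ | ⟨⟨α, hα, rfl⟩, -⟩ | ⟨h, -⟩ | ⟨h, h1, -⟩ |
    ⟨h, -, h1⟩
  · exact ⟨0, kind_zero⟩
  · exact ⟨1, kind_one⟩
  · exact ⟨2, kind_two hα⟩
  · exact ⟨3, kind_three hχ h⟩
  · exact ⟨4, by simp [cuspKind, h], by simp [deg2, h1, cast_sub_one]⟩
  · exact ⟨5, by simp [cuspKind, h], by simp [deg2, h1, cast_sub_one]⟩

theorem kind_cases {χ : SL(2, F) → ℂ} (hχ : Cfsg.IsIrrCharacter SL(2, F) χ) :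
    (Kind 0 χ → χ = fun _ => 1) ∧ (Kind 1 χ → χ = StS) ∧
      (Kind 2 χ → ∃ α, α ^ 2 ≠ 1 ∧ χ = pindS α) ∧ (Kind 3 χ → IsHalf χ) := by
  rcases classify hχ with rfl | rfl | ⟨α, hα, rfl⟩ | h | h
  · exact ⟨fun _ => rfl, fun h => absurd (kind_unique kind_zero h) (by decide),
      fun h => absurd (kind_unique kind_zero h) (by decide),
      fun h => absurd (kind_unique kind_zero h) (by decide)⟩
  · exact ⟨fun h => absurd (kind_unique kind_one h) (by decide), fun _ => rfl,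
      fun h => absurd (kind_unique kind_one h) (by decide),
      fun h => absurd (kind_unique kind_one h) (by decide)⟩
  · exact ⟨fun h => absurd (kind_unique (kind_two hα) h) (by decide),
      fun h => absurd (kind_unique (kind_two hα) h) (by decide), fun _ => ⟨α, hα, rfl⟩,
      fun h => absurd (kind_unique (kind_two hα) h) (by decide)⟩
  · exact ⟨fun h' => absurd (kind_unique (kind_three hχ h) h') (by decide),
      fun h' => absurd (kind_unique (kind_three hχ h) h') (by decide),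
      fun h' => absurd (kind_unique (kind_three hχ h) h') (by decide), fun _ => h⟩
  · refine ⟨fun h' => ?_, fun h' => ?_, fun h' => ?_, fun h' => ?_⟩ <;>
      exact absurd (h'.1.1 h) (by simp [cuspKind])

theorem kind_of_degree (hq : 4 ≤ Fintype.card F) {χ : SL(2, F) → ℂ}
    (hχ : Cfsg.IsIrrCharacter SL(2, F) χ) {i : Fin 6}
    (h : 2 * χ 1 = (deg2 (Fintype.card F) i : ℂ)) : Kind i χ := by
  obtain ⟨j, hj⟩ := exists_kind hχ
  rw [deg2_injective hq (Nat.cast_injective (R := ℂ) (h.symm.trans hj.2))]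
  exact hj

theorem card_classes : ∃ k : ℕ, Nat.card {r : F // r ^ 2 = 1} = k ∧ 1 ≤ k ∧ k ≤ 2 ∧
    Nat.card (ConjClasses SL(2, F)) + 2 = Fintype.card F + 3 * k := by
  classical
  by_cases h2 : (2 : F) = 0
  · haveI : CharP F 2 := CharTwo.of_one_ne_zero_of_two_eq_zero one_ne_zero h2
    exact ⟨1, Counts.sq_eq_one_card_two, le_rfl, by omega, by rw [Counts.card_classes_SL_even]⟩
  · have hodd : Odd (Fintype.card F) :=
      Nat.odd_iff.2 (FiniteField.odd_card_of_char_ne_two (fun hc => h2 (by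
        rw [show (2 : F) = ((2 : ℕ) : F) by norm_num, ← hc, ringChar.Nat.cast_ringChar])))
    exact ⟨2, Counts.sq_eq_one_card_odd h2, by omega, le_rfl, by rw [Counts.card_classes_SL_odd hodd]⟩

theorem card_half :
    Nat.card {χ : Cfsg.IrrCharacter SL(2, F) // Kind 3 (χ : SL(2, F) → ℂ)} + 2 =
      2 * Nat.card {r : F // r ^ 2 = 1} := by
  classical
  obtain ⟨k, hk, hk1, hk2, -⟩ := card_classes (F := F)
  haveI := Fintype.ofFinite (MulChar F ℂ)
  have hkα := card_sq_eq_one (F := F)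
  rw [hk, Nat.card_eq_fintype_card, Fintype.card_subtype] at hkα
  rw [hk]
  rcases (show k = 1 ∨ k = 2 by omega) with rfl | rfl
  · have : IsEmpty {χ : Cfsg.IrrCharacter SL(2, F) // Kind 3 (χ : SL(2, F) → ℂ)} := by
      refine ⟨fun ⟨χ, hχ⟩ => ?_⟩
      obtain ⟨α, χ', hα, hα1, -⟩ := (kind_cases χ.2).2.2.2 hχ
      obtain ⟨a, ha⟩ := Finset.card_eq_one.1 hkα
      have h1 : α ∈ ({a} : Finset (MulChar F ℂ)) := ha ▸ by simp [hα]
      have h2 : (1 : MulChar F ℂ) ∈ ({a} : Finset (MulChar F ℂ)) := ha ▸ by simp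
      rw [Finset.mem_singleton] at h1 h2
      exact hα1 (h1.trans h2.symm)
    rw [Nat.card_of_isEmpty]
  · obtain ⟨α, hα, hα1⟩ := Finset.exists_mem_ne (by omega :
      1 < (Finset.univ.filter fun γ : MulChar F ℂ => γ ^ 2 = 1).card) 1
    replace hα := (Finset.mem_filter.1 hα).2
    obtain ⟨χ, hχ, hne⟩ : ∃ χ, Cfsg.IsIrrCharacter SL(2, F) χ ∧ Cfsg.classInner (pindS α) χ ≠ 0 := by
      by_contra hc
      push Not at hc
      have h0 := classFun_eq_zero (char_isClassFunction (isCharacter_pindS α)) hc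
      have := classInner_pindS_self_of_sq hα
      rw [h0] at this
      simp at this
    rcases split_of_norm (isCharacter_pindS α) hχ hne le_rfl
      (by rw [classInner_pindS_self_of_sq hα]; norm_num) with ⟨-, h⟩ | ⟨-, χ', hχ', hne', he⟩
    · omega
    have h1 : Kind 3 χ := kind_three hχ ⟨α, χ', hα, hα1, hχ', hne', he⟩
    have h2 : Kind 3 χ' := kind_three hχ' ⟨α, χ, hα, hα1, hχ, hne'.symm, by rw [he, add_comm]⟩
    rw [show Nat.card {χ : Cfsg.IrrCharacter SL(2, F) // Kind 3 (χ : SL(2, F) → ℂ)} = 2 by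
      rw [Nat.card_eq_two_iff]
      refine ⟨⟨⟨χ, hχ⟩, h1⟩, ⟨⟨χ', hχ'⟩, h2⟩, fun h => hne'.symm (congrArg (fun z => z.1.1) h), ?_⟩
      ext ⟨⟨η, hη⟩, h3⟩
      simp only [Set.mem_insert_iff, Set.mem_singleton_iff, Subtype.mk.injEq, Set.mem_univ, iff_true]
      by_contra hc
      push Not at hc
      obtain ⟨β, e1, e2, e3⟩ := half_pair hχ hη hc.1.symm ((kind_cases hχ).2.2.2 h1)
        ((kind_cases hη).2.2.2 h3)
      rw [quadratic_unique e1 e2 hα hα1, he] at e3
      exact hc.2 (add_left_cancel e3).symm]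

theorem card_principal :
    2 * Nat.card {χ : Cfsg.IrrCharacter SL(2, F) // Kind 2 (χ : SL(2, F) → ℂ)} +
      Nat.card {r : F // r ^ 2 = 1} = Fintype.card Fˣ := by
  classical
  haveI := Fintype.ofFinite (MulChar F ℂ)
  haveI := Fintype.ofFinite (Cfsg.IrrCharacter SL(2, F))
  rw [← card_sq_eq_one, Nat.card_eq_fintype_card, Nat.card_eq_fintype_card, Fintype.card_subtype,
    Fintype.card_subtype]
  have hM : Fintype.card (MulChar F ℂ) = Fintype.card Fˣ := by
    rw [← Nat.card_eq_fintype_card, natCard_mulChar, Fintype.card_units]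
  rw [← hM, ← Finset.card_univ (α := MulChar F ℂ),
    ← Finset.card_filter_add_card_filter_not (s := (Finset.univ : Finset (MulChar F ℂ)))
      (fun α => α ^ 2 = 1), add_comm]
  congr 1
  rw [Finset.card_eq_sum_card_fiberwise
    (s := Finset.univ.filter fun α : MulChar F ℂ => ¬ α ^ 2 = 1) (f := fun α => pindS α)
    (t := (Finset.univ.filter fun χ : Cfsg.IrrCharacter SL(2, F) => Kind 2 (χ : SL(2, F) → ℂ)).map
      ⟨Subtype.val, Subtype.val_injective⟩)]
  · rw [Finset.sum_map, Finset.sum_congr rfl (g := fun _ => 2), Finset.sum_const, smul_eq_mul, mul_comm]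
    intro χ hχ
    obtain ⟨α, hα, he⟩ := (kind_cases χ.2).2.2.1 (Finset.mem_filter.1 hχ).2
    rw [show ((Finset.univ.filter fun α : MulChar F ℂ => ¬ α ^ 2 = 1).filter fun β => pindS β =
      (⟨Subtype.val, Subtype.val_injective⟩ : _ ↪ (SL(2, F) → ℂ)) χ) = {α, α⁻¹} by
      ext β
      simp only [Finset.mem_filter, Finset.mem_univ, true_and, Function.Embedding.coeFn_mk, he,
        pindS_eq_iff, Finset.mem_insert, Finset.mem_singleton]
      constructor
      · exact fun h => h.2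
      · rintro (rfl | rfl)
        · exact ⟨hα, Or.inl rfl⟩
        · exact ⟨by rw [inv_pow, inv_eq_one]; exact hα, Or.inr rfl⟩]
    exact Finset.card_pair (fun h => hα (by rw [sq]; nth_rw 2 [h]; rw [mul_inv_cancel]))
  · intro α hα
    simp only [Finset.coe_filter, Set.mem_ofPred_eq, Finset.mem_univ, true_and] at hα
    simp only [Finset.coe_map, Set.mem_image, Finset.mem_coe, Finset.mem_filter, Finset.mem_univ,
      true_and, Function.Embedding.coeFn_mk]
    exact ⟨⟨pindS α, isIrr_pindS hα⟩, kind_two hα, rfl⟩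

/-- The numbers of characters of each kind. -/
theorem families : ∃ k : ℕ, Nat.card {r : F // r ^ 2 = 1} = k ∧
    Nat.card {χ : Cfsg.IrrCharacter SL(2, F) // Kind 0 (χ : SL(2, F) → ℂ)} = 1 ∧
    Nat.card {χ : Cfsg.IrrCharacter SL(2, F) // Kind 1 (χ : SL(2, F) → ℂ)} = 1 ∧
    2 * Nat.card {χ : Cfsg.IrrCharacter SL(2, F) // Kind 2 (χ : SL(2, F) → ℂ)} + k = Fintype.card Fˣ ∧
    Nat.card {χ : Cfsg.IrrCharacter SL(2, F) // Kind 3 (χ : SL(2, F) → ℂ)} + 2 = 2 * k ∧
    2 * Nat.card {χ : Cfsg.IrrCharacter SL(2, F) // Kind 4 (χ : SL(2, F) → ℂ)} + k =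
      Fintype.card Fˣ + 2 ∧
    Nat.card {χ : Cfsg.IrrCharacter SL(2, F) // Kind 5 (χ : SL(2, F) → ℂ)} + 2 = 2 * k := by
  classical
  obtain ⟨k, hk, hk1, hk2, hcl⟩ := card_classes (F := F)
  haveI := Fintype.ofFinite (Cfsg.IrrCharacter SL(2, F))
  have h2 := hk ▸ card_principal (F := F)
  have h3 := hk ▸ card_half (F := F)
  have h0 : Nat.card {χ : Cfsg.IrrCharacter SL(2, F) // Kind 0 (χ : SL(2, F) → ℂ)} = 1 := by
    rw [Nat.card_eq_one_iff_unique]
    exact ⟨⟨fun a b => Subtype.ext (Subtype.ext (((kind_cases a.1.2).1 a.2).trans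
      ((kind_cases b.1.2).1 b.2).symm))⟩, ⟨⟨⟨_, isIrrCharacter_one⟩, kind_zero⟩⟩⟩
  have h1 : Nat.card {χ : Cfsg.IrrCharacter SL(2, F) // Kind 1 (χ : SL(2, F) → ℂ)} = 1 := by
    rw [Nat.card_eq_one_iff_unique]
    exact ⟨⟨fun a b => Subtype.ext (Subtype.ext (((kind_cases a.1.2).2.1 a.2).trans
      ((kind_cases b.1.2).2.1 b.2).symm))⟩, ⟨⟨⟨_, isIrr_StS⟩, kind_one⟩⟩⟩
  let c : Fin 6 → ℕ := fun i =>
    Nat.card {χ : Cfsg.IrrCharacter SL(2, F) // Kind i (χ : SL(2, F) → ℂ)}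
  let t : Cfsg.IrrCharacter SL(2, F) → Fin 6 := fun χ => (exists_kind χ.2).choose
  have ht : ∀ χ i, t χ = i ↔ Kind i (χ : SL(2, F) → ℂ) := fun χ i =>
    ⟨fun h => h ▸ (exists_kind χ.2).choose_spec,
      fun h => kind_unique (exists_kind χ.2).choose_spec h⟩
  have hsum : ∀ g : Fin 6 → ℂ, ∑ χ, g (t χ) = ∑ i, (c i : ℂ) * g i := by
    intro g
    rw [← Finset.sum_fiberwise' Finset.univ t g]
    refine Finset.sum_congr rfl fun i _ => ?_
    rw [Finset.sum_const, nsmul_eq_mul]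
    congr 2
    show _ = Nat.card _
    rw [Nat.card_eq_fintype_card, Fintype.card_subtype]
    exact congrArg Finset.card (Finset.filter_congr fun χ _ => ht χ i)
  have hA := hsum fun _ => 1
  simp only [Finset.sum_const, Finset.card_univ, nsmul_eq_mul, mul_one, ← Nat.cast_sum] at hA
  rw [← Nat.card_eq_fintype_card, card_irrCharacter, Nat.cast_inj, Fin.sum_univ_six] at hA
  have hB := hsum fun i => (deg2 (Fintype.card F) i : ℂ) ^ 2
  rw [Finset.sum_congr rfl (g := fun χ : Cfsg.IrrCharacter SL(2, F) =>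
      4 * (χ : SL(2, F) → ℂ) 1 ^ 2) (fun χ _ => by
        rw [← ((ht χ (t χ)).1 rfl).2]; ring), ← Finset.mul_sum, sum_degree_sq,
    Counts.natCard_SL] at hB
  have hB' : 4 * (Fintype.card F * (Fintype.card F ^ 2 - 1)) =
      ∑ i, c i * deg2 (Fintype.card F) i ^ 2 := by exact_mod_cast hB
  rw [Fin.sum_univ_six] at hB'
  obtain ⟨n, hn⟩ : ∃ n, Fintype.card F = n + 1 :=
    ⟨Fintype.card F - 1, by have := Fintype.card_pos (α := F); omega⟩
  have hn0 : 0 < n := by have := Fintype.one_lt_card (α := F); omega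
  have hu : Fintype.card Fˣ = n := by rw [Fintype.card_units, hn]; omega
  have e : (n + 1) ^ 2 - 1 = n * (n + 2) := by
    have : (n + 1) ^ 2 = n * (n + 2) + 1 := by ring
    omega
  simp only [deg2, hn, e, Matrix.cons_val, Nat.add_sub_cancel] at hB'
  refine ⟨k, hk, h0, h1, h2, h3, ?_, ?_⟩
  all_goals
    have hc0 : c 0 = 1 := h0
    have hc1 : c 1 = 1 := h1
    have hc2 : 2 * c 2 + k = n := hu ▸ h2
    have hc3 : c 3 + 2 = 2 * k := h3
    rw [hc0, hc1] at hB' hA
    have key : n ^ 2 * (4 * c 4 + c 5) = n ^ 2 * (2 * n + 2) := by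
      zify at hB' hc2 hc3 ⊢
      linear_combination -hB' - 2 * ((n : ℤ) + 2) ^ 2 * hc2 - ((n : ℤ) + 2) ^ 2 * hc3
    have key' := Nat.eq_of_mul_eq_mul_left (pow_pos hn0 2) key
    first
      | (show 2 * c 4 + k = _; omega)
      | (show c 5 + 2 = _; omega)

end Cfsg.Agent.GL2.CountsSL
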