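import Cfsg.Agent.Lib.GL2.CountsSL

/-!
# Values of irreducible characters of `SL₂(q)`
-/

set_option autoImplicit false
set_option linter.unusedSectionVars false

open Matrix
open scoped MatrixGroups ComplexConjugate

namespace Cfsg.Agent.GL2.ValuesSL

open Borel Principal PrincipalSL ClassifySL
open Cfsg.Agent.Characters
open Cfsg.Agent.GL2.ClassifyGL (classFun_eq_of_isConj)
open Cfsg.Agent.GL2.Counts (signedUni coe_signedUni isConj_signedUni_iff exists_conj_signedUni)

universe u

variable {F : Type u} [Field F] [Fintype F] [DecidableEq F]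

theorem cusp_sum_eq_zero {χ : SL(2, F) → ℂ} (hχ : Cfsg.IsClassFunction SL(2, F) χ)
    (h : IsCuspS χ) (p₀ : Fˣ) : ∑ x : F, χ (mkS p₀ x) = 0 := by
  classical
  haveI := Fintype.ofFinite (MulChar F ℂ)
  set S : Fˣ → ℂ := fun t => conj (∑ x : F, χ (mkS t x)) with hS
  have hzero : ∀ α : MulChar F ℂ, ∑ t : Fˣ, α t * S t = 0 := by
    intro α
    have := h α
    rw [classInner_pindS_left α hχ, mul_eq_zero, inv_eq_zero, Nat.cast_eq_zero] at this
    exact this.resolve_left Nat.card_pos.ne'
  have hc : ∑ a : MulChar F ℂ, ∑ t : Fˣ, a ((p₀⁻¹ * t : Fˣ) : F) * S t = 0 := by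
    refine Finset.sum_eq_zero fun a _ => ?_
    rw [← mul_zero (a ((p₀⁻¹ : Fˣ) : F)), ← hzero a, Finset.mul_sum]
    refine Finset.sum_congr rfl fun t _ => ?_
    simp only [Units.val_mul, map_mul]
    ring
  rw [Finset.sum_comm] at hc
  simp_rw [← Finset.sum_mul, sum_chars, inv_mul_eq_one] at hc
  rw [Finset.sum_eq_single p₀] at hc
  · simp only [if_pos, mul_eq_zero, card_units_ne_zero, false_or, hS] at hc
    exact star_eq_zero.1 hc
  · intro t _ ht
    rw [if_neg (Ne.symm ht), zero_mul]
  · simp

theorem isConj_mkS_diag {p : Fˣ} (h : p ≠ p⁻¹) (x : F) : IsConj (mkS p 0) (mkS p x) := by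
  have hne : (p : F) ≠ ((p⁻¹ : Fˣ) : F) := fun e => h (Units.ext e)
  refine Classes.isConj_SL_of_surjective ?_ ?_ (by simp [trace_fin_two])
    (fun c _ => Classes.exists_normForm_eq (Or.inr ?_)) <;>
    try simp [Classes.isScalar_iff, ← Units.val_inv_eq_inv_val, hne]
  intro h4
  have hp : (p : F) * ((p⁻¹ : Fˣ) : F) = 1 := by simp
  refine hne (sub_eq_zero.1 (pow_eq_zero_iff two_ne_zero |>.1 ?_))
  linear_combination h4 - 4 * hp

theorem cusp_diag {χ : SL(2, F) → ℂ} (hχ : Cfsg.IsClassFunction SL(2, F) χ) (h : IsCuspS χ)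
    {p : Fˣ} (hp : p ≠ p⁻¹) (x : F) : χ (mkS p x) = 0 := by
  have h1 := cusp_sum_eq_zero hχ h p
  rw [Finset.sum_congr rfl fun y _ => classFun_eq_of_isConj hχ (isConj_mkS_diag hp y),
    Finset.sum_const, Finset.card_univ, nsmul_eq_mul, mul_eq_zero] at h1
  rw [classFun_eq_of_isConj hχ (isConj_mkS_diag hp x)]
  exact h1.resolve_left card_ne_zero

theorem exists_mkS {g : SL(2, F)} (h : (g : Matrix (Fin 2) (Fin 2) F) 1 0 = 0) :
    ∃ p x, g = mkS p x := by
  obtain ⟨⟨p, x⟩, hp⟩ := mkS_bijective.surjective ⟨g, (mem_BS_iff g).2 h⟩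
  exact ⟨p, x, (congrArg Subtype.val hp).symm⟩

theorem elliptic_trace {g : SL(2, F)}
    (hg : ∀ (c : F) (v : Fin 2 → F), v ≠ 0 → (g : Matrix (Fin 2) (Fin 2) F) *ᵥ v ≠ c • v)
    (h2 : (2 : F) ≠ 0) : (g : Matrix (Fin 2) (Fin 2) F).trace ^ 2 ≠ 4 := by
  intro h
  set t := (g : Matrix (Fin 2) (Fin 2) F).trace with ht
  have h0 : Classes.normForm (g : Matrix (Fin 2) (Fin 2) F) (-t, 2) = 0 := by
    simp only [Classes.normForm, ← ht, g.2]
    linear_combination -h
  have := Counts.normForm_eq_zero_of_no_eigen hg h0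
  exact h2 (congrArg Prod.snd this)

/-- The values of the two parts of a split restriction at elements of order `p`. -/
theorem split_values (hodd : Odd (Fintype.card F)) {ψ : GL (Fin 2) F → ℂ}
    (hψ : Cfsg.IsIrrCharacter (GL (Fin 2) F) ψ) {χ χ' : SL(2, F) → ℂ}
    (hχ : Cfsg.IsIrrCharacter SL(2, F) χ) (hχ' : Cfsg.IsIrrCharacter SL(2, F) χ')
    (hne : χ ≠ χ') (he : res ψ = χ + χ') :
    χ (mkS 1 1) + χ' (mkS 1 1) = ψ (mkB 1 1 1) ∧
      (χ (mkS 1 1) - χ' (mkS 1 1)) ^ 2 =
        (-1 : ℂ) ^ ((Fintype.card F - 1) / 2) * (Fintype.card F : ℂ) := by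
  classical
  have h2 : (2 : F) ≠ 0 := Counts.two_ne_zero_of_odd hodd
  have hcl := char_isClassFunction (isCharacter_of_isIrr hχ)
  have hcl' := char_isClassFunction (isCharacter_of_isIrr hχ')
  have hsum := congrFun he (mkS 1 1)
  rw [res, Function.comp_apply, toGL_mkS, inv_one] at hsum
  refine ⟨hsum.symm, ?_⟩
  obtain ⟨e, hensq, hconj⟩ := split_diag hψ hχ hχ' hne he
  set d : SL(2, F) → ℂ := χ - χ' with hd
  let sgn : Bool → F := fun b => bif b then 1 else -1
  let par : Bool → F := fun b => bif b then 1 else (e : F)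
  have hsgn : ∀ b, sgn b ^ 2 = 1 := by rintro (_ | _) <;> simp [sgn]
  have hpar : ∀ b, par b ≠ 0 := by rintro (_ | _) <;> simp [par]
  let U : Bool × Bool → SL(2, F) := fun x => signedUni (sgn x.1) (hsgn x.1) (par x.2)
  have hu : mkS 1 1 = U (true, true) := by
    refine Subtype.ext ?_
    simp [U, sgn, par, coe_signedUni]
  -- interchanging by the diagonal element
  have hsw1 : χ (U (true, false)) = χ' (U (true, true)) := by
    refine hconj _ _ ?_
    rw [eq_mul_inv_iff_mul_eq]
    refine Units.ext ?_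
    rw [Units.val_mul, Units.val_mul]
    show (signedUni (1 : F) (one_pow 2) (e : F) : Matrix (Fin 2) (Fin 2) F) * _ =
      _ * (signedUni (1 : F) (one_pow 2) 1 : Matrix (Fin 2) (Fin 2) F)
    simp [coe_signedUni, U, sgn, par]
  have hsw2 : χ (U (true, true)) = χ' (U (true, false)) := by
    have hU : IsConj (signedUni (1 : F) (one_pow 2) ((e : F) * e)) (signedUni (1 : F) (one_pow 2) 1) :=
      (isConj_signedUni_iff _ (mul_ne_zero e.ne_zero e.ne_zero) one_ne_zero).2
        ⟨(e : F), by rw [mul_one]⟩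
    have h1 : χ (signedUni (1 : F) (one_pow 2) ((e : F) * e)) = χ' (U (true, false)) := by
      refine hconj _ _ ?_
      rw [eq_mul_inv_iff_mul_eq]
      refine Units.ext ?_
      rw [Units.val_mul, Units.val_mul]
      show (signedUni (1 : F) (one_pow 2) ((e : F) * e) : Matrix (Fin 2) (Fin 2) F) * _ =
        _ * (signedUni (1 : F) (one_pow 2) (e : F) : Matrix (Fin 2) (Fin 2) F)
      simp [coe_signedUni, U, sgn, par]
    rw [← h1]
    exact classFun_eq_of_isConj hcl hU
  -- the central element
  set z : SL(2, F) := ⟨(-1 : F) • (1 : Matrix (Fin 2) (Fin 2) F), by simp [det_fin_two]⟩ with hz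
  have hzc : ∀ g, z * g = g * z := fun g => Subtype.ext (by
    rw [Matrix.SpecialLinearGroup.coe_mul, Matrix.SpecialLinearGroup.coe_mul]
    simp [hz])
  have hzz : χ z = χ' z := split_eq hψ hχ hχ' hne he z (Or.inl ⟨-1, rfl⟩)
  have h11 : χ 1 = χ' 1 := (split_degree hψ hχ hχ' hne he).1
  have hUz : ∀ c, U (false, c) = U (true, c) * z := fun c => Subtype.ext (by
    rw [Matrix.SpecialLinearGroup.coe_mul]
    simp [U, sgn, hz, coe_signedUni])
  have hD : ∀ x, Complex.normSq (d (U x)) = Complex.normSq (d (U (true, true))) := by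
    have hpos : ∀ c, Complex.normSq (d (U (true, c))) = Complex.normSq (d (U (true, true))) := by
      rintro (_ | _)
      · rw [hd, Pi.sub_apply, Pi.sub_apply, hsw1, ← hsw2, ← Complex.normSq_neg, neg_sub]
      · rfl
    rintro ⟨_ | _, c⟩
    · obtain ⟨h1, h3⟩ := center_mul hχ hzc (U (true, c))
      obtain ⟨h1', -⟩ := center_mul hχ' hzc (U (true, c))
      rw [← hpos c, hUz, hd, Pi.sub_apply, Pi.sub_apply, h1, h1', ← hzz, ← h11, ← sub_div, ← sub_mul,
        Complex.normSq_div, Complex.normSq_mul, Complex.normSq_eq_norm_sq (χ z), h3,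
        ← Complex.normSq_eq_norm_sq, mul_div_assoc, div_self, mul_one]
      exact (Complex.normSq_pos.2 (irr_one_ne_zero hχ)).ne'
    · exact hpos c
  have hUt : ∀ x, (U x : Matrix (Fin 2) (Fin 2) F).trace = 2 * sgn x.1 := fun x =>
    Counts.trace_signedUni _ _
  have hUs : ∀ x, ¬ Classes.IsScalar (U x : Matrix (Fin 2) (Fin 2) F) := fun x =>
    Counts.not_isScalar_signedUni _ (hpar _)
  have hinj : Function.Injective fun x => ConjClasses.mk (U x) := by
    rintro ⟨b, c⟩ ⟨b', c'⟩ h
    have hh := ConjClasses.mk_eq_mk_iff_isConj.1 h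
    have ht := Counts.trace_eq_of_isConj_SL hh
    rw [hUt, hUt] at ht
    have hb : b = b' := by
      have := mul_left_cancel₀ h2 ht
      revert this
      cases b <;> cases b' <;> simp [sgn]
      · exact fun h' => h2 (by linear_combination -h')
      · exact fun h' => h2 (by linear_combination h')
    subst hb
    have hsq := (isConj_signedUni_iff (hsgn b) (hpar c) (hpar c')).1 hh
    revert hsq
    cases c <;> cases c' <;> simp [par, hensq]
  have hval : ∀ h : SL(2, F), Complex.normSq (d h) =
      if ConjClasses.mk h ∈ Finset.univ.image (fun x => ConjClasses.mk (U x)) then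
        Complex.normSq (d (U (true, true))) else 0 := by
    intro h
    split_ifs with hm
    · obtain ⟨x, -, hx⟩ := Finset.mem_image.1 hm
      rw [← hD x, hd, Pi.sub_apply, Pi.sub_apply,
        classFun_eq_of_isConj hcl (ConjClasses.mk_eq_mk_iff_isConj.1 hx),
        classFun_eq_of_isConj hcl' (ConjClasses.mk_eq_mk_iff_isConj.1 hx)]
    · rw [hd, Pi.sub_apply, split_eq hψ hχ hχ' hne he h ?_, sub_self, map_zero]
      by_contra hc
      push Not at hc
      obtain ⟨hsc, ht⟩ := hc
      obtain ⟨b, hb⟩ : ∃ b, (h : Matrix (Fin 2) (Fin 2) F).trace = 2 * sgn b := by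
        have h' : ((h : Matrix (Fin 2) (Fin 2) F).trace - 2) *
            ((h : Matrix (Fin 2) (Fin 2) F).trace + 2) = 0 := by linear_combination ht
        rcases mul_eq_zero.1 h' with h'' | h''
        · exact ⟨true, by simp [sgn]; linear_combination h''⟩
        · exact ⟨false, by simp [sgn]; linear_combination h''⟩
      obtain ⟨w, hw, hwc⟩ := exists_conj_signedUni hsc (hsgn b) hb
      obtain ⟨c, hc⟩ : ∃ c, IsSquare (par c * w) := by
        rcases Counts.isSquare_or_mul hensq hw with h | h
        · exact ⟨true, by simpa [par] using h⟩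
        · exact ⟨false, h⟩
      exact hm (Finset.mem_image.2 ⟨(b, c), Finset.mem_univ _, ConjClasses.mk_eq_mk_iff_isConj.2
        (((isConj_signedUni_iff (hsgn b) (hpar c) hw).2 hc).trans hwc)⟩)
  have hq0 : (Fintype.card F : ℝ) ≠ 0 := Nat.cast_ne_zero.2 Fintype.card_ne_zero
  have hnormd : ∑ h : SL(2, F), Complex.normSq (d h) = 2 * (Nat.card SL(2, F) : ℝ) := by
    have h1 : Cfsg.classInner d d = 2 := by
      rw [hd]
      simp only [classInner_sub_left, classInner_sub_right, classInner_isIrr_self hχ,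
        classInner_isIrr_self hχ', classInner_isIrr_ne hχ hχ' hne, classInner_isIrr_ne hχ' hχ hne.symm]
      norm_num
    rw [classInner_def, inv_mul_eq_iff_eq_mul₀ natCard_ne_zero] at h1
    simp only [Complex.mul_conj, ← Complex.ofReal_sum] at h1
    rw [mul_comm]
    exact_mod_cast h1
  have hcardN : (Finset.univ.filter fun h : SL(2, F) =>
      ConjClasses.mk h ∈ Finset.univ.image (fun x => ConjClasses.mk (U x))).card * Fintype.card F =
      2 * Nat.card SL(2, F) := by
    rw [Finset.card_eq_sum_card_fiberwise (f := ConjClasses.mk)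
      (s := Finset.univ.filter fun h : SL(2, F) =>
        ConjClasses.mk h ∈ Finset.univ.image (fun x => ConjClasses.mk (U x)))
      (t := Finset.univ.image (fun x => ConjClasses.mk (U x)))
      (fun h hh => (Finset.mem_filter.1 hh).2), Finset.sum_image (fun a _ b _ h => hinj h),
      Finset.sum_mul]
    have hone : ∀ x, ((Finset.univ.filter fun h : SL(2, F) =>
        ConjClasses.mk h ∈ Finset.univ.image (fun x => ConjClasses.mk (U x))).filter
          fun h => ConjClasses.mk h = ConjClasses.mk (U x)).card * Fintype.card F * 2 =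
        Nat.card SL(2, F) := by
      intro x
      rw [Finset.filter_filter, Finset.filter_congr (q := fun h => h ∈ (ConjClasses.mk (U x)).carrier)
        (fun h _ => by
          rw [ConjClasses.mem_carrier_iff_mk_eq]
          exact ⟨fun hh => hh.2, fun hh => ⟨hh ▸ Finset.mem_image.2 ⟨x, Finset.mem_univ _, rfl⟩, hh⟩⟩)]
      rw [← Fintype.card_subtype, ← Nat.card_eq_fintype_card, mul_assoc]
      have hc := Counts.natCard_centralizer_SL_parabolic (U x) (hUs x) (hsgn x.1) (hUt x)
      rw [Counts.sq_eq_one_card_odd h2] at hc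
      rw [← hc]
      exact card_carrier_mul_card_centralizer (U x)
    have h4 : ∑ x : Bool × Bool, ((Finset.univ.filter fun h : SL(2, F) =>
        ConjClasses.mk h ∈ Finset.univ.image (fun x => ConjClasses.mk (U x))).filter
          fun h => ConjClasses.mk h = ConjClasses.mk (U x)).card * Fintype.card F * 2 =
        4 * Nat.card SL(2, F) := by
      simp only [hone, Finset.sum_const, Finset.card_univ, Fintype.card_prod, Fintype.card_bool,
        smul_eq_mul]
    rw [← Finset.sum_mul] at h4
    omega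
  have hDq : Complex.normSq (d (U (true, true))) = Fintype.card F := by
    rw [Finset.sum_congr rfl fun h _ => hval h] at hnormd
    rw [← Finset.sum_filter, Finset.sum_const, nsmul_eq_mul] at hnormd
    have hN := congrArg (Nat.cast : ℕ → ℝ) hcardN
    push_cast at hN
    have hS : (0 : ℝ) < Nat.card SL(2, F) := Nat.cast_pos.2 Nat.card_pos
    nlinarith [hN, hnormd]
  -- reality
  have hinv : (U (true, true))⁻¹ = signedUni (1 : F) (one_pow 2) (-1) := by
    refine inv_eq_of_mul_eq_one_right (Subtype.ext ?_)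
    simp [U, sgn, par, coe_signedUni, Matrix.one_fin_two]
  rw [hu, show χ (U (true, true)) - χ' (U (true, true)) = d (U (true, true)) from rfl]
  have hconjd : conj (d (U (true, true))) = d (U (true, true))⁻¹ := by
    rw [hd, Pi.sub_apply, Pi.sub_apply, map_sub, char_inv (isCharacter_of_isIrr hχ),
      char_inv (isCharacter_of_isIrr hχ')]
  by_cases hm1 : IsSquare (-1 : F)
  · have heven : Even ((Fintype.card F - 1) / 2) := by
      have h4 := FiniteField.isSquare_neg_one_iff.1 hm1
      have ho := Nat.odd_iff.1 hodd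
      exact ⟨(Fintype.card F - 1) / 4, by omega⟩
    have hc : IsConj (U (true, true)) (signedUni (1 : F) (one_pow 2) (-1)) :=
      (isConj_signedUni_iff _ (hpar true) (by norm_num)).2 (by simpa [par] using hm1)
    have hreal : conj (d (U (true, true))) = d (U (true, true)) := by
      rw [hconjd, hinv, hd, Pi.sub_apply, Pi.sub_apply, classFun_eq_of_isConj hcl hc,
        classFun_eq_of_isConj hcl' hc]
    rw [heven.neg_one_pow, one_mul, sq]
    nth_rw 2 [← hreal]
    rw [Complex.mul_conj, hDq]
    norm_num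
  · have hoddn : Odd ((Fintype.card F - 1) / 2) := by
      have h4 : Fintype.card F % 4 = 3 := by
        by_contra h
        exact hm1 (FiniteField.isSquare_neg_one_iff.2 h)
      exact ⟨(Fintype.card F - 1) / 4, by omega⟩
    have hc : IsConj (U (true, false)) (signedUni (1 : F) (one_pow 2) (-1)) := by
      refine (isConj_signedUni_iff _ (hpar false) (by norm_num)).2 ?_
      rcases Counts.isSquare_or_mul hensq (show (-1 : F) ≠ 0 by norm_num) with h | h
      · exact absurd h hm1
      · exact h
    have himag : conj (d (U (true, true))) = -d (U (true, true)) := by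
      rw [hconjd, hinv, hd, Pi.sub_apply, Pi.sub_apply, classFun_eq_of_isConj hcl hc,
        classFun_eq_of_isConj hcl' hc, hsw1, ← hsw2, neg_sub]
    rw [hoddn.neg_one_pow, sq]
    have h := Complex.mul_conj (d (U (true, true)))
    rw [himag, hDq] at h
    push_cast at h
    linear_combination -h

end Cfsg.Agent.GL2.ValuesSL
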