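import Cfsg.Agent.Lib.GL2.Classes
import Cfsg.Agent.Lib.Classical.GL2

/-!
# Numbers of classes and centraliser orders in `GL₂(q)` and `SL₂(q)`
-/

set_option autoImplicit false

open Matrix
open scoped MatrixGroups

namespace Cfsg.Agent.GL2.Counts

open Classes

universe u

variable {F : Type u} [Field F]

/-- A scalar element of `GL₂`. -/
def scalarGL (a : Fˣ) : GL (Fin 2) F :=
  GeneralLinearGroup.mkOfDetNeZero ((a : F) • (1 : Matrix (Fin 2) (Fin 2) F)) (by simp)

/-- A companion element of `GL₂`. -/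
def companionGL (t : F) (d : Fˣ) : GL (Fin 2) F :=
  GeneralLinearGroup.mkOfDetNeZero (companion t d) (by simp [det_companion])

@[simp] theorem coe_scalarGL (a : Fˣ) :
    (scalarGL a : Matrix (Fin 2) (Fin 2) F) = (a : F) • 1 := rfl

@[simp] theorem coe_companionGL (t : F) (d : Fˣ) :
    (companionGL t d : Matrix (Fin 2) (Fin 2) F) = companion t d := rfl

theorem isScalar_scalarGL (a : Fˣ) : IsScalar (scalarGL a : Matrix (Fin 2) (Fin 2) F) := ⟨a, rfl⟩

theorem isScalar_of_isConj_GL {g h : GL (Fin 2) F} (hc : IsConj g h)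
    (hg : IsScalar (g : Matrix (Fin 2) (Fin 2) F)) : IsScalar (h : Matrix (Fin 2) (Fin 2) F) := by
  rw [← eq_of_isConj_scalar hc hg]; exact hg

/-- Representatives of the classes of `GL₂`. -/
def classGL : Fˣ ⊕ (F × Fˣ) → ConjClasses (GL (Fin 2) F)
  | .inl a => ConjClasses.mk (scalarGL a)
  | .inr x => ConjClasses.mk (companionGL x.1 x.2)

theorem classGL_bijective : Function.Bijective (classGL : Fˣ ⊕ (F × Fˣ) → ConjClasses (GL (Fin 2) F)) := by
  constructor
  · rintro (a | ⟨t, d⟩) (b | ⟨t', d'⟩) h <;> simp only [classGL, ConjClasses.mk_eq_mk_iff_isConj] at h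
    · have := congrArg (fun g : GL (Fin 2) F => (g : Matrix (Fin 2) (Fin 2) F) 0 0)
        (eq_of_isConj_scalar h (isScalar_scalarGL a))
      exact congrArg Sum.inl (Units.ext (by simpa using this))
    · exact absurd (isScalar_of_isConj_GL h (isScalar_scalarGL a)) (by simpa using not_isScalar_companion t' (d' : F))
    · exact absurd (isScalar_of_isConj_GL h.symm (isScalar_scalarGL b)) (by simpa using not_isScalar_companion t (d : F))
    · obtain ⟨h1, h2⟩ := IsConj.trace_det_GL h
      simp only [coe_companionGL, trace_companion, det_companion] at h1 h2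
      rw [h1, Units.ext h2]
  · intro C
    obtain ⟨g, rfl⟩ := ConjClasses.mk_surjective C
    by_cases hs : IsScalar (g : Matrix (Fin 2) (Fin 2) F)
    · obtain ⟨c, hc⟩ := hs
      have hc0 : c ≠ 0 := by
        rintro rfl
        exact det_val_ne_zero g (by simp [hc])
      exact ⟨.inl (Units.mk0 c hc0), congrArg _ (Units.ext (by simp [hc]))⟩
    · refine ⟨.inr ((g : Matrix (Fin 2) (Fin 2) F).trace, Units.mk0 _ (det_val_ne_zero g)),
        ConjClasses.mk_eq_mk_iff_isConj.2 ?_⟩
      exact isConj_GL_of_not_scalar (by simpa using not_isScalar_companion _ _) hs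
        (by simp [trace_companion]) (by simp [det_companion])

theorem card_classes_GL [Fintype F] :
    Nat.card (ConjClasses (GL (Fin 2) F)) = Fintype.card F ^ 2 - 1 := by
  classical
  rw [← Nat.card_eq_of_bijective _ (classGL_bijective (F := F)), Nat.card_sum, Nat.card_prod,
    Nat.card_units, Nat.card_eq_fintype_card (α := F)]
  obtain ⟨k, hk⟩ := Nat.exists_eq_add_of_le (Fintype.card_pos (α := F))
  simp only [Nat.succ_eq_add_one, zero_add] at hk
  rw [hk, show (1 + k) ^ 2 = k + (1 + k) * k + 1 by ring]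
  simp

/-! ### `SL₂` -/

/-- `s [[1, u], [0, 1]]` for `s² = 1`. -/
def signedUni (s : F) (hs : s ^ 2 = 1) (u : F) : SL(2, F) :=
  mkSL !![s, s * u; 0, s] (by rw [det_fin_two_of]; linear_combination hs)

theorem coe_signedUni (s : F) (hs : s ^ 2 = 1) (u : F) :
    (signedUni s hs u : Matrix (Fin 2) (Fin 2) F) = !![s, s * u; 0, s] := rfl

theorem not_isScalar_signedUni {s : F} (hs : s ^ 2 = 1) {u : F} (hu : u ≠ 0) :
    ¬ IsScalar (signedUni s hs u : Matrix (Fin 2) (Fin 2) F) := by
  rw [isScalar_iff, coe_signedUni]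
  simp [hu]
  rintro rfl
  simp at hs

theorem trace_signedUni {s : F} (hs : s ^ 2 = 1) (u : F) :
    (signedUni s hs u : Matrix (Fin 2) (Fin 2) F).trace = 2 * s := by
  rw [coe_signedUni, trace_fin_two_of, two_mul]

theorem isConj_signedUni_iff {s : F} (hs : s ^ 2 = 1) {u w : F} (hu : u ≠ 0) (hw : w ≠ 0) :
    IsConj (signedUni s hs u) (signedUni s hs w) ↔ IsSquare (u * w) := by
  have hs0 : s ≠ 0 := by rintro rfl; simp at hs
  rw [isConj_SL_iff_exists]
  simp only [coe_signedUni]
  constructor
  · rintro ⟨P, hP, h⟩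
    have h00 := congrFun (congrFun h 0) 0
    have h01 := congrFun (congrFun h 0) 1
    simp [Matrix.mul_apply, Fin.sum_univ_two] at h00 h01
    have h10 : P 1 0 = 0 := by
      have : s * w * P 1 0 = 0 := by linear_combination h00
      simpa [hs0, hw] using this
    rw [det_fin_two, h10, mul_zero, sub_zero] at hP
    refine ⟨u * P 0 0, ?_⟩
    have h' : s * (w * P 1 1 - P 0 0 * u) = 0 := by linear_combination h01
    have h'' : w * P 1 1 = P 0 0 * u := sub_eq_zero.1 ((mul_eq_zero.1 h').resolve_left hs0)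
    linear_combination (-(u * w)) * hP + (u * P 0 0) * h''
  · rintro ⟨r, hr⟩
    have hr0 : r ≠ 0 := by rintro rfl; simp [hu, hw] at hr
    refine ⟨!![r / u, 0; 0, u / r], ?_, ?_⟩
    · rw [det_fin_two_of]; field_simp; ring
    · ext i j
      fin_cases i <;> fin_cases j <;> simp [Matrix.mul_apply, Fin.sum_univ_two]
      · ring
      · field_simp
        linear_combination hr
      · ring

theorem exists_conj_signedUni {g : SL(2, F)} (hg : ¬ IsScalar (g : Matrix (Fin 2) (Fin 2) F))
    {s : F} (hs : s ^ 2 = 1) (ht : (g : Matrix (Fin 2) (Fin 2) F).trace = 2 * s) :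
    ∃ u : F, u ≠ 0 ∧ IsConj (signedUni s hs u) g := by
  obtain ⟨P, hP, hPg⟩ := exists_similar hg (not_isScalar_signedUni hs one_ne_zero)
    (by rw [ht, trace_signedUni]) (by rw [g.2, (signedUni s hs 1).2])
  refine ⟨P.det, hP, (isConj_SL_iff_exists _ _).2 ⟨P * !![P.det⁻¹, 0; 0, 1], ?_, ?_⟩⟩
  · rw [det_mul, det_fin_two_of]
    field_simp
    ring
  · rw [← Matrix.mul_assoc, hPg, Matrix.mul_assoc, Matrix.mul_assoc]
    congr 1
    rw [coe_signedUni, coe_signedUni]
    ext i j
    fin_cases i <;> fin_cases j <;> simp [Matrix.mul_apply, Fin.sum_univ_two]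
    · ring
    · field_simp

theorem eq_of_isConj_scalar_SL {g h : SL(2, F)} (hc : IsConj g h)
    (hs : IsScalar (g : Matrix (Fin 2) (Fin 2) F)) : g = h := by
  obtain ⟨c, rfl⟩ := isConj_iff.1 hc
  have hcomm : c * g = g * c := Subtype.ext (hs.commute _)
  rw [hcomm, mul_inv_cancel_right]

theorem trace_eq_of_isConj_SL {g h : SL(2, F)} (hc : IsConj g h) :
    (g : Matrix (Fin 2) (Fin 2) F).trace = (h : Matrix (Fin 2) (Fin 2) F).trace := by
  obtain ⟨P, hP, h'⟩ := (isConj_SL_iff_exists g h).1 hc
  exact (similar_trace_det (by rw [hP]; exact one_ne_zero) h').1.symm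

/-- A companion element of `SL₂`. -/
def companionSL (t : F) : SL(2, F) := mkSL (companion t 1) (det_companion t 1)

theorem coe_companionSL (t : F) : (companionSL t : Matrix (Fin 2) (Fin 2) F) = companion t 1 := rfl

theorem isScalar_SL {g : SL(2, F)} (hg : IsScalar (g : Matrix (Fin 2) (Fin 2) F)) :
    ∃ c : F, c ^ 2 = 1 ∧ (g : Matrix (Fin 2) (Fin 2) F) = c • 1 := by
  obtain ⟨c, hc⟩ := hg
  have h := g.2
  rw [hc] at h
  exact ⟨c, by simpa using h, hc⟩

theorem two_ne_zero_of_odd [Fintype F] (hodd : Odd (Fintype.card F)) : (2 : F) ≠ 0 := by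
  intro h
  have : ringChar F = 2 := by
    obtain ⟨p, hp⟩ := CharP.exists F
    have := hp
    have hpp := CharP.char_is_prime F p
    have hd : p ∣ 2 := (CharP.cast_eq_zero_iff F p 2).1 (by simpa using h)
    rw [ringChar.eq F p]
    exact (Nat.prime_dvd_prime_iff_eq hpp Nat.prime_two).1 hd
  have := FiniteField.even_card_of_char_two this
  rw [Nat.odd_iff] at hodd
  omega

theorem card_classes_SL_even [Fintype F] [CharP F 2] :
    Nat.card (ConjClasses SL(2, F)) = Fintype.card F + 1 := by
  classical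
  have h2 : (2 : F) = 0 := CharTwo.two_eq_zero
  have hscal : ∀ g : SL(2, F), IsScalar (g : Matrix (Fin 2) (Fin 2) F) → g = 1 := by
    intro g hg
    obtain ⟨c, hc2, hc⟩ := isScalar_SL hg
    have hc1 : c = 1 := CharTwo.sq_injective (by simpa using hc2)
    exact Subtype.ext (by rw [hc, hc1, one_smul]; rfl)
  let φ : Option F → ConjClasses SL(2, F) := fun o =>
    o.elim (ConjClasses.mk 1) (fun t => ConjClasses.mk (companionSL t))
  have hbij : Function.Bijective φ := by
    constructor
    · rintro (_ | t) (_ | t') h <;> simp only [φ, Option.elim, ConjClasses.mk_eq_mk_iff_isConj] at h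
      · rfl
      · exact absurd (isConj_one_right.1 h) fun e => not_isScalar_companion t' (1 : F) ⟨1, by
          rw [← coe_companionSL, e]; simp⟩
      · exact absurd (isConj_one_left.1 h) fun e => not_isScalar_companion t (1 : F) ⟨1, by
          rw [← coe_companionSL, e]; simp⟩
      · have := trace_eq_of_isConj_SL h
        rw [coe_companionSL, coe_companionSL, trace_companion, trace_companion] at this
        rw [this]
    · intro C
      obtain ⟨g, rfl⟩ := ConjClasses.mk_surjective C
      by_cases hs : IsScalar (g : Matrix (Fin 2) (Fin 2) F)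
      · exact ⟨none, by rw [hscal g hs]; rfl⟩
      · refine ⟨some (g : Matrix (Fin 2) (Fin 2) F).trace, ConjClasses.mk_eq_mk_iff_isConj.2 ?_⟩
        exact isConj_SL_of_surjective (not_isScalar_companion _ _) hs
          (trace_companion _ _) (fun c _ => exists_normForm_eq (Or.inl h2))
  rw [← Nat.card_eq_of_bijective φ hbij, Nat.card_eq_fintype_card, Fintype.card_option]

theorem exists_nonsquare [Fintype F] (hodd : Odd (Fintype.card F)) : ∃ e : F, e ≠ 0 ∧ ¬ IsSquare e := by
  have hchar : ringChar F ≠ 2 := by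
    intro hc
    have := FiniteField.even_card_of_char_two hc
    rw [Nat.odd_iff] at hodd
    omega
  obtain ⟨e, he⟩ := FiniteField.exists_nonsquare hchar
  exact ⟨e, fun h => he (h ▸ IsSquare.zero), he⟩

theorem isSquare_or_mul [Fintype F] {e : F} (he : ¬ IsSquare e) {x : F} (hx : x ≠ 0) :
    IsSquare x ∨ IsSquare (e * x) := by
  classical
  have he0 : e ≠ 0 := fun h => he (h ▸ IsSquare.zero)
  by_contra h
  push Not at h
  have h1 : quadraticChar F x = -1 := quadraticChar_neg_one_iff_not_isSquare.2 h.1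
  have h2 : quadraticChar F e = -1 := quadraticChar_neg_one_iff_not_isSquare.2 he
  have h3 : quadraticChar F (e * x) = -1 := quadraticChar_neg_one_iff_not_isSquare.2 h.2
  rw [map_mul, h1, h2] at h3
  norm_num at h3

theorem card_classes_SL_odd [Fintype F] (hodd : Odd (Fintype.card F)) :
    Nat.card (ConjClasses SL(2, F)) = Fintype.card F + 4 := by
  classical
  have h2 : (2 : F) ≠ 0 := two_ne_zero_of_odd hodd
  obtain ⟨e, he0, he⟩ := exists_nonsquare hodd
  let sg : Bool → F := fun b => bif b then 1 else -1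
  have hsg : ∀ b, sg b ^ 2 = 1 := by rintro (_ | _) <;> simp [sg]
  have hsginj : Function.Injective sg := by
    have : (-1 : F) ≠ 1 := fun h => h2 (by linear_combination -h)
    rintro (_ | _) (_ | _) h <;> simp [sg, this, this.symm] at h ⊢
  let cen : Bool → SL(2, F) := fun b => mkSL (sg b • 1) (by simp [hsg])
  let par : Bool → F := fun b => bif b then 1 else e
  have hpar : ∀ b, par b ≠ 0 := by rintro (_ | _) <;> simp [par, he0]
  have hreg : ∀ t : F, t ^ 2 ≠ 4 → ∀ s : F, s ^ 2 = 1 → t ≠ 2 * s := fun t ht s hs h => ht (by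
    rw [h]; linear_combination 4 * hs)
  let φ : Bool ⊕ ({t : F // t ^ 2 ≠ 4} ⊕ Bool × Bool) → ConjClasses SL(2, F) :=
    Sum.elim (fun b => ConjClasses.mk (cen b))
      (Sum.elim (fun t => ConjClasses.mk (companionSL t.1))
        (fun x => ConjClasses.mk (signedUni (sg x.1) (hsg x.1) (par x.2))))
  have hns : ∀ t : F, ¬ IsScalar (companionSL t : Matrix (Fin 2) (Fin 2) F) := fun t =>
    not_isScalar_companion t 1
  have hnu : ∀ x : Bool × Bool,
      ¬ IsScalar (signedUni (sg x.1) (hsg x.1) (par x.2) : Matrix (Fin 2) (Fin 2) F) := fun x =>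
    not_isScalar_signedUni _ (hpar _)
  have hcs : ∀ b, IsScalar (cen b : Matrix (Fin 2) (Fin 2) F) := fun b => ⟨sg b, rfl⟩
  have hbij : Function.Bijective φ := by
    constructor
    · rintro (b | t | x) (b' | t' | x') h <;>
        simp only [φ, Sum.elim_inl, Sum.elim_inr, ConjClasses.mk_eq_mk_iff_isConj] at h
      · have := congrArg (fun g : SL(2, F) => (g : Matrix (Fin 2) (Fin 2) F) 0 0)
          (eq_of_isConj_scalar_SL h (hcs b))
        exact congrArg _ (hsginj (by simpa [cen] using this))
      · exact absurd (eq_of_isConj_scalar_SL h (hcs b) ▸ hcs b) (hns _)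
      · exact absurd (eq_of_isConj_scalar_SL h (hcs b) ▸ hcs b) (hnu x')
      · exact absurd (eq_of_isConj_scalar_SL h.symm (hcs b') ▸ hcs b') (hns _)
      · have := trace_eq_of_isConj_SL h
        rw [coe_companionSL, coe_companionSL, trace_companion, trace_companion] at this
        exact congrArg _ (congrArg _ (Subtype.ext this))
      · have := trace_eq_of_isConj_SL h
        rw [coe_companionSL, trace_companion, trace_signedUni] at this
        exact absurd this (hreg _ t.2 _ (hsg _))
      · exact absurd (eq_of_isConj_scalar_SL h.symm (hcs b') ▸ hcs b') (hnu x)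
      · have := trace_eq_of_isConj_SL h
        rw [coe_companionSL, trace_companion, trace_signedUni] at this
        exact absurd this.symm (hreg _ t'.2 _ (hsg _))
      · obtain ⟨b, c⟩ := x
        obtain ⟨b', c'⟩ := x'
        have ht := trace_eq_of_isConj_SL h
        rw [trace_signedUni, trace_signedUni] at ht
        obtain rfl : b = b' := hsginj (mul_left_cancel₀ h2 ht)
        have hsq := (isConj_signedUni_iff (hsg b) (hpar c) (hpar c')).1 h
        revert hsq
        cases c <;> cases c' <;> simp [par, he]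
    · intro C
      obtain ⟨g, rfl⟩ := ConjClasses.mk_surjective C
      by_cases hs : IsScalar (g : Matrix (Fin 2) (Fin 2) F)
      · obtain ⟨c, hc2, hc⟩ := isScalar_SL hs
        rcases sq_eq_one_iff.1 hc2 with rfl | rfl
        · exact ⟨.inl true, congrArg _ (Subtype.ext (by simp [cen, sg, hc]))⟩
        · exact ⟨.inl false, congrArg _ (Subtype.ext (by simp [cen, sg, hc]))⟩
      · set t := (g : Matrix (Fin 2) (Fin 2) F).trace with ht
        by_cases ht4 : t ^ 2 = 4
        · obtain ⟨b, hb⟩ : ∃ b, t = 2 * sg b := by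
            have h' : (t - 2) * (t + 2) = 0 := by linear_combination ht4
            rcases mul_eq_zero.1 h' with h'' | h''
            · exact ⟨true, by simp [sg]; linear_combination h''⟩
            · exact ⟨false, by simp [sg]; linear_combination h''⟩
          obtain ⟨u, hu, huc⟩ := exists_conj_signedUni hs (hsg b) (ht ▸ hb)
          obtain ⟨c, hc⟩ : ∃ c, IsSquare (par c * u) := by
            rcases isSquare_or_mul he hu with h | h
            · exact ⟨true, by simpa [par] using h⟩
            · exact ⟨false, by simpa [par] using h⟩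
          refine ⟨.inr (.inr (b, c)), ConjClasses.mk_eq_mk_iff_isConj.2 ?_⟩
          exact ((isConj_signedUni_iff (hsg b) (hpar c) hu).2 hc).trans huc
        · refine ⟨.inr (.inl ⟨t, ht4⟩), ConjClasses.mk_eq_mk_iff_isConj.2 ?_⟩
          refine isConj_SL_of_surjective (hns t) hs (by rw [coe_companionSL, trace_companion]) ?_
          intro c _
          refine exists_normForm_eq (Or.inr ?_)
          rw [coe_companionSL, trace_companion, det_companion, mul_one]
          exact ht4
  have hne : (2 : F) ≠ -2 := fun h => h2 (by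
    have : (2 : F) * 2 = 0 := by linear_combination h
    simpa using this)
  have hcard : Fintype.card {t : F // t ^ 2 ≠ 4} = Fintype.card F - 2 := by
    rw [Fintype.card_subtype_compl, Fintype.card_subtype]
    congr 1
    rw [Finset.card_eq_two]
    refine ⟨2, -2, hne, ?_⟩
    ext t
    simp only [Finset.mem_filter_univ, Finset.mem_insert, Finset.mem_singleton]
    rw [show (4 : F) = 2 ^ 2 by norm_num, sq_eq_sq_iff_eq_or_eq_neg]
  rw [← Nat.card_eq_of_bijective φ hbij, Nat.card_eq_fintype_card]
  simp only [Fintype.card_sum, Fintype.card_prod, Fintype.card_bool, hcard]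
  have : 3 ≤ Fintype.card F := by
    have h1 := Fintype.one_lt_card (α := F)
    rw [Nat.odd_iff] at hodd
    omega
  omega

/-! ### Centraliser orders and class sizes -/

theorem natCard_normForm_ne_zero_GL [Fintype F] (g : GL (Fin 2) F)
    (hg : ¬ IsScalar (g : Matrix (Fin 2) (Fin 2) F)) :
    Nat.card (Subgroup.centralizer ({g} : Set (GL (Fin 2) F))) =
      Nat.card {x : F × F // normForm (g : Matrix (Fin 2) (Fin 2) F) x ≠ 0} :=
  (Nat.card_congr (centralizerEquivGL g hg)).symm

theorem normForm_eq_zero_of_no_eigen {M : Matrix (Fin 2) (Fin 2) F}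
    (h : ∀ (c : F) (v : Fin 2 → F), v ≠ 0 → M *ᵥ v ≠ c • v) {x : F × F} (hx : normForm M x = 0) :
    x = 0 := by
  obtain ⟨a, b⟩ := x
  rw [← det_comb] at hx
  obtain ⟨v, hv, hv0⟩ := exists_mulVec_eq_zero_iff.2 hx
  simp only [add_mulVec, smul_mulVec, one_mulVec] at hv0
  by_cases hb : b = 0
  · subst hb
    simp only [zero_smul, add_zero, smul_eq_zero] at hv0
    rw [hv0.resolve_right hv]
    rfl
  · refine absurd ?_ (h (-a / b) v hv)
    calc M *ᵥ v = b⁻¹ • (b • (M *ᵥ v)) := by rw [inv_smul_smul₀ hb]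
      _ = b⁻¹ • -(a • v) := by rw [eq_neg_of_add_eq_zero_right hv0]
      _ = (-a / b) • v := by rw [← neg_smul, smul_smul, div_eq_inv_mul]

theorem natCard_centralizer_elliptic [Fintype F] (g : GL (Fin 2) F)
    (h : ∀ (c : F) (v : Fin 2 → F), v ≠ 0 → (g : Matrix (Fin 2) (Fin 2) F) *ᵥ v ≠ c • v) :
    Nat.card (Subgroup.centralizer ({g} : Set (GL (Fin 2) F))) = Fintype.card F ^ 2 - 1 := by
  classical
  have hg : ¬ IsScalar (g : Matrix (Fin 2) (Fin 2) F) := by
    rintro ⟨c, hc⟩
    exact h c ![1, 0] (fun e => by simpa using congrFun e 0) (by rw [hc, smul_mulVec, one_mulVec])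
  rw [natCard_normForm_ne_zero_GL g hg]
  have e : {x : F × F // normForm (g : Matrix (Fin 2) (Fin 2) F) x ≠ 0} ≃ {x : F × F // x ≠ 0} :=
    Equiv.subtypeEquivRight fun x => not_congr
      ⟨normForm_eq_zero_of_no_eigen h, fun hx => by simp [hx, normForm]⟩
  rw [Nat.card_congr e, Nat.card_eq_fintype_card, Fintype.card_subtype_compl, Fintype.card_subtype_eq,
    Fintype.card_prod, sq]

theorem natCard_centralizer_diag [Fintype F] (g : GL (Fin 2) F)
    (h01 : (g : Matrix (Fin 2) (Fin 2) F) 0 1 = 0) (h10 : (g : Matrix (Fin 2) (Fin 2) F) 1 0 = 0)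
    (hne : (g : Matrix (Fin 2) (Fin 2) F) 0 0 ≠ (g : Matrix (Fin 2) (Fin 2) F) 1 1) :
    Nat.card (Subgroup.centralizer ({g} : Set (GL (Fin 2) F))) = (Fintype.card F - 1) ^ 2 := by
  classical
  have hg : ¬ IsScalar (g : Matrix (Fin 2) (Fin 2) F) := fun hs => hne ((isScalar_iff _).1 hs).2.2
  rw [natCard_normForm_ne_zero_GL g hg]
  set a := (g : Matrix (Fin 2) (Fin 2) F) 0 0 with ha
  set d := (g : Matrix (Fin 2) (Fin 2) F) 1 1 with hd
  have hval : ∀ x : F × F,
      normForm (g : Matrix (Fin 2) (Fin 2) F) x = (x.1 + x.2 * a) * (x.1 + x.2 * d) := by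
    intro x
    simp only [normForm, trace_fin_two, det_fin_two, h01, h10, ← ha, ← hd]
    ring
  let f : {x : F × F // normForm (g : Matrix (Fin 2) (Fin 2) F) x ≠ 0} → Fˣ × Fˣ := fun x =>
    (Units.mk0 (x.1.1 + x.1.2 * a) (fun h => x.2 (by rw [hval, h, zero_mul])),
      Units.mk0 (x.1.1 + x.1.2 * d) (fun h => x.2 (by rw [hval, h, mul_zero])))
  have hf : Function.Bijective f := by
    constructor
    · rintro ⟨⟨x1, x2⟩, hx⟩ ⟨⟨y1, y2⟩, hy⟩ h
      have e1 := congrArg (fun z : Fˣ × Fˣ => (z.1 : F)) h
      have e2 := congrArg (fun z : Fˣ × Fˣ => (z.2 : F)) h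
      simp [f] at e1 e2
      have hb : x2 = y2 := by
        have : (x2 - y2) * (a - d) = 0 := by linear_combination e1 - e2
        exact sub_eq_zero.1 ((mul_eq_zero.1 this).resolve_right (sub_ne_zero.2 hne))
      subst hb
      simp at e1
      subst e1
      rfl
    · rintro ⟨u, v⟩
      have hne' : a - d ≠ 0 := sub_ne_zero.2 hne
      set b := ((u : F) - v) / (a - d) with hb
      have hb' : b * (a - d) = (u : F) - v := div_mul_cancel₀ _ hne'
      have e2 : ((u : F) - b * a) + b * d = v := by linear_combination -hb'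
      refine ⟨⟨((u : F) - b * a, b), ?_⟩, ?_⟩
      · rw [hval, sub_add_cancel, e2]
        exact mul_ne_zero u.ne_zero v.ne_zero
      · ext
        · simp [f]
        · simpa [f] using e2
  rw [Nat.card_eq_of_bijective f hf, Nat.card_prod, Nat.card_units, Nat.card_eq_fintype_card (α := F), sq]

theorem natCard_centralizer_SL_parabolic [Fintype F] (g : SL(2, F))
    (hg : ¬ IsScalar (g : Matrix (Fin 2) (Fin 2) F)) {s : F} (hs : s ^ 2 = 1)
    (ht : (g : Matrix (Fin 2) (Fin 2) F).trace = 2 * s) :
    Nat.card (Subgroup.centralizer ({g} : Set SL(2, F))) =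
      Fintype.card F * Nat.card {r : F // r ^ 2 = 1} := by
  classical
  rw [← Nat.card_congr (centralizerEquivSL g hg)]
  have hval : ∀ x : F × F, normForm (g : Matrix (Fin 2) (Fin 2) F) x = (x.1 + s * x.2) ^ 2 := by
    intro x
    simp only [normForm, ht, g.2]
    linear_combination (-(x.2 ^ 2)) * hs
  let e : {x : F × F // normForm (g : Matrix (Fin 2) (Fin 2) F) x = 1} ≃ F × {r : F // r ^ 2 = 1} :=
    { toFun := fun x => (x.1.2, ⟨x.1.1 + s * x.1.2, by rw [← hval, x.2]⟩)
      invFun := fun y => ⟨((y.2 : F) - s * y.1, y.1), by rw [hval, sub_add_cancel, y.2.2]⟩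
      left_inv := fun x => by simp
      right_inv := fun y => by simp }
  rw [Nat.card_congr e, Nat.card_prod, Nat.card_eq_fintype_card (α := F)]

theorem sq_eq_one_card_two [Fintype F] [CharP F 2] : Nat.card {r : F // r ^ 2 = 1} = 1 := by
  rw [Nat.card_eq_one_iff_unique]
  exact ⟨⟨fun a b => Subtype.ext (CharTwo.sq_injective (a.2.trans b.2.symm))⟩, ⟨⟨1, one_pow 2⟩⟩⟩

theorem sq_eq_one_card_odd [Fintype F] (h2 : (2 : F) ≠ 0) : Nat.card {r : F // r ^ 2 = 1} = 2 := by
  classical
  rw [Nat.card_eq_fintype_card, Fintype.card_subtype, Finset.card_eq_two]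
  refine ⟨1, -1, fun h => h2 (by linear_combination h), ?_⟩
  ext t
  simp [sq_eq_one_iff]

theorem natCard_SL [Fintype F] :
    Nat.card SL(2, F) = Fintype.card F * (Fintype.card F ^ 2 - 1) := by
  rw [Classical.GL2.natCard_SL_two, show Fintype.card F ^ 2 - 1 =
    (Fintype.card F - 1) * (Fintype.card F + 1) by
      rw [mul_comm]; simpa using Nat.sq_sub_sq (Fintype.card F) 1]

theorem carrier_eq_div {G : Type*} [Group G] [Finite G] (g : G) :
    Nat.card (ConjClasses.mk g).carrier = Nat.card G / Nat.card (Subgroup.centralizer ({g} : Set G)) := by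
  have h := MulAction.index_stabilizer (ConjAct G) g
  rw [ConjAct.stabilizer_eq_centralizer, ConjAct.orbit_eq_carrier_conjClasses] at h
  rw [← (Subgroup.centralizer ({g} : Set G)).index_mul_card, Nat.mul_div_cancel _ Nat.card_pos]
  exact h.symm

theorem nilpotent_sq (p : ℕ) [Fact p.Prime] [CharP F p] (M : Matrix (Fin 2) (Fin 2) F)
    (h : M ^ p = 1) : (M - 1) ^ 2 = 0 ∧ M.trace = 2 ∧ M.det = 1 := by
  have : ExpChar (Matrix (Fin 2) (Fin 2) F) p := ExpChar.prime Fact.out
  have hN : (M - 1) ^ p = 0 := by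
    rw [sub_pow_expChar_of_commute p (Commute.one_right M), h, one_pow, sub_self]
  have hdet : (M - 1).det = 0 := by
    have := congrArg Matrix.det hN
    rw [det_pow, det_zero] at this
    exact pow_eq_zero_iff (Fact.out : p.Prime).ne_zero |>.1 this
  have htr : (M - 1).trace = 0 := by
    have hnil : IsNilpotent (M - 1) := ⟨p, hN⟩
    have h3 := Matrix.isNilpotent_trace_of_isNilpotent hnil
    rwa [isNilpotent_iff_eq_zero] at h3
  set N := M - 1 with hN'
  have hM : M = N + 1 := by rw [hN', sub_add_cancel]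
  rw [trace_fin_two] at htr
  rw [det_fin_two] at hdet
  refine ⟨?_, ?_, ?_⟩
  · ext i j
    fin_cases i <;> fin_cases j <;> simp [pow_two, Matrix.mul_apply, Fin.sum_univ_two]
    · linear_combination (N 0 0) * htr - hdet
    · linear_combination (N 0 1) * htr
    · linear_combination (N 1 0) * htr
    · linear_combination (N 1 1) * htr - hdet
  · rw [hM, trace_fin_two]
    simp
    linear_combination htr
  · rw [hM, det_fin_two]
    simp
    linear_combination hdet + htr

end Cfsg.Agent.GL2.Counts
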