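import Mathlib
import Cfsg.Agent.Lib.GL2.Counts
import Cfsg.Agent.Lib.Classical.Torus

/-!
# Products of two conjugates in `PSL₂`
-/

set_option autoImplicit false
set_option linter.unusedSectionVars false

open Matrix
open scoped MatrixGroups

namespace Cfsg.Agent.GL2.PSLProducts

open Classes Counts

variable {F : Type*} [Field F]

theorem mem_center_iff (g : SL(2, F)) :
    g ∈ Subgroup.center SL(2, F) ↔ IsScalar (g : Matrix (Fin 2) (Fin 2) F) := by
  rw [Subgroup.mem_center_iff]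
  refine ⟨fun h => (isScalar_iff _).2 ?_, fun ⟨c, hc⟩ a => Subtype.ext (by simp [hc])⟩
  have hu := congrArg (fun M : SL(2, F) => (M : Matrix (Fin 2) (Fin 2) F)) (h (Classical.GL2.uniSL 1))
  have hl := congrArg (fun M : SL(2, F) => (M : Matrix (Fin 2) (Fin 2) F)) (h (Classical.GL2.lowSL 1))
  simp only [Matrix.SpecialLinearGroup.coe_mul, Classical.GL2.coe_uniSL, Classical.GL2.coe_lowSL] at hu hl
  have h10 := congrFun (congrFun hu 0) 0
  have h11 := congrFun (congrFun hu 0) 1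
  have h01 := congrFun (congrFun hl 0) 0
  simp [Matrix.mul_apply, Fin.sum_univ_two] at h10 h11 h01
  refine ⟨?_, ?_, ?_⟩ <;> grind

/-- The image in `PSL₂`. -/
abbrev toPSL (g : SL(2, F)) : Matrix.ProjectiveSpecialLinearGroup (Fin 2) F :=
  QuotientGroup.mk g

theorem toPSL_eq_one_iff (g : SL(2, F)) :
    toPSL g = 1 ↔ IsScalar (g : Matrix (Fin 2) (Fin 2) F) := by
  rw [QuotientGroup.eq_one_iff, mem_center_iff]

/-- The negative of an element of `SL₂`. -/
def negSL (g : SL(2, F)) : SL(2, F) :=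
  ⟨-(g : Matrix (Fin 2) (Fin 2) F), by rw [det_neg, g.2]; simp⟩

theorem coe_negSL (g : SL(2, F)) :
    (negSL g : Matrix (Fin 2) (Fin 2) F) = -(g : Matrix (Fin 2) (Fin 2) F) := rfl

theorem toPSL_negSL (g : SL(2, F)) : toPSL (negSL g) = toPSL g := by
  refine QuotientGroup.eq.2 ((mem_center_iff _).2 ⟨-1, ?_⟩)
  have h : ((g⁻¹ : SL(2, F)) : Matrix (Fin 2) (Fin 2) F) * (g : Matrix (Fin 2) (Fin 2) F) = 1 := by
    rw [← Matrix.SpecialLinearGroup.coe_mul, inv_mul_cancel, Matrix.SpecialLinearGroup.coe_one]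
  have h' : (negSL g)⁻¹ * g = negSL 1 := by
    rw [inv_mul_eq_iff_eq_mul]
    exact Subtype.ext (by simp [coe_negSL])
  rw [h', coe_negSL]
  simp

theorem not_scalar_of_trace {g : SL(2, F)} (h : (g : Matrix (Fin 2) (Fin 2) F).trace ^ 2 ≠ 4) :
    ¬ IsScalar (g : Matrix (Fin 2) (Fin 2) F) := by
  rintro hs
  obtain ⟨c, hc2, hc⟩ := isScalar_SL hs
  refine h ?_
  rw [hc, trace_smul, trace_one, Fintype.card_fin]
  simp only [smul_eq_mul, Nat.cast_ofNat]
  linear_combination 4 * hc2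

theorem isConj_of_trace [Fintype F] {g h : SL(2, F)}
    (ht : (g : Matrix (Fin 2) (Fin 2) F).trace = (h : Matrix (Fin 2) (Fin 2) F).trace)
    (hne : (g : Matrix (Fin 2) (Fin 2) F).trace ^ 2 ≠ 4) : IsConj g h :=
  isConj_SL_of_surjective (not_scalar_of_trace hne) (not_scalar_of_trace (ht ▸ hne)) ht
    fun _ _ => exists_normForm_eq (Or.inr (by rwa [g.2, mul_one]))

theorem exists_products [Fintype F] (X G : SL(2, F))
    (hX : (X : Matrix (Fin 2) (Fin 2) F).trace ^ 2 ≠ 4)
    (hG : ¬ IsScalar (G : Matrix (Fin 2) (Fin 2) F))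
    (hsol : ∃ a b : F, a ^ 2 - (G : Matrix (Fin 2) (Fin 2) F).trace * a * b + b ^ 2 -
      a * (X : Matrix (Fin 2) (Fin 2) F).trace + b * (X : Matrix (Fin 2) (Fin 2) F).trace + 1 = 0) :
    ∃ u v : SL(2, F), G = u * X * u⁻¹ * (v * X * v⁻¹) := by
  obtain ⟨a, b, hab⟩ := hsol
  set s := (X : Matrix (Fin 2) (Fin 2) F).trace with hs
  set t := (G : Matrix (Fin 2) (Fin 2) F).trace with ht
  obtain ⟨P, hP, hGP⟩ := exists_companion hG
  rw [G.2, ← ht] at hGP
  have hPu : IsUnit P.det := isUnit_iff_ne_zero.2 hP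
  let A₀ : Matrix (Fin 2) (Fin 2) F := !![a, b; s + b - a * t, s - a]
  let B₀ : Matrix (Fin 2) (Fin 2) F := !![s - a, -b; -(s + b - a * t), a] * companion t 1
  have hA : A₀.det = 1 := by
    rw [det_fin_two_of]
    linear_combination -hab
  have hB : B₀.det = 1 := by
    rw [det_mul, det_companion, mul_one, det_fin_two_of]
    linear_combination -hab
  have hAB : A₀ * B₀ = companion t 1 := by
    rw [← Matrix.mul_assoc, show A₀ * !![s - a, -b; -(s + b - a * t), a] = 1 by
      ext i j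
      fin_cases i <;> fin_cases j <;> simp [A₀, Matrix.mul_apply, Fin.sum_univ_two] <;>
        first | ring1 | linear_combination -hab, Matrix.one_mul]
  have hconj : ∀ M : Matrix (Fin 2) (Fin 2) F, (P * M * P⁻¹).det = M.det ∧ (P * M * P⁻¹).trace = M.trace :=
    fun M => ⟨det_conj ((Matrix.isUnit_iff_isUnit_det P).2 hPu) M,
      by rw [Matrix.trace_mul_cycle, nonsing_inv_mul _ hPu, Matrix.one_mul]⟩
  let A : SL(2, F) := mkSL (P * A₀ * P⁻¹) ((hconj A₀).1.trans hA)
  let B : SL(2, F) := mkSL (P * B₀ * P⁻¹) ((hconj B₀).1.trans hB)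
  have hGAB : G = A * B := by
    refine Subtype.ext ?_
    show (G : Matrix (Fin 2) (Fin 2) F) = P * A₀ * P⁻¹ * (P * B₀ * P⁻¹)
    calc (G : Matrix (Fin 2) (Fin 2) F) = G * (P * P⁻¹) := by rw [mul_nonsing_inv _ hPu, Matrix.mul_one]
      _ = P * (A₀ * B₀) * P⁻¹ := by rw [← Matrix.mul_assoc, hGP, hAB]
      _ = P * A₀ * (P⁻¹ * P) * (B₀ * P⁻¹) := by
        rw [nonsing_inv_mul _ hPu, Matrix.mul_one, Matrix.mul_assoc P A₀, Matrix.mul_assoc,
          Matrix.mul_assoc A₀, Matrix.mul_assoc]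
      _ = P * A₀ * P⁻¹ * (P * B₀ * P⁻¹) := by simp only [Matrix.mul_assoc]
  have htA : (A : Matrix (Fin 2) (Fin 2) F).trace = s := by
    refine (hconj A₀).2.trans ?_
    simp [A₀, trace_fin_two]
  have htB : (B : Matrix (Fin 2) (Fin 2) F).trace = s := by
    refine (hconj B₀).2.trans ?_
    simp [B₀, trace_fin_two, companion]
  obtain ⟨u, hu⟩ := isConj_iff.1 (isConj_of_trace htA.symm hX)
  obtain ⟨v, hv⟩ := isConj_iff.1 (isConj_of_trace htB.symm hX)
  exact ⟨u, v, by rw [hu, hv, hGAB]⟩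

theorem sol_of_ne [Fintype F] {s t : F} (ht : t ^ 2 ≠ 4) :
    ∃ a b : F, a ^ 2 - t * a * b + b ^ 2 - a * s + b * s + 1 = 0 := by
  have h2 : 2 + t ≠ 0 := fun e => ht (by linear_combination (t - 2) * e)
  obtain ⟨⟨a, b⟩, hab⟩ := exists_normForm_eq (M := companion (-t) (1 : F))
    (Or.inr (by rw [trace_companion, det_companion, mul_one, neg_sq]; exact ht))
    (c := s * (s / (2 + t)) - 1)
  simp only [normForm, trace_companion, det_companion] at hab
  refine ⟨a + s / (2 + t), b - s / (2 + t), ?_⟩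
  field_simp at hab ⊢
  linear_combination (2 + t) * hab

theorem sol_of_root {s : F} {r : F} (hr : r ^ 2 - s * r + 1 = 0) (t : F) :
    ∃ a b : F, a ^ 2 - t * a * b + b ^ 2 - a * s + b * s + 1 = 0 :=
  ⟨r, 0, by linear_combination hr⟩

theorem sol_neg_two {s : F} (h2 : (2 : F) ≠ 0) (hs : s ≠ 0) :
    ∃ a b : F, a ^ 2 - (-2) * a * b + b ^ 2 - a * s + b * s + 1 = 0 :=
  ⟨1 / (2 * s), -(1 / (2 * s)), by field_simp; ring⟩

theorem cayley (X : SL(2, F)) :
    (X : Matrix (Fin 2) (Fin 2) F) * X =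
      (X : Matrix (Fin 2) (Fin 2) F).trace • (X : Matrix (Fin 2) (Fin 2) F) - 1 := by
  have hd := Matrix.SpecialLinearGroup.det_coe X
  rw [det_fin_two] at hd
  ext i j
  fin_cases i <;> fin_cases j <;> simp [Matrix.mul_apply, Fin.sum_univ_two, trace_fin_two] <;>
    first | ring1 | linear_combination -hd

theorem sq_eq_one_of_trace_zero {X : SL(2, F)} (h : (X : Matrix (Fin 2) (Fin 2) F).trace = 0) :
    toPSL X ^ 2 = 1 := by
  rw [← QuotientGroup.mk_pow, toPSL_eq_one_iff, Matrix.SpecialLinearGroup.coe_pow, sq, cayley, h]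
  exact ⟨-1, by simp⟩

theorem pow_char_of_trace (p : ℕ) [CharP F p] (h2 : (2 : F) ≠ 0) {X : SL(2, F)}
    (h : (X : Matrix (Fin 2) (Fin 2) F).trace ^ 2 = 4) : toPSL X ^ p = 1 := by
  set M := (X : Matrix (Fin 2) (Fin 2) F) with hM
  set c := M.trace / 2 with hc
  have hc2 : M.trace = 2 * c := by rw [hc, mul_div_cancel₀ _ h2]
  have hcc : c * c = 1 := by
    have h' := h
    rw [hc2] at h'
    refine mul_left_cancel₀ (show (4 : F) ≠ 0 by rw [show (4 : F) = 2 * 2 by norm_num]; exact mul_ne_zero h2 h2) ?_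
    linear_combination h'
  have hstep : M * M = (2 * c) • M - (c * c) • (1 : Matrix (Fin 2) (Fin 2) F) := by
    rw [cayley, ← hM, hc2, hcc, one_smul]
  have hpow : ∀ n : ℕ, M ^ (n + 1) =
      ((n + 1 : F) * c ^ n) • M - ((n : F) * c ^ (n + 1)) • (1 : Matrix (Fin 2) (Fin 2) F) := by
    intro n
    induction n with
    | zero => simp
    | succ n ih =>
      rw [pow_succ, ih, Matrix.sub_mul, Matrix.smul_mul, Matrix.smul_mul, Matrix.one_mul, hstep]
      push_cast
      simp only [smul_sub, smul_smul, pow_succ]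
      module
  rw [← QuotientGroup.mk_pow, toPSL_eq_one_iff, Matrix.SpecialLinearGroup.coe_pow]
  rcases p with _ | q
  · exact ⟨1, by simp⟩
  · rw [← hM, hpow q]
    have h0 : ((q : F) + 1) = 0 := by
      rw [← Nat.cast_one, ← Nat.cast_add]; exact CharP.cast_eq_zero F (q + 1)
    exact ⟨-((q : F) * c ^ (q + 1)), by rw [h0]; simp⟩

theorem pow_card_succ_of_no_root [Fintype F] (X : SL(2, F))
    (h : ∀ r : F, r ^ 2 - (X : Matrix (Fin 2) (Fin 2) F).trace * r + 1 ≠ 0) :
    X ^ (Fintype.card F + 1) = 1 := by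
  set s := (X : Matrix (Fin 2) (Fin 2) F).trace with hs
  haveI : Fact (∀ r : F, r ^ 2 ≠ (-1 : F) + s * r) := ⟨fun r hr => h r (by linear_combination hr)⟩
  have hu : IsUnit (QuadraticAlgebra.omega : QuadraticAlgebra F (-1) s) :=
    IsUnit.of_mul_eq_one (star (QuadraticAlgebra.omega : QuadraticAlgebra F (-1) s)) (by
      ext <;> simp [QuadraticAlgebra.re_one, QuadraticAlgebra.im_one])
  let z : Classical.Torus.normOne F (-1) s :=
    ⟨hu.unit, Classical.Torus.mem_normOne.2 (by simp [QuadraticAlgebra.norm_def])⟩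
  have hz : (Classical.Torus.torusHom z : Matrix (Fin 2) (Fin 2) F) = companion s 1 := by
    rw [Classical.Torus.coe_torusHom, Classical.Torus.mulMat_apply]
    simp [z, companion]
  have hns : ¬ IsScalar (X : Matrix (Fin 2) (Fin 2) F) := fun hsc => by
    obtain ⟨c, hc2, hc⟩ := isScalar_SL hsc
    refine h c ?_
    rw [hs, hc, trace_smul, trace_one, Fintype.card_fin]
    simp only [smul_eq_mul, Nat.cast_ofNat]
    linear_combination -hc2
  obtain ⟨P, hP, hXP⟩ := exists_companion hns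
  rw [X.2, ← hs] at hXP
  have hzq : (Classical.Torus.torusHom z) ^ (Fintype.card F + 1) = 1 := by
    rw [← map_pow, ← Classical.Torus.natCard_normOne (A := (-1 : F)) (B := s), pow_card_eq_one', map_one]
  have hn : ∀ n : ℕ, (X : Matrix (Fin 2) (Fin 2) F) ^ n * P = P * companion s 1 ^ n := by
    intro n
    induction n with
    | zero => simp
    | succ n ih => rw [pow_succ, Matrix.mul_assoc, hXP, ← Matrix.mul_assoc, ih, Matrix.mul_assoc, ← pow_succ]
  refine Subtype.ext ?_
  rw [Matrix.SpecialLinearGroup.coe_pow, Matrix.SpecialLinearGroup.coe_one]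
  have := hn (Fintype.card F + 1)
  have e : companion s 1 ^ (Fintype.card F + 1) = 1 := by
    rw [← hz, ← Matrix.SpecialLinearGroup.coe_pow, hzq, Matrix.SpecialLinearGroup.coe_one]
  rw [e, Matrix.mul_one] at this
  have hPu : IsUnit P.det := isUnit_iff_ne_zero.2 hP
  calc (X : Matrix (Fin 2) (Fin 2) F) ^ (Fintype.card F + 1)
      = (X : Matrix (Fin 2) (Fin 2) F) ^ (Fintype.card F + 1) * P * P⁻¹ := by
        rw [Matrix.mul_assoc, mul_nonsing_inv _ hPu, Matrix.mul_one]
    _ = 1 := by rw [this, mul_nonsing_inv _ hPu]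

/-! ### Two values of the trace of a product -/

theorem exists_conj_lower [Fintype F] (h4 : 4 ≤ Fintype.card F) {A : SL(2, F)}
    (hA : ¬ IsScalar (A : Matrix (Fin 2) (Fin 2) F)) :
    ∃ x : SL(2, F), ((x * A * x⁻¹ : SL(2, F)) : Matrix (Fin 2) (Fin 2) F) 1 0 ≠ 0 := by
  set M := (A : Matrix (Fin 2) (Fin 2) F) with hM
  by_cases h : M 1 0 = 0
  swap
  · exact ⟨1, by simpa [← hM] using h⟩
  have hy : ∀ y : F, ((Classical.GL2.lowSL y * A * (Classical.GL2.lowSL y)⁻¹ : SL(2, F)) :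
      Matrix (Fin 2) (Fin 2) F) 1 0 = y * (M 0 0 - M 1 1) - y ^ 2 * M 0 1 := by
    intro y
    have hinv : (((Classical.GL2.lowSL y)⁻¹ : SL(2, F)) : Matrix (Fin 2) (Fin 2) F) = !![1, 0; -y, 1] := by
      rw [Matrix.SpecialLinearGroup.coe_inv, Classical.GL2.coe_lowSL, adjugate_fin_two_of]
      simp
    simp only [Matrix.SpecialLinearGroup.coe_mul, hinv, Classical.GL2.coe_lowSL]
    simp [Matrix.mul_apply, Matrix.vecMul, dotProduct, Fin.sum_univ_two, ← hM, h]
    ring
  by_contra hall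
  push Not at hall
  have h1 := (hy 1).symm.trans (hall _)
  classical
  obtain ⟨y, hy0, hy1⟩ : ∃ y : F, y ≠ 0 ∧ y ≠ 1 := by
    by_contra hh
    push Not at hh
    have : Fintype.card F ≤ 2 := (Finset.card_le_card (s := (Finset.univ : Finset F)) (t := {0, 1})
      fun y _ => by by_cases hy : y = 0 <;> simp [hy, hh y]).trans (Finset.card_le_two)
    omega
  have h2 := (hy y).symm.trans (hall _)
  have h01 : M 0 1 = 0 := by
    have : (y * (1 - y)) * M 0 1 = 0 := by linear_combination h2 - y * h1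
    exact (mul_eq_zero.1 this).resolve_left (mul_ne_zero hy0 (sub_ne_zero.2 (Ne.symm hy1)))
  exact hA ((isScalar_iff _).2 ⟨h01, h, by linear_combination h1 + h01⟩)

theorem exists_trace_sq_ne [Fintype F] (h4 : 4 ≤ Fintype.card F) (A B : SL(2, F))
    (hA : (A : Matrix (Fin 2) (Fin 2) F) 1 0 ≠ 0) (hB : (B : Matrix (Fin 2) (Fin 2) F) 1 0 ≠ 0) (w : F) :
    ∃ x : SL(2, F), ((A * (x * B * x⁻¹) : SL(2, F)) : Matrix (Fin 2) (Fin 2) F).trace ^ 2 ≠ w := by
  classical
  set M := (A : Matrix (Fin 2) (Fin 2) F) with hM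
  set N := (B : Matrix (Fin 2) (Fin 2) F) with hN
  let P : Polynomial F := Polynomial.C (-(M 1 0 * N 1 0)) * Polynomial.X ^ 2 +
    Polynomial.C (M 0 0 * N 1 0 + M 1 0 * (N 1 1 - N 0 0) - M 1 1 * N 1 0) * Polynomial.X +
    Polynomial.C (M 0 0 * N 0 0 + M 0 1 * N 1 0 + M 1 0 * N 0 1 + M 1 1 * N 1 1)
  have hP : ∀ y : F, ((A * (Classical.GL2.uniSL y * B * (Classical.GL2.uniSL y)⁻¹) : SL(2, F)) :
      Matrix (Fin 2) (Fin 2) F).trace = P.eval y := by
    intro y
    simp only [Classical.GL2.uniSL_inv, Matrix.SpecialLinearGroup.coe_mul, Classical.GL2.coe_uniSL]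
    simp [P, trace_fin_two, Matrix.mul_apply, Matrix.vecMul, dotProduct, Fin.sum_univ_two, ← hM, ← hN]
    ring
  have hdeg : P.natDegree = 2 := Polynomial.natDegree_quadratic (neg_ne_zero.2 (mul_ne_zero hA hB))
  by_contra hall
  push Not at hall
  have hroot : ∀ y : F, P.eval y ^ 2 = w := fun y => by rw [← hP y]; exact hall _
  have hfib : ∀ v : F, (Finset.univ.filter fun y : F => P.eval y = v).card ≤ 2 := by
    intro v
    refine le_trans (Polynomial.card_le_degree_of_subset_roots (p := P - Polynomial.C v) ?_)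
      (by rw [Polynomial.natDegree_sub_C, hdeg])
    intro y hy
    have hne : P - Polynomial.C v ≠ 0 := fun e => by
      have := congrArg Polynomial.natDegree e
      rw [Polynomial.natDegree_sub_C, hdeg, Polynomial.natDegree_zero] at this
      omega
    rw [Polynomial.mem_roots hne]
    simpa [sub_eq_zero] using hy
  have hcov : (Finset.univ : Finset F) ⊆ (Finset.univ.filter fun y : F => P.eval y = P.eval 0) ∪
      (Finset.univ.filter fun y : F => P.eval y = -P.eval 0) := by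
    intro y _
    have : (P.eval y - P.eval 0) * (P.eval y + P.eval 0) = 0 := by
      linear_combination hroot y - hroot 0
    rcases mul_eq_zero.1 this with e | e
    · simp [sub_eq_zero.1 e]
    · simp [eq_neg_of_add_eq_zero_left e]
  have hle := (Finset.card_le_card hcov).trans (Finset.card_union_le _ _)
  rw [Finset.card_univ] at hle
  have h1 := hfib (P.eval 0)
  have h2 := hfib (-P.eval 0)
  have hq : Fintype.card F = 4 := by omega
  have hchar : (2 : F) = 0 := by
    have h := Nat.cast_card_eq_zero F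
    rw [hq] at h
    have : (2 : F) * 2 = 0 := by
      norm_num
      exact_mod_cast h
    rcases mul_eq_zero.1 this with e | e <;> exact e
  have hneg : -P.eval 0 = P.eval 0 := by linear_combination -P.eval 0 * hchar
  rw [hneg, Finset.union_self] at hcov
  have := Finset.card_le_card hcov
  rw [Finset.card_univ] at this
  omega

theorem trace_sq_of_isConj {g h : SL(2, F)} (hc : IsConj (toPSL g) (toPSL h)) :
    (g : Matrix (Fin 2) (Fin 2) F).trace ^ 2 = (h : Matrix (Fin 2) (Fin 2) F).trace ^ 2 := by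
  obtain ⟨x, hx⟩ := isConj_iff.1 hc
  obtain ⟨u, rfl⟩ := QuotientGroup.mk_surjective x
  obtain ⟨c, hc2, hc⟩ := isScalar_SL
    ((mem_center_iff ((u * g * u⁻¹)⁻¹ * h)).1 (QuotientGroup.eq.1 hx))
  have hh : (h : Matrix (Fin 2) (Fin 2) F) = c • ((u * g * u⁻¹ : SL(2, F)) : Matrix (Fin 2) (Fin 2) F) := by
    rw [show h = u * g * u⁻¹ * ((u * g * u⁻¹)⁻¹ * h) by rw [mul_inv_cancel_left],
      Matrix.SpecialLinearGroup.coe_mul, hc, Matrix.mul_smul, Matrix.mul_one]
  rw [hh, trace_smul, ← trace_eq_of_isConj_SL (isConj_iff.2 ⟨u, rfl⟩), smul_eq_mul, mul_pow, hc2, one_mul]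

end Cfsg.Agent.GL2.PSLProducts
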