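import Mathlib
import Cfsg.Agent.Lib.GL2.PSLProducts

/-!
# Class sizes in `PSL₂(q)`
-/

set_option autoImplicit false
set_option linter.unusedSectionVars false

open Matrix
open scoped MatrixGroups

namespace Cfsg.Agent.GL2.PSLClassSizes

open Classes Counts PSLProducts

variable {F : Type*} [Field F] [Fintype F]

theorem natCard_centralizer_split (g : SL(2, F))
    (hne : (g : Matrix (Fin 2) (Fin 2) F).trace ^ 2 ≠ 4) {r : F}
    (hr : r ^ 2 - (g : Matrix (Fin 2) (Fin 2) F).trace * r + 1 = 0) :
    Nat.card (Subgroup.centralizer ({g} : Set SL(2, F))) = Fintype.card F - 1 := by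
  classical
  rw [← Nat.card_congr (centralizerEquivSL g (not_scalar_of_trace hne))]
  set t := (g : Matrix (Fin 2) (Fin 2) F).trace with ht
  have hr0 : r ≠ 0 := fun e => one_ne_zero (α := F) (by rw [e] at hr; linear_combination hr)
  have hrr : r - (t - r) ≠ 0 := fun e => hne (by linear_combination -4 * hr - (t - 2 * r) * e + 4 * r * (0 : F))
  have hval : ∀ x : F × F,
      normForm (g : Matrix (Fin 2) (Fin 2) F) x = (x.1 + r * x.2) * (x.1 + (t - r) * x.2) := by
    intro x
    simp only [normForm, ← ht, g.2]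
    linear_combination x.2 ^ 2 * hr
  let e : {x : F × F // normForm (g : Matrix (Fin 2) (Fin 2) F) x = 1} ≃ Fˣ :=
    { toFun := fun x => Units.mk0 (x.1.1 + r * x.1.2) (fun h => by
        have := x.2; rw [hval, h, zero_mul] at this; exact zero_ne_one this)
      invFun := fun u => ⟨((u : F) - r * (((u : F) - (u : F)⁻¹) / (r - (t - r))),
          ((u : F) - (u : F)⁻¹) / (r - (t - r))), by
        set w := ((u : F) - (u : F)⁻¹) / (r - (t - r)) with hw
        have e1 : w * (r - (t - r)) = (u : F) - (u : F)⁻¹ := div_mul_cancel₀ _ hrr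
        rw [hval, sub_add_cancel,
          show (u : F) - r * w + (t - r) * w = (u : F)⁻¹ by linear_combination -e1,
          mul_inv_cancel₀ u.ne_zero]⟩
      left_inv := fun x => by
        obtain ⟨⟨a, b⟩, hab⟩ := x
        rw [hval] at hab
        have hi : (a + r * b)⁻¹ = a + (t - r) * b := inv_eq_of_mul_eq_one_right hab
        have eb : (a + r * b - (a + r * b)⁻¹) / (r - (t - r)) = b := by
          rw [hi, div_eq_iff hrr]; ring
        refine Subtype.ext (Prod.ext ?_ ?_) <;> simp only [Units.val_mk0, eb] <;> ring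
      right_inv := fun u => Units.ext (by simp) }
  rw [Nat.card_congr e, Nat.card_units, Nat.card_eq_fintype_card]

theorem natCard_centralizer_elliptic_SL (g : SL(2, F))
    (h : ∀ r : F, r ^ 2 - (g : Matrix (Fin 2) (Fin 2) F).trace * r + 1 ≠ 0) :
    Nat.card (Subgroup.centralizer ({g} : Set SL(2, F))) = Fintype.card F + 1 := by
  classical
  set t := (g : Matrix (Fin 2) (Fin 2) F).trace with ht
  have hns : ¬ IsScalar (g : Matrix (Fin 2) (Fin 2) F) := fun hsc => by
    obtain ⟨c, hc2, hc⟩ := isScalar_SL hsc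
    refine h c ?_
    rw [ht, hc, trace_smul, trace_one, Fintype.card_fin]
    simp only [smul_eq_mul, Nat.cast_ofNat]
    linear_combination -hc2
  haveI : Fact (∀ r : F, r ^ 2 ≠ (-1 : F) + t * r) := ⟨fun r hr => h r (by linear_combination hr)⟩
  have hN : ∀ w : QuadraticAlgebra F (-1) t,
      normForm (g : Matrix (Fin 2) (Fin 2) F) (w.re, w.im) = QuadraticAlgebra.norm w := by
    intro w
    rw [QuadraticAlgebra.norm_def]
    simp only [normForm, ← ht, g.2]
    ring
  rw [← Nat.card_congr (centralizerEquivSL g hns), ← Classical.Torus.natCard_normOne (A := (-1 : F)) (B := t)]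
  refine (Nat.card_eq_of_bijective (fun z : Classical.Torus.normOne F (-1) t =>
    (⟨(((z.1 : (QuadraticAlgebra F (-1) t)ˣ) : QuadraticAlgebra F (-1) t).re,
      ((z.1 : (QuadraticAlgebra F (-1) t)ˣ) : QuadraticAlgebra F (-1) t).im),
      (hN _).trans (Classical.Torus.mem_normOne.1 z.2)⟩ :
      {x : F × F // normForm (g : Matrix (Fin 2) (Fin 2) F) x = 1})) ⟨?_, ?_⟩).symm
  · intro z w e
    have e' := congrArg Subtype.val e
    exact Subtype.ext (Units.ext (QuadraticAlgebra.ext (congrArg Prod.fst e') (congrArg Prod.snd e')))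
  · rintro ⟨⟨a, b⟩, hab⟩
    have hn : QuadraticAlgebra.norm (⟨a, b⟩ : QuadraticAlgebra F (-1) t) = 1 := by rw [← hN]; exact hab
    have hu : IsUnit (⟨a, b⟩ : QuadraticAlgebra F (-1) t) := IsUnit.of_mul_eq_one (star _) (by
      rw [← QuadraticAlgebra.algebraMap_norm_eq_mul_star, hn, map_one])
    exact ⟨⟨hu.unit, Classical.Torus.mem_normOne.2 hn⟩, rfl⟩

/-- The preimage in `SL₂` of a centraliser in `PSL₂`. -/
abbrev pre (g : SL(2, F)) : Subgroup SL(2, F) :=
  (Subgroup.centralizer ({toPSL g} : Set (Matrix.ProjectiveSpecialLinearGroup (Fin 2) F))).comap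
    (QuotientGroup.mk' (Subgroup.center SL(2, F)))

theorem negSL_central (a g : SL(2, F)) : a * negSL g = negSL (a * g) ∧ negSL g * a = negSL (g * a) :=
  ⟨Subtype.ext (by simp [coe_negSL]), Subtype.ext (by simp [coe_negSL])⟩

theorem mem_pre (g x : SL(2, F)) :
    x ∈ pre g ↔ x * g = g * x ∨ x * g = negSL (g * x) := by
  rw [Subgroup.mem_comap, Subgroup.mem_centralizer_singleton_iff]
  show toPSL (x * g) = toPSL (g * x) ↔ _
  constructor
  · intro h
    obtain ⟨c, hc2, hc⟩ := isScalar_SL ((mem_center_iff _).1 (QuotientGroup.eq.1 h.symm))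
    have he : (x * g : SL(2, F)).1 = c • (g * x : SL(2, F)).1 := by
      rw [show x * g = g * x * ((g * x)⁻¹ * (x * g)) by rw [mul_inv_cancel_left],
        Matrix.SpecialLinearGroup.coe_mul, hc, Matrix.mul_smul, Matrix.mul_one]
    rcases sq_eq_one_iff.1 hc2 with e | e
    · exact Or.inl (Subtype.ext (by rw [he, e, one_smul]))
    · exact Or.inr (Subtype.ext (by rw [he, e, coe_negSL, neg_smul, one_smul]))
  · rintro (h | h)
    · rw [h]
    · rw [h, toPSL_negSL]

theorem index_pre (g : SL(2, F)) :
    (Subgroup.centralizer ({toPSL g} : Set (Matrix.ProjectiveSpecialLinearGroup (Fin 2) F))).index *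
      Nat.card (pre g) = Fintype.card F * ((Fintype.card F - 1) * (Fintype.card F + 1)) := by
  rw [← Subgroup.index_comap_of_surjective _ (QuotientGroup.mk'_surjective (Subgroup.center SL(2, F))),
    mul_comm, Subgroup.card_mul_index, Classical.GL2.natCard_SL_two]

theorem pre_eq_of_trace (g : SL(2, F))
    (h : (2 : F) = 0 ∨ (g : Matrix (Fin 2) (Fin 2) F).trace ≠ 0) :
    pre g = Subgroup.centralizer ({g} : Set SL(2, F)) := by
  ext x
  rw [mem_pre, Subgroup.mem_centralizer_singleton_iff]
  refine ⟨fun hx => hx.elim id fun hx => ?_, Or.inl⟩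
  have hne2 : (2 : F) = 0 → x * g = g * x := fun h2 => by
    rw [hx]
    refine Subtype.ext ?_
    rw [coe_negSL]
    ext i j
    rw [Matrix.neg_apply]
    linear_combination -((g * x : SL(2, F)).1 i j) * h2
  rcases eq_or_ne (2 : F) 0 with h2 | h2
  · exact hne2 h2
  replace h := h.resolve_left h2
  exfalso
  have e : x * g * x⁻¹ = negSL g := by rw [hx, (negSL_central x⁻¹ (g * x)).2, mul_inv_cancel_right]
  have ht := trace_eq_of_isConj_SL (isConj_iff.2 ⟨x, e⟩)
  rw [coe_negSL, trace_neg] at ht
  exact h ((mul_eq_zero.1 (by linear_combination ht :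
    (2 : F) * (g : Matrix (Fin 2) (Fin 2) F).trace = 0)).resolve_left h2)

theorem natCard_pre_of_trace_zero (g : SL(2, F)) (h2 : (2 : F) ≠ 0)
    (h : (g : Matrix (Fin 2) (Fin 2) F).trace = 0) :
    Nat.card (pre g) = 2 * Nat.card (Subgroup.centralizer ({g} : Set SL(2, F))) := by
  classical
  have h4 : (4 : F) ≠ 0 := by rw [show (4 : F) = 2 * 2 by norm_num]; exact mul_ne_zero h2 h2
  obtain ⟨y, hy⟩ := isConj_iff.1 (isConj_of_trace (g := g) (h := negSL g)
    (by rw [coe_negSL, trace_neg, h, neg_zero]) (by rw [h]; simpa using h4.symm))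
  have hyg : y * g = negSL (g * y) := by
    rw [← (negSL_central y g).2, ← hy, inv_mul_cancel_right]
  have hne : ∀ z : SL(2, F), negSL z ≠ z := fun z e => by
    have e1 := congrArg (fun M : SL(2, F) => (M : Matrix (Fin 2) (Fin 2) F)) e
    simp only [coe_negSL] at e1
    have h1 := Matrix.SpecialLinearGroup.det_coe z
    have hz : (z : Matrix (Fin 2) (Fin 2) F) = 0 := by
      ext i j
      have := congrFun (congrFun e1 i) j
      simp only [Matrix.neg_apply] at this
      exact (mul_eq_zero.1 (by linear_combination -this : (2 : F) * _ = 0)).resolve_left h2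
    rw [hz] at h1
    simp at h1
  set C := Subgroup.centralizer ({g} : Set SL(2, F)) with hC
  let f : Bool × C → pre g := fun u => match u with
    | (false, c) => ⟨c, (mem_pre g _).2 (Or.inl (Subgroup.mem_centralizer_singleton_iff.1 c.2))⟩
    | (true, c) => ⟨y * c, (mem_pre g _).2 (Or.inr (by
        rw [mul_assoc, Subgroup.mem_centralizer_singleton_iff.1 c.2, ← mul_assoc, hyg,
          (negSL_central (c : SL(2, F)) (g * y)).2, mul_assoc]))⟩
  have hf : Function.Bijective f := by
    have hyC : y ∉ C := fun hy' => hne (g * y) (by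
      rw [← hyg, Subgroup.mem_centralizer_singleton_iff.1 hy'])
    constructor
    · rintro ⟨_ | _, a⟩ ⟨_ | _, b⟩ e <;> have e' := congrArg Subtype.val e <;> simp only [f] at e'
      · rw [Subtype.ext e']
      · exact absurd (C.mul_mem_cancel_right b.2 |>.1 (e' ▸ a.2)) hyC
      · exact absurd (C.mul_mem_cancel_right a.2 |>.1 (e'.symm ▸ b.2)) hyC
      · rw [Subtype.ext (mul_left_cancel e')]
    · rintro ⟨x, hx⟩
      rcases (mem_pre g x).1 hx with hx | hx
      · exact ⟨(false, ⟨x, Subgroup.mem_centralizer_singleton_iff.2 hx⟩), rfl⟩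
      · refine ⟨(true, ⟨y⁻¹ * x, Subgroup.mem_centralizer_singleton_iff.2 ?_⟩),
          Subtype.ext (mul_inv_cancel_left y x)⟩
        rw [mul_assoc, hx, inv_mul_eq_iff_eq_mul, ← mul_assoc y, hyg,
          (negSL_central (y⁻¹ * x) (g * y)).2, mul_assoc g y, mul_inv_cancel_left]
  rw [← Nat.card_eq_of_bijective f hf, Nat.card_prod, Nat.card_eq_fintype_card (α := Bool),
    Fintype.card_bool]

theorem exists_elliptic_trace (h4 : 4 ≤ Fintype.card F) :
    ∃ t : F, t ≠ 0 ∧ ∀ r : F, r ^ 2 - t * r + 1 ≠ 0 := by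
  classical
  obtain ⟨A, hA⟩ := Classical.Torus.exists_irreducible F
  haveI : Fact (∀ r : F, r ^ 2 ≠ A + 1 * r) := ⟨hA⟩
  obtain ⟨z, hz⟩ := IsCyclic.exists_generator (α := Classical.Torus.normOne F A 1)
  have hord : orderOf z = Fintype.card F + 1 := by
    rw [orderOf_eq_card_of_forall_mem_zpowers hz, Classical.Torus.natCard_normOne]
  set w : QuadraticAlgebra F A 1 := ((z.1 : (QuadraticAlgebra F A 1)ˣ) : QuadraticAlgebra F A 1) with hw
  have hord' : orderOf w = Fintype.card F + 1 := by
    rw [hw, orderOf_units, Subgroup.orderOf_coe, hord]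
  set t := 2 * w.re + 1 * w.im with ht
  have hn : QuadraticAlgebra.norm w = 1 := Classical.Torus.mem_normOne.1 z.2
  have hquad : w * w - algebraMap F _ t * w + 1 = 0 := by
    have e1 : w * star w = 1 := by
      rw [← QuadraticAlgebra.algebraMap_norm_eq_mul_star, hn, map_one]
    rw [show algebraMap F (QuadraticAlgebra F A 1) t = w + star w by ext <;> simp [ht] <;> ring]
    linear_combination -e1
  refine ⟨t, fun h0 => ?_, fun r hr => ?_⟩
  · rw [h0, map_zero, zero_mul, sub_zero] at hquad
    have h4' : w ^ 4 = 1 := by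
      have : w * w = -1 := eq_neg_of_add_eq_zero_left hquad
      rw [show w ^ 4 = (w * w) * (w * w) by ring, this]; ring
    have := Nat.le_of_dvd (by norm_num) (orderOf_dvd_of_pow_eq_one h4')
    omega
  · have hr0 : r ≠ 0 := fun e => one_ne_zero (α := F) (by rw [e] at hr; linear_combination hr)
    have hprod : (w - algebraMap F _ r) * (w - algebraMap F _ (t - r)) = 0 := by
      have hz' : algebraMap F (QuadraticAlgebra F A 1) (r * (t - r)) = 1 := by
        rw [show r * (t - r) = 1 by linear_combination -hr, map_one]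
      rw [map_mul] at hz'
      rw [map_sub] at hz' ⊢
      linear_combination hquad + hz'
    obtain ⟨u, hu, hu0⟩ : ∃ u : F, w = algebraMap F _ u ∧ u ≠ 0 := by
      rcases mul_eq_zero.1 hprod with e | e
      · exact ⟨r, sub_eq_zero.1 e, hr0⟩
      · exact ⟨t - r, sub_eq_zero.1 e, fun e0 => one_ne_zero (α := F) (by linear_combination hr + r * e0)⟩
    have := Nat.le_of_dvd (by omega) (orderOf_dvd_of_pow_eq_one (x := w) (n := Fintype.card F - 1) (by
      rw [hu, ← map_pow, FiniteField.pow_card_sub_one_eq_one u hu0, map_one]))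
    omega

end Cfsg.Agent.GL2.PSLClassSizes
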