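import Cfsg.Agent.Lib.GL2.Principal
import Cfsg.Agent.Lib.GL2.Counts
import Cfsg.Agent.Lib.Characters.Integrality

/-!
# The irreducible characters of `GL₂(q)`
-/

set_option autoImplicit false
set_option linter.unusedSectionVars false

open Matrix
open scoped MatrixGroups ComplexConjugate

namespace Cfsg.Agent.GL2.ClassifyGL

open Borel Principal Classes
open Cfsg.Agent.Characters

universe u

variable {F : Type u} [Field F] [Fintype F] [DecidableEq F]

/-- Orthogonality to every principal series. -/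
def IsCusp (χ : GL (Fin 2) F → ℂ) : Prop :=
  ∀ α β : MulChar F ℂ, Cfsg.classInner (pind α β) χ = 0

theorem classFun_eq_of_isConj {G : Type*} [Group G] {χ : G → ℂ} (hχ : Cfsg.IsClassFunction G χ)
    {g h : G} (hc : IsConj g h) : χ h = χ g := by
  obtain ⟨c, rfl⟩ := isConj_iff.1 hc
  exact hχ g c

theorem isConj_mkB_diag {p r : Fˣ} (h : p ≠ r) (x : F) : IsConj (mkB p r 0) (mkB p r x) := by
  have hne : (p : F) ≠ r := fun e => h (Units.ext e)
  refine isConj_GL_of_not_scalar ?_ ?_ (by simp [trace_fin_two]) (by simp [det_fin_two]) <;>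
    simp [isScalar_iff, hne]

theorem isConj_mkB_uni (p : Fˣ) {x : F} (hx : x ≠ 0) : IsConj (mkB p p 1) (mkB p p x) :=
  isConj_GL_of_not_scalar (by simp [isScalar_iff]) (by simp [isScalar_iff, hx])
    (by simp [trace_fin_two]) (by simp [det_fin_two])

theorem cusp_sum_eq_zero {χ : GL (Fin 2) F → ℂ} (hχ : Cfsg.IsClassFunction (GL (Fin 2) F) χ)
    (h : IsCusp χ) (p₀ r₀ : Fˣ) : ∑ x : F, χ (mkB p₀ r₀ x) = 0 := by
  classical
  haveI := Fintype.ofFinite (MulChar F ℂ)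
  set S : Fˣ × Fˣ → ℂ := fun t => conj (∑ x : F, χ (mkB t.1 t.2 x)) with hS
  have hzero : ∀ α β : MulChar F ℂ, ∑ t : Fˣ × Fˣ, α t.1 * β t.2 * S t = 0 := by
    intro α β
    have := h α β
    rw [classInner_pind_left α β hχ, mul_eq_zero, inv_eq_zero, Nat.cast_eq_zero] at this
    rw [Fintype.sum_prod_type]
    exact this.resolve_left Nat.card_pos.ne'
  have hc : ∑ a : MulChar F ℂ × MulChar F ℂ, ∑ t : Fˣ × Fˣ,
      a.1 ((p₀⁻¹ * t.1 : Fˣ) : F) * a.2 ((r₀⁻¹ * t.2 : Fˣ) : F) * S t = 0 := by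
    refine Finset.sum_eq_zero fun a _ => ?_
    rw [← mul_zero (a.1 ((p₀⁻¹ : Fˣ) : F) * a.2 ((r₀⁻¹ : Fˣ) : F)), ← hzero a.1 a.2, Finset.mul_sum]
    refine Finset.sum_congr rfl fun t _ => ?_
    simp only [Units.val_mul, map_mul]
    ring
  rw [Finset.sum_comm] at hc
  simp_rw [← Finset.sum_mul, Fintype.sum_prod_type (γ := ℂ) (α₁ := MulChar F ℂ), ← Finset.sum_mul_sum,
    sum_chars, inv_mul_eq_one] at hc
  rw [Finset.sum_eq_single (p₀, r₀)] at hc
  · simp only [if_pos, mul_eq_zero] at hc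
    have h0 := card_units_ne_zero (F := F)
    simp only [mul_eq_zero, h0, or_self, false_or, hS] at hc
    exact star_eq_zero.1 hc
  · intro t _ ht
    by_cases h1 : p₀ = t.1
    · rw [if_neg (fun h2 : r₀ = t.2 => ht (Prod.ext h1.symm h2.symm)), mul_zero, zero_mul]
    · rw [if_neg h1]; simp
  · simp

theorem cusp_diag {χ : GL (Fin 2) F → ℂ} (hχ : Cfsg.IsClassFunction (GL (Fin 2) F) χ)
    (h : IsCusp χ) {p r : Fˣ} (hpr : p ≠ r) (x : F) : χ (mkB p r x) = 0 := by
  have h1 := cusp_sum_eq_zero hχ h p r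
  rw [Finset.sum_congr rfl fun y _ => classFun_eq_of_isConj hχ (isConj_mkB_diag hpr y),
    Finset.sum_const, Finset.card_univ, nsmul_eq_mul, mul_eq_zero] at h1
  rw [classFun_eq_of_isConj hχ (isConj_mkB_diag hpr x)]
  exact h1.resolve_left card_ne_zero

theorem mkB_one : mkB (1 : Fˣ) 1 (0 : F) = 1 := Units.ext (by simp [Matrix.one_fin_two])

theorem cusp_degree {χ : GL (Fin 2) F → ℂ} (hχ : Cfsg.IsIrrCharacter (GL (Fin 2) F) χ)
    (h : IsCusp χ) : ∃ m : ℕ, 1 ≤ m ∧ χ 1 = (m : ℂ) * Fintype.card Fˣ ∧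
      χ (mkB 1 1 1) = -(m : ℂ) := by
  have hcl := char_isClassFunction (isCharacter_of_isIrr hχ)
  obtain ⟨n, hn, hn1⟩ := irr_one_pos hχ
  have h1 := cusp_sum_eq_zero hcl h 1 1
  rw [Fintype.sum_eq_add_sum_subtype_ne _ (0 : F), mkB_one, Finset.sum_congr rfl fun y _ =>
    classFun_eq_of_isConj hcl (isConj_mkB_uni 1 y.2), Finset.sum_const, Finset.card_univ,
    nsmul_eq_mul, Fintype.card_subtype_compl, Fintype.card_subtype_eq, ← Fintype.card_units, hn1] at h1
  set c := Fintype.card Fˣ with hc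
  have hc0 : (c : ℂ) ≠ 0 := card_units_ne_zero
  have hu : χ (mkB 1 1 1) = (((-(n : ℚ) / c : ℚ)) : ℂ) := by
    push_cast
    rw [eq_div_iff hc0]
    linear_combination h1
  obtain ⟨z, hz⟩ := exists_int_of_isIntegral_ratCast
    (q := (-(n : ℚ) / c)) (hu ▸ char_value_isIntegral (isCharacter_of_isIrr hχ) (mkB 1 1 1))
  have hz' : χ (mkB 1 1 1) = (z : ℂ) := hu.trans hz
  rw [hz'] at h1
  have hzi : (n : ℤ) + (c : ℤ) * z = 0 := by exact_mod_cast h1
  have hzneg : z ≤ -1 := by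
    by_contra hcon
    have : 0 ≤ (c : ℤ) * z := mul_nonneg (by positivity) (by omega)
    omega
  refine ⟨(-z).toNat, by omega, ?_, ?_⟩
  · rw [hn1, show ((-z).toNat : ℂ) = ((-z : ℤ) : ℂ) by
      rw [← Int.cast_natCast, Int.toNat_of_nonneg (by omega)]]
    push_cast
    linear_combination h1
  · rw [hz', show ((-z).toNat : ℂ) = ((-z : ℤ) : ℂ) by
      rw [← Int.cast_natCast, Int.toNat_of_nonneg (by omega)]]
    push_cast
    ring

theorem lin_ne_stTw (α β : MulChar F ℂ) : lin α ≠ stTw β := fun h => by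
  have h1 := congrFun h 1
  rw [lin_one_apply, stTw_one] at h1
  exact Fintype.one_lt_card.ne (α := ℕ) (Nat.cast_injective (R := ℂ) (by simpa using h1))

theorem lin_not_cusp (α : MulChar F ℂ) : ¬ IsCusp (lin α) := fun h => by
  classical
  simpa [classInner_pind_lin] using h α α

theorem stTw_not_cusp (α : MulChar F ℂ) : ¬ IsCusp (stTw α) := fun h => by
  have h1 := h α α
  rw [pind_self_decomp, classInner_add_left, classInner_isIrr_self (isIrr_stTw α),
    classInner_isIrr_ne (isIrr_lin α) (isIrr_stTw α) (lin_ne_stTw α α)] at h1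
  norm_num at h1

theorem pind_not_cusp {α β : MulChar F ℂ} (hne : α ≠ β) : ¬ IsCusp (pind α β) := fun h => by
  classical
  have h1 := h α β
  rw [classInner_pind_self, if_neg hne] at h1
  exact one_ne_zero h1

theorem classify {χ : GL (Fin 2) F → ℂ} (hχ : Cfsg.IsIrrCharacter (GL (Fin 2) F) χ) :
    (∃ α, χ = lin α) ∨ (∃ α, χ = stTw α) ∨ (∃ α β, α ≠ β ∧ χ = pind α β) ∨ IsCusp χ := by
  by_cases h : IsCusp χ
  · exact Or.inr (Or.inr (Or.inr h))
  obtain ⟨α, β, hne⟩ : ∃ α β, Cfsg.classInner (pind α β) χ ≠ 0 := by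
    simpa [IsCusp] using h
  by_cases hab : α = β
  · subst hab
    rw [pind_self_decomp, classInner_add_left] at hne
    by_cases h1 : χ = lin α
    · exact Or.inl ⟨α, h1⟩
    by_cases h2 : χ = stTw α
    · exact Or.inr (Or.inl ⟨α, h2⟩)
    rw [classInner_isIrr_ne (isIrr_lin α) hχ (Ne.symm h1),
      classInner_isIrr_ne (isIrr_stTw α) hχ (Ne.symm h2), add_zero] at hne
    exact absurd rfl hne
  · refine Or.inr (Or.inr (Or.inl ⟨α, β, hab, ?_⟩))
    by_contra h1
    exact hne (classInner_isIrr_ne (isIrr_pind hab) hχ (Ne.symm h1))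

/-- The four families of irreducible characters, with their sizes and the cuspidal degrees. -/
theorem families :
    Nat.card {χ : Cfsg.IrrCharacter (GL (Fin 2) F) // ∃ α, (χ : GL (Fin 2) F → ℂ) = lin α} =
        Fintype.card Fˣ ∧
      Nat.card {χ : Cfsg.IrrCharacter (GL (Fin 2) F) // ∃ α, (χ : GL (Fin 2) F → ℂ) = stTw α} =
        Fintype.card Fˣ ∧
      2 * Nat.card {χ : Cfsg.IrrCharacter (GL (Fin 2) F) //
          ∃ α β, α ≠ β ∧ (χ : GL (Fin 2) F → ℂ) = pind α β} + Fintype.card Fˣ =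
        Fintype.card Fˣ ^ 2 ∧
      2 * Nat.card {χ : Cfsg.IrrCharacter (GL (Fin 2) F) // IsCusp (χ : GL (Fin 2) F → ℂ)} =
        Fintype.card Fˣ * Fintype.card F ∧
      ∀ χ : GL (Fin 2) F → ℂ, Cfsg.IsIrrCharacter (GL (Fin 2) F) χ → IsCusp χ →
        χ 1 = Fintype.card Fˣ ∧ χ (mkB 1 1 1) = -1 := by
  classical
  haveI := Fintype.ofFinite (Cfsg.IrrCharacter (GL (Fin 2) F))
  haveI := Fintype.ofFinite (MulChar F ℂ)
  set n := Fintype.card Fˣ with hn
  have hq : Fintype.card F = n + 1 := by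
    rw [hn, Fintype.card_units]; have := Fintype.card_pos (α := F); omega
  have hM : Fintype.card (MulChar F ℂ) = n := by
    rw [← Nat.card_eq_fintype_card, natCard_mulChar, hn, Fintype.card_units]
  set PL : Cfsg.IrrCharacter (GL (Fin 2) F) → Prop := fun χ => ∃ α, (χ : GL (Fin 2) F → ℂ) = lin α
  set PS : Cfsg.IrrCharacter (GL (Fin 2) F) → Prop := fun χ => ∃ α, (χ : GL (Fin 2) F → ℂ) = stTw α
  set PP : Cfsg.IrrCharacter (GL (Fin 2) F) → Prop :=
    fun χ => ∃ α β, α ≠ β ∧ (χ : GL (Fin 2) F → ℂ) = pind α β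
  set PC : Cfsg.IrrCharacter (GL (Fin 2) F) → Prop := fun χ => IsCusp (χ : GL (Fin 2) F → ℂ)
  have hL : (Finset.univ.filter PL).card = n := by
    rw [← hM, ← Finset.card_univ]
    refine (Finset.card_bij (fun α _ => ⟨lin α, isIrr_lin α⟩) (fun α _ => by simp [PL])
      (fun α _ β _ h => lin_injective (congrArg Subtype.val h)) ?_).symm
    intro χ hχ
    obtain ⟨α, hα⟩ := (Finset.mem_filter.1 hχ).2
    exact ⟨α, Finset.mem_univ _, Subtype.ext hα.symm⟩
  have hS : (Finset.univ.filter PS).card = n := by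
    rw [← hM, ← Finset.card_univ]
    refine (Finset.card_bij (fun α _ => ⟨stTw α, isIrr_stTw α⟩) (fun α _ => by simp [PS])
      (fun α _ β _ h => stTw_injective (congrArg Subtype.val h)) ?_).symm
    intro χ hχ
    obtain ⟨α, hα⟩ := (Finset.mem_filter.1 hχ).2
    exact ⟨α, Finset.mem_univ _, Subtype.ext hα.symm⟩
  have hP : 2 * (Finset.univ.filter PP).card + n = n ^ 2 := by
    have hoff : (Finset.univ : Finset (MulChar F ℂ)).offDiag.card + n = n ^ 2 := by
      rw [Finset.offDiag_card, Finset.card_univ, hM, sq, Nat.sub_add_cancel (Nat.le_mul_self n)]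
    rw [← hoff, Finset.card_eq_sum_card_fiberwise
      (f := fun x : MulChar F ℂ × MulChar F ℂ => pind x.1 x.2)
      (t := (Finset.univ.filter PP).map ⟨Subtype.val, Subtype.val_injective⟩)]
    · rw [Finset.sum_map, Finset.sum_congr rfl (g := fun _ => 2), Finset.sum_const, smul_eq_mul,
        mul_comm]
      intro χ hχ
      obtain ⟨α, β, hne, he⟩ := (Finset.mem_filter.1 hχ).2
      rw [show ((Finset.univ : Finset (MulChar F ℂ)).offDiag.filter fun x => pind x.1 x.2 =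
        (⟨Subtype.val, Subtype.val_injective⟩ : _ ↪ (GL (Fin 2) F → ℂ)) χ) = {(α, β), (β, α)} by
        ext x
        simp only [Finset.mem_filter, Finset.mem_offDiag, Finset.mem_univ, true_and,
          Function.Embedding.coeFn_mk, he, pind_eq_iff, Finset.mem_insert, Finset.mem_singleton,
          Prod.ext_iff]
        constructor
        · exact fun h => h.2
        · rintro (⟨h1, h2⟩ | ⟨h1, h2⟩)
          · exact ⟨by rw [h1, h2]; exact hne, Or.inl ⟨h1, h2⟩⟩
          · exact ⟨by rw [h1, h2]; exact hne.symm, Or.inr ⟨h1, h2⟩⟩]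
      exact Finset.card_pair (fun h => hne (congrArg Prod.fst h))
    · intro x hx
      simp only [Finset.coe_offDiag, Set.mem_offDiag, Finset.coe_univ, Set.mem_univ, true_and] at hx
      simp only [Finset.coe_map, Set.mem_image, Finset.mem_coe, Finset.mem_filter, Finset.mem_univ,
        true_and, Function.Embedding.coeFn_mk]
      exact ⟨⟨pind x.1 x.2, isIrr_pind hx⟩, ⟨x.1, x.2, hx, rfl⟩, rfl⟩
  have hdLS : ∀ χ, PL χ → ¬ PS χ := fun χ ⟨α, ha⟩ ⟨β, hb⟩ => lin_ne_stTw α β (ha ▸ hb)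
  have hq1 := Fintype.one_lt_card (α := F)
  have hdLP : ∀ χ, PL χ → ¬ PP χ := by
    rintro χ ⟨α, ha⟩ ⟨γ, δ, -, hb⟩
    have h1 := congrFun (ha.symm.trans hb) 1
    rw [lin_one_apply, pind_one] at h1
    exact Fintype.card_ne_zero (Nat.cast_eq_zero (R := ℂ) |>.1 (by linear_combination -h1))
  have hdSP : ∀ χ, PS χ → ¬ PP χ := by
    rintro χ ⟨α, ha⟩ ⟨γ, δ, -, hb⟩
    have h1 := congrFun (ha.symm.trans hb) 1
    rw [stTw_one, pind_one] at h1
    exact one_ne_zero (α := ℂ) (by linear_combination -h1)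
  have hdC : ∀ χ, (PL χ ∨ PS χ ∨ PP χ) → ¬ PC χ := by
    rintro χ (⟨α, ha⟩ | ⟨α, ha⟩ | ⟨α, β, hne, ha⟩) hC <;> simp only [PC, ha] at hC
    exacts [lin_not_cusp α hC, stTw_not_cusp α hC, pind_not_cusp hne hC]
  have hsplit : ∀ f : Cfsg.IrrCharacter (GL (Fin 2) F) → ℂ, ∑ χ, f χ =
      ∑ χ ∈ Finset.univ.filter PL, f χ + ∑ χ ∈ Finset.univ.filter PS, f χ +
        ∑ χ ∈ Finset.univ.filter PP, f χ + ∑ χ ∈ Finset.univ.filter PC, f χ := by
    intro f
    rw [← Finset.sum_union (Finset.disjoint_filter.2 fun χ _ => hdLS χ), ← Finset.sum_union,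
      ← Finset.sum_union]
    · refine Finset.sum_congr (Finset.ext fun χ => ?_) fun _ _ => rfl
      simp only [Finset.mem_univ, Finset.mem_union, Finset.mem_filter, true_and, true_iff]
      rcases classify χ.2 with h | h | h | h
      exacts [Or.inl (Or.inl (Or.inl h)), Or.inl (Or.inl (Or.inr h)), Or.inl (Or.inr h), Or.inr h]
    · rw [Finset.disjoint_left]
      intro χ h hc
      simp only [Finset.mem_union, Finset.mem_filter, Finset.mem_univ, true_and] at h hc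
      rcases h with (h | h) | h
      exacts [hdC χ (.inl h) hc, hdC χ (.inr (.inl h)) hc, hdC χ (.inr (.inr h)) hc]
    · rw [Finset.disjoint_left]
      intro χ h hc
      simp only [Finset.mem_union, Finset.mem_filter, Finset.mem_univ, true_and] at h hc
      rcases h with h | h
      exacts [hdLP χ h hc, hdSP χ h hc]
  have hcard := hsplit fun _ => 1
  simp only [Finset.sum_const, nsmul_eq_mul, mul_one, Finset.card_univ, hL, hS] at hcard
  rw [← Nat.card_eq_fintype_card, card_irrCharacter, Counts.card_classes_GL, hq] at hcard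
  have hC : 2 * (Finset.univ.filter PC).card = n * (n + 1) := by
    have : (n + 1) ^ 2 - 1 = n + n + (Finset.univ.filter PP).card + (Finset.univ.filter PC).card := by
      exact_mod_cast hcard
    have e : (n + 1) ^ 2 = n ^ 2 + 2 * n + 1 := by ring
    have e2 : n * (n + 1) = n ^ 2 + n := by ring
    omega
  choose m hm1 hm2 hm3 using fun χ : Cfsg.IrrCharacter (GL (Fin 2) F) => fun h : PC χ =>
    cusp_degree χ.2 h
  let M : Cfsg.IrrCharacter (GL (Fin 2) F) → ℕ := fun χ => if h : PC χ then m χ h else 0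
  have hsq := hsplit fun χ => (χ : GL (Fin 2) F → ℂ) 1 ^ 2
  have e1 : ∑ χ ∈ Finset.univ.filter PL, (χ : GL (Fin 2) F → ℂ) 1 ^ 2 =
      ∑ χ ∈ Finset.univ.filter PL, (1 : ℂ) := Finset.sum_congr rfl fun χ hχ => by
    obtain ⟨α, ha⟩ := (Finset.mem_filter.1 hχ).2
    rw [ha, lin_one_apply, one_pow]
  have e2 : ∑ χ ∈ Finset.univ.filter PS, (χ : GL (Fin 2) F → ℂ) 1 ^ 2 =
      ∑ χ ∈ Finset.univ.filter PS, ((n : ℂ) + 1) ^ 2 := Finset.sum_congr rfl fun χ hχ => by
    obtain ⟨α, ha⟩ := (Finset.mem_filter.1 hχ).2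
    rw [ha, stTw_one, hq, Nat.cast_add_one]
  have e3 : ∑ χ ∈ Finset.univ.filter PP, (χ : GL (Fin 2) F → ℂ) 1 ^ 2 =
      ∑ χ ∈ Finset.univ.filter PP, ((n : ℂ) + 2) ^ 2 := Finset.sum_congr rfl fun χ hχ => by
    obtain ⟨α, β, -, ha⟩ := (Finset.mem_filter.1 hχ).2
    rw [ha, pind_one, hq, Nat.cast_add_one]; ring
  have e4 : ∑ χ ∈ Finset.univ.filter PC, (χ : GL (Fin 2) F → ℂ) 1 ^ 2 =
      ∑ χ ∈ Finset.univ.filter PC, ((M χ ^ 2 : ℕ) : ℂ) * (n : ℂ) ^ 2 :=
    Finset.sum_congr rfl fun χ hχ => by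
    have h := (Finset.mem_filter.1 hχ).2
    rw [hm2 χ h]
    simp [M, h]
    ring
  rw [sum_degree_sq, e1, e2, e3, e4] at hsq
  simp only [Finset.sum_const, nsmul_eq_mul, mul_one, ← Finset.sum_mul, ← Nat.cast_sum, hL, hS,
    Classical.GL2.natCard_GL_two, hq, Nat.add_sub_cancel] at hsq
  set T := ∑ χ ∈ Finset.univ.filter PC, M χ ^ 2 with hT
  have hsqN : (n + 1) * (n ^ 2 * (n + 1 + 1)) = n + n * (n + 1) ^ 2 +
      (Finset.univ.filter PP).card * (n + 2) ^ 2 + T * n ^ 2 := by exact_mod_cast hsq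
  have hn0 : 0 < n := Fintype.card_pos
  have hTC : T = (Finset.univ.filter PC).card := by
    have h2T : 2 * T * n ^ 2 = n * (n + 1) * n ^ 2 := by
      zify at hsqN hP ⊢
      linear_combination -2 * hsqN - ((n : ℤ) + 2) ^ 2 * hP
    have := Nat.eq_of_mul_eq_mul_right (pow_pos hn0 2) h2T
    omega
  have hM1 : ∀ χ ∈ Finset.univ.filter PC, 1 ≤ M χ ^ 2 := fun χ hχ => by
    have h := (Finset.mem_filter.1 hχ).2
    simp only [M, dif_pos h]
    exact Nat.one_le_pow _ _ (hm1 χ h)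
  have hall : ∀ χ ∈ Finset.univ.filter PC, M χ ^ 2 = 1 := by
    have : ∑ χ ∈ Finset.univ.filter PC, 1 = T := by rw [Finset.sum_const, smul_eq_mul, mul_one, hTC]
    exact fun χ hχ => ((Finset.sum_eq_sum_iff_of_le hM1).1 this χ hχ).symm
  refine ⟨?_, ?_, ?_, ?_, ?_⟩
  · rw [Nat.card_eq_fintype_card, Fintype.card_subtype]; exact hL
  · rw [Nat.card_eq_fintype_card, Fintype.card_subtype]; exact hS
  · rw [Nat.card_eq_fintype_card, Fintype.card_subtype]; exact hP
  · rw [Nat.card_eq_fintype_card, Fintype.card_subtype, hq]; exact hC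
  · intro χ hχ hc
    have h1 := hall ⟨χ, hχ⟩ (Finset.mem_filter.2 ⟨Finset.mem_univ _, hc⟩)
    simp only [M, dif_pos (show PC ⟨χ, hχ⟩ from hc)] at h1
    have hm' : m ⟨χ, hχ⟩ hc = 1 := (pow_eq_one_iff_left two_ne_zero).1 h1
    have h2 := hm2 ⟨χ, hχ⟩ hc
    have h3 := hm3 ⟨χ, hχ⟩ hc
    rw [hm'] at h2 h3
    exact ⟨by simpa using h2, by simpa using h3⟩

theorem cast_card_units : (Fintype.card Fˣ : ℂ) = (Fintype.card F : ℂ) - 1 := by
  rw [Fintype.card_units, Nat.cast_sub Fintype.card_pos, Nat.cast_one]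

/-- Classification with degrees. -/
theorem classify_degree {χ : GL (Fin 2) F → ℂ} (hχ : Cfsg.IsIrrCharacter (GL (Fin 2) F) χ) :
    ((∃ α, χ = lin α) ∧ χ 1 = 1) ∨
    ((∃ α, χ = stTw α) ∧ χ 1 = (Fintype.card F : ℂ)) ∨
    ((∃ α β, α ≠ β ∧ χ = pind α β) ∧ χ 1 = (Fintype.card F : ℂ) + 1) ∨
    (IsCusp χ ∧ χ 1 = (Fintype.card F : ℂ) - 1) := by
  rcases classify hχ with ⟨α, h⟩ | ⟨α, h⟩ | ⟨α, β, hne, h⟩ | h
  · exact Or.inl ⟨⟨α, h⟩, by rw [h, lin_one_apply]⟩
  · exact Or.inr (Or.inl ⟨⟨α, h⟩, by rw [h, stTw_one]⟩)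
  · exact Or.inr (Or.inr (Or.inl ⟨⟨α, β, hne, h⟩, by rw [h, pind_one]⟩))
  · exact Or.inr (Or.inr (Or.inr ⟨h, by rw [(families.2.2.2.2 χ hχ h).1, cast_card_units]⟩))

end Cfsg.Agent.GL2.ClassifyGL
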