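import Mathlib
import Cfsg.Agent.Lib.GL2.ValuesSL
import Cfsg.Agent.Lib.Classical.TorusNormalizer

/-!
# The cuspidal characters of `SL₂(q)` on the non-split torus

For `q` odd and a cyclic subgroup `C` of order `q + 1` of `SL₂(q)`, the function
`X θ = St ⊗ P(α) - P(α) - Ind_C θ` (with `α(-1) = θ(-1)`) is computed on the Borel subgroup and on
`C`; this is enough for all inner products.
-/

set_option autoImplicit false
set_option linter.unusedSectionVars false

open Matrix
open scoped MatrixGroups ComplexConjugate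

namespace Cfsg.Agent.GL2.CuspidalTorus

open Borel Principal PrincipalSL ClassifySL
open Cfsg.Agent.Characters
open Cfsg.Agent.Classical Cfsg.Agent.Classical.TorusNormalizer

universe u

variable {F : Type u} [Field F] [Fintype F] [DecidableEq F]

/-! ### Splitting the group into the Borel subgroup and the torus -/

theorem conj_mem_BS_of_eigen {g : SL(2, F)} {c : F} {v : Fin 2 → F} (hv : v ≠ 0)
    (h : (g : Matrix (Fin 2) (Fin 2) F) *ᵥ v = c • v) :
    ∃ x : SL(2, F), x * g * x⁻¹ ∈ BS F := by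
  have h0 := congrFun h 0
  have h1 := congrFun h 1
  simp [Matrix.mulVec, dotProduct, Fin.sum_univ_two] at h0 h1
  by_cases hv1 : v 1 = 0
  · have hv0 : v 0 ≠ 0 := fun e => hv (funext fun i => by fin_cases i <;> assumption)
    refine ⟨1, ?_⟩
    rw [one_mul, inv_one, mul_one]
    exact (mem_BS_iff g).2 (by simpa [hv1, hv0] using h1)
  · refine ⟨(repS (some (v 0 / v 1)))⁻¹, (mem_BS_iff _).2 ?_⟩
    rw [inv_inv]
    have := conj_repG (v 0 / v 1) (Matrix.SpecialLinearGroup.toGL g)
    rw [repG, ← map_inv, ← map_mul, ← map_mul] at this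
    refine this.trans ?_
    show (v 0 / v 1) ^ 2 * (g : Matrix (Fin 2) (Fin 2) F) 1 0 + v 0 / v 1 *
      ((g : Matrix (Fin 2) (Fin 2) F) 1 1 - (g : Matrix (Fin 2) (Fin 2) F) 0 0) -
      (g : Matrix (Fin 2) (Fin 2) F) 0 1 = 0
    field_simp
    linear_combination v 0 * h1 - v 1 * h0

theorem no_eigen_of_not_conj {g : SL(2, F)} (h : ∀ x : SL(2, F), x * g * x⁻¹ ∉ BS F) (c : F)
    (v : Fin 2 → F) (hv : v ≠ 0) : (g : Matrix (Fin 2) (Fin 2) F) *ᵥ v ≠ c • v := fun e => by
  obtain ⟨x, hx⟩ := conj_mem_BS_of_eigen hv e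
  exact h x hx

theorem trace_nonsquare (h2 : (2 : F) ≠ 0) {g : SL(2, F)}
    (hg : ∀ (c : F) (v : Fin 2 → F), v ≠ 0 → (g : Matrix (Fin 2) (Fin 2) F) *ᵥ v ≠ c • v) :
    ¬ IsSquare ((g : Matrix (Fin 2) (Fin 2) F).trace ^ 2 - 4) := by
  set t := (g : Matrix (Fin 2) (Fin 2) F).trace with ht
  rintro ⟨s, hs⟩
  have h0 : Classes.normForm (g : Matrix (Fin 2) (Fin 2) F) (-(t + s), 2) = 0 := by
    simp only [Classes.normForm, ← ht, g.2]
    linear_combination -hs
  exact h2 (congrArg Prod.snd (Counts.normForm_eq_zero_of_no_eigen hg h0))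

/-- The transport of a torus by conjugation. -/
theorem torusData_conj {T : Subgroup SL(2, F)} {y : SL(2, F)} (h : TorusData T y) (x : SL(2, F)) :
    TorusData (T.map (MulAut.conj x).toMonoidHom) (x * y * x⁻¹) := by
  have hz : x * negOne F * x⁻¹ = negOne F := Subtype.ext (by
    simp only [Matrix.SpecialLinearGroup.coe_mul, coe_negOne, mul_neg, mul_one, neg_mul]
    rw [← Matrix.SpecialLinearGroup.coe_mul, mul_inv_cancel, Matrix.SpecialLinearGroup.coe_one])
  refine ⟨?_, ⟨negOne F, h.negmem, hz⟩, ?_, ?_, ?_, ?_, ?_⟩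
  · rintro _ ⟨a, ha, rfl⟩ _ ⟨b, hb, rfl⟩
    rw [← map_mul, ← map_mul, h.comm a ha b hb]
  · rw [← hz, ← h.ysq]
    group
  · rintro _ ⟨t, ht, rfl⟩
    rw [show (MulAut.conj x).toMonoidHom t = x * t * x⁻¹ from rfl,
      show (x * t * x⁻¹)⁻¹ = x * t⁻¹ * x⁻¹ by group, ← h.inv t ht]
    group
  · rintro _ ⟨g, hg, rfl⟩ hg2 a ha
    refine ⟨x⁻¹ * a * x, h.cent g hg (fun e => hg2 ?_) _ ?_, ?_⟩
    · rw [← map_mul, e, map_one]
    · calc g * (x⁻¹ * a * x) = x⁻¹ * ((x * g * x⁻¹) * a) * x := by group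
        _ = x⁻¹ * (a * (x * g * x⁻¹)) * x := by rw [show (x * g * x⁻¹) * a = a * (x * g * x⁻¹) from ha]
        _ = (x⁻¹ * a * x) * g := by group
    · show x * (x⁻¹ * a * x) * x⁻¹ = a
      group
  · rintro _ ⟨g, hg, rfl⟩ _ ⟨g', hg', rfl⟩ e
    have htr : ∀ a : SL(2, F), (((MulAut.conj x).toMonoidHom a : SL(2, F)) :
        Matrix (Fin 2) (Fin 2) F).trace = (a : Matrix (Fin 2) (Fin 2) F).trace := fun a => by
      rw [show (MulAut.conj x).toMonoidHom a = x * a * x⁻¹ from rfl, Matrix.SpecialLinearGroup.coe_mul,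
        Matrix.trace_mul_comm, ← Matrix.SpecialLinearGroup.coe_mul, ← mul_assoc, inv_mul_cancel, one_mul]
    rw [htr, htr] at e
    rcases h.tr g hg g' hg' e with e' | e'
    · exact Or.inl (by rw [e'])
    · exact Or.inr (by rw [e', map_inv])
  · obtain ⟨g, hg, hg2⟩ := h.gen
    exact ⟨_, ⟨g, hg, rfl⟩, fun e => hg2 ((MulAut.conj x).injective (by rw [map_mul, map_one]; exact e))⟩

variable {C : Subgroup SL(2, F)}

theorem not_conj_BS (hcard : Nat.card C = Fintype.card F + 1) {c : SL(2, F)} (hc : c ∈ C)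
    (hc2 : c * c ≠ 1) (x : SL(2, F)) : x * c * x⁻¹ ∉ BS F := fun hx => by
  have d1 : orderOf c ∣ Fintype.card F + 1 := hcard ▸ Subgroup.orderOf_dvd_natCard C hc
  have d2 : orderOf c ∣ (Fintype.card F - 1) * Fintype.card F := by
    rw [← orderOf_injective (MulAut.conj x).toMonoidHom (MulAut.conj x).injective c, ← natCard_BS]
    exact Subgroup.orderOf_dvd_natCard _ hx
  have hco : Nat.Coprime (orderOf c) (Fintype.card F) :=
    Nat.Coprime.coprime_dvd_left d1 (Nat.coprime_self_add_left.2 (Nat.coprime_one_left _))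
  have d3 := hco.dvd_of_dvd_mul_right d2
  have hq := Fintype.one_lt_card (α := F)
  have d4 : orderOf c ∣ 2 := by
    have := Nat.dvd_sub d1 d3
    rwa [show Fintype.card F + 1 - (Fintype.card F - 1) = 2 by omega] at this
  exact hc2 (by rw [← sq]; exact orderOf_dvd_iff_pow_eq_one.1 d4)

theorem eq_one_or_negOne (h2 : (2 : F) ≠ 0) {c : SL(2, F)} (h : c * c = 1) : c = 1 ∨ c = negOne F :=
  or_iff_not_imp_left.2 fun h1 => Subtype.ext (SylowSL2.eq_neg_one_of_sq h2 c h1 h)

theorem exists_data (hodd : Odd (Fintype.card F)) (hC : IsCyclic C)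
    (hcard : Nat.card C = Fintype.card F + 1) :
    (∃ y, TorusData C y) ∧
      ∀ g : SL(2, F), (∀ x : SL(2, F), x * g * x⁻¹ ∉ BS F) → ∃ x : SL(2, F), x * g * x⁻¹ ∈ C := by
  have h2 := SylowSL2.two_ne_zero_of_odd hodd
  obtain ⟨A, hA⟩ := Torus.exists_irreducible F
  haveI : Fact (∀ r : F, r ^ 2 ≠ A + 1 * r) := ⟨hA⟩
  obtain ⟨c, hc⟩ := Torus.norm_surjective (A := A) (B := 1) (-1 : F) (by norm_num)
  set T := (Torus.torusHom (F := F) (A := A) (B := 1)).range with hT
  have hD := torusData_normOne hodd hc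
  have hTcard : Nat.card T = Fintype.card F + 1 := by
    rw [hT, ← Nat.card_congr (MonoidHom.ofInjective Torus.torusHom_injective).toEquiv,
      Torus.natCard_normOne]
  have hmemT : ∀ g : SL(2, F), (∀ x : SL(2, F), x * g * x⁻¹ ∉ BS F) → ∃ x, x * g * x⁻¹ ∈ T := by
    intro g hg
    have hne := no_eigen_of_not_conj hg
    set t := (g : Matrix (Fin 2) (Fin 2) F).trace with ht
    have hns := trace_nonsquare h2 hne
    obtain ⟨z, hz⟩ := exists_mem_of_trace (A := A) (B := 1) h2 hns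
    have hne4 : t ^ 2 ≠ 4 := fun e => hns ⟨0, by simp [← ht, e]⟩
    have hsc : ∀ x : SL(2, F), (x : Matrix (Fin 2) (Fin 2) F).trace = t →
        ¬ Classes.IsScalar (x : Matrix (Fin 2) (Fin 2) F) := by
      rintro x hx ⟨a, ha⟩
      have hd := Matrix.SpecialLinearGroup.det_coe x
      rw [ha, det_smul, det_one, Fintype.card_fin] at hd
      rw [ha, trace_smul, trace_one, Fintype.card_fin] at hx
      simp at hd hx
      exact hne4 (by rw [← hx]; rcases hd with e | e <;> rw [e] <;> norm_num)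
    obtain ⟨x, hx⟩ := isConj_iff.1 (Classes.isConj_SL_of_surjective (hsc g rfl) (hsc _ hz) hz.symm
      fun c _ => Classes.exists_normForm_eq (Or.inr (by rw [g.2, mul_one]; exact hne4)))
    exact ⟨x, hx ▸ ⟨z, rfl⟩⟩
  obtain ⟨g, hg⟩ := hC.exists_generator
  have hgg : (g : SL(2, F)) * g ≠ 1 := fun e => by
    have h1 := Nat.le_of_dvd two_pos (orderOf_dvd_of_pow_eq_one (x := g) (n := 2)
      (Subtype.ext (by rw [sq, Subgroup.coe_mul, e, Subgroup.coe_one])))
    rw [orderOf_eq_card_of_forall_mem_zpowers hg, hcard] at h1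
    have := Fintype.one_lt_card (α := F)
    omega
  obtain ⟨x, hx⟩ := hmemT g (not_conj_BS hcard g.2 hgg)
  have hCT : C.map (MulAut.conj x).toMonoidHom = T := by
    refine Subgroup.eq_of_le_of_card_ge ?_ (by
      rw [Subgroup.card_map_of_injective (MulAut.conj x).injective, hcard, hTcard])
    rintro _ ⟨a, ha, rfl⟩
    obtain ⟨k, hk⟩ := Subgroup.mem_zpowers_iff.1 (hg ⟨a, ha⟩)
    rw [← show ((g ^ k : C) : SL(2, F)) = a by rw [hk], Subgroup.coe_zpow, map_zpow]
    exact T.zpow_mem hx k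
  have hTC : T.map (MulAut.conj x⁻¹).toMonoidHom = C := by
    rw [← hCT, Subgroup.map_map]
    convert Subgroup.map_id C
    ext a : 1
    show x⁻¹ * (x * a * x⁻¹) * x⁻¹⁻¹ = a
    group
  refine ⟨⟨_, hTC ▸ torusData_conj hD x⁻¹⟩, fun g' hg' => ?_⟩
  obtain ⟨x', hx'⟩ := hmemT g' hg'
  refine ⟨x⁻¹ * x', ?_⟩
  rw [← hTC]
  exact ⟨_, hx', by show x⁻¹ * (x' * g' * x'⁻¹) * x⁻¹⁻¹ = _; group⟩

/-- Class functions agreeing on the Borel subgroup and on `C` are equal. -/
theorem classFun_ext_BC (hodd : Odd (Fintype.card F)) (hC : IsCyclic C)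
    (hcard : Nat.card C = Fintype.card F + 1) {f f' : SL(2, F) → ℂ}
    (hf : Cfsg.IsClassFunction SL(2, F) f) (hf' : Cfsg.IsClassFunction SL(2, F) f')
    (hB : ∀ p x, f (mkS p x) = f' (mkS p x)) (hCf : ∀ c ∈ C, f c = f' c) : f = f' := by
  funext g
  by_cases h : ∀ x : SL(2, F), x * g * x⁻¹ ∉ BS F
  · obtain ⟨x, hx⟩ := (exists_data hodd hC hcard).2 g h
    rw [← hf g x, ← hf' g x]
    exact hCf _ hx
  · push Not at h
    obtain ⟨x, hx⟩ := h
    obtain ⟨p, y, hp⟩ := ValuesSL.exists_mkS ((mem_BS_iff _).1 hx)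
    rw [← hf g x, ← hf' g x, hp]
    exact hB p y

/-! ### Values -/

theorem unit_sq_cases (p : Fˣ) (hp : p = p⁻¹) : p = 1 ∨ p = -1 := by
  have h : (p : F) * p = 1 := by
    rw [← Units.val_mul]; nth_rw 2 [hp]; rw [mul_inv_cancel, Units.val_one]
  rcases mul_self_eq_one_iff.1 h with e | e
  · exact Or.inl (Units.ext e)
  · exact Or.inr (Units.ext (by simpa using e))

theorem mkS_one_zero : mkS (1 : Fˣ) (0 : F) = 1 := Subtype.ext (by simp [Matrix.one_fin_two])

theorem mkS_neg_one_zero : mkS (-1 : Fˣ) (0 : F) = negOne F := Subtype.ext (by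
  rw [coe_negOne]
  ext i j
  fin_cases i <;> fin_cases j <;> simp)

theorem negOne_central (g : SL(2, F)) : negOne F * g = g * negOne F :=
  Subtype.ext (by simp [coe_negOne])

theorem pindS_scalar (α : MulChar F ℂ) {p : Fˣ} (hp : p = p⁻¹) :
    pindS α (mkS p 0) = ((Fintype.card F : ℂ) + 1) * α p := by
  rw [pindS_apply, toGL_mkS, ← hp, pind_mkB]
  simp
  ring

theorem StS_mkS (p : Fˣ) (x : F) :
    (StS : SL(2, F) → ℂ) (mkS p x) =
      if p = p⁻¹ then (if x = 0 then (Fintype.card F : ℂ) else 0) else 1 := by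
  rw [StS, Pi.sub_apply]
  split_ifs with hp hx
  · subst hx
    rw [pindS_scalar 1 hp, MulChar.one_apply_coe]
    ring
  · rw [pindS_uni 1 hp hx, MulChar.one_apply_coe]
    ring
  · rw [pindS_mkS_ne 1 hp, MulChar.one_apply_coe, MulChar.one_apply_coe]
    ring

variable (hodd : Odd (Fintype.card F)) (hC : IsCyclic C) (hcard : Nat.card C = Fintype.card F + 1)

theorem pindS_elliptic (hcard : Nat.card C = Fintype.card F + 1) (α : MulChar F ℂ) {c : SL(2, F)}
    (hc : c ∈ C) (hc2 : c * c ≠ 1) : pindS α c = 0 :=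
  pindS_eq_zero α (no_eigen_of_not_conj (not_conj_BS hcard hc hc2))

theorem StS_elliptic (hcard : Nat.card C = Fintype.card F + 1) {c : SL(2, F)}
    (hc : c ∈ C) (hc2 : c * c ≠ 1) : (StS : SL(2, F) → ℂ) c = -1 := by
  rw [StS, Pi.sub_apply, pindS_elliptic hcard 1 hc hc2, zero_sub]

include hodd hC hcard

theorem negOne_mem : negOne F ∈ C := by
  obtain ⟨⟨y, hy⟩, -⟩ := exists_data hodd hC hcard
  exact hy.negmem

/-- The central involution inside `C`. -/
def zC : C := ⟨negOne F, negOne_mem hodd hC hcard⟩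

theorem ind_BS (θ : C → ℂ) (p : Fˣ) (x : F) (h : ¬ (p = p⁻¹ ∧ x = 0)) :
    Cfsg.indFun C θ (mkS p x) = 0 := by
  have h2 := SylowSL2.two_ne_zero_of_odd hodd
  apply mul_left_cancel₀ (Nat.cast_ne_zero.mpr (Nat.card_pos (α := C)).ne' : (Nat.card C : ℂ) ≠ 0)
  rw [CharTheory.IndBasic.card_mul_indFun, mul_zero]
  refine Finset.sum_eq_zero fun w _ => CharTheory.IndBasic.extendByZero_of_notMem _ _ fun hw => h ?_
  have hsq : w⁻¹ * mkS p x * w * (w⁻¹ * mkS p x * w) = 1 := by
    by_contra hne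
    refine not_conj_BS hcard hw hne w ?_
    rw [show w * (w⁻¹ * mkS p x * w) * w⁻¹ = mkS p x by group]
    exact mkS_mem p x
  have hb : mkS p x * mkS p x = 1 := by
    have e : w⁻¹ * (mkS p x * mkS p x) * w = 1 := by rw [← hsq]; group
    have := congrArg (fun a => w * a * w⁻¹) e
    simpa [mul_assoc] using this
  rcases eq_one_or_negOne h2 hb with e | e
  · rw [← mkS_one_zero] at e
    obtain ⟨rfl, rfl⟩ := Prod.ext_iff.1 (mkS_bijective.injective (a₁ := (p, x)) (a₂ := (1, 0))
      (Subtype.ext e))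
    exact ⟨inv_one.symm, rfl⟩
  · rw [← mkS_neg_one_zero] at e
    obtain ⟨rfl, rfl⟩ := Prod.ext_iff.1 (mkS_bijective.injective (a₁ := (p, x)) (a₂ := (-1, 0))
      (Subtype.ext e))
    exact ⟨by simp, rfl⟩

theorem card_SL_div : (Nat.card SL(2, F) : ℂ) =
    ((Fintype.card F : ℂ) + 1) * ((Fintype.card F : ℂ) * ((Fintype.card F : ℂ) - 1)) := by
  rw [Classical.GL2.natCard_SL_two, Nat.cast_mul, Nat.cast_mul, Nat.cast_add,
    CountsSL.cast_sub_one, Nat.cast_one]
  ring

theorem ind_central (θ : C → ℂ) (c : C) (hc : ∀ g, (c : SL(2, F)) * g = g * c) :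
    Cfsg.indFun C θ c = (Fintype.card F : ℂ) * ((Fintype.card F : ℂ) - 1) * θ c := by
  apply mul_left_cancel₀ (Nat.cast_ne_zero.mpr (Nat.card_pos (α := C)).ne' : (Nat.card C : ℂ) ≠ 0)
  rw [CharTheory.IndBasic.card_mul_indFun, Finset.sum_congr rfl fun w _ => (by
      rw [mul_assoc, hc, inv_mul_cancel_left, CharTheory.IndBasic.extendByZero_coe] :
      Cfsg.extendByZero C θ (w⁻¹ * (c : SL(2, F)) * w) = θ c),
    Finset.sum_const, Finset.card_univ, nsmul_eq_mul, ← Nat.card_eq_fintype_card,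
    card_SL_div hodd hC hcard, hcard]
  push_cast
  ring

theorem ind_C (θ : C →* ℂˣ) (c : C) (hc : (c : SL(2, F)) * c ≠ 1) :
    Cfsg.indFun C (fun a => (θ a : ℂ)) c = (θ c : ℂ) + (θ c⁻¹ : ℂ) := by
  classical
  obtain ⟨⟨y, hy⟩, -⟩ := exists_data hodd hC hcard
  have hD := hy.dicyclic (SylowSL2.two_ne_zero_of_odd hodd)
  apply mul_left_cancel₀ (Nat.cast_ne_zero.mpr (Nat.card_pos (α := C)).ne' : (Nat.card C : ℂ) ≠ 0)
  rw [CharTheory.IndBasic.card_mul_indFun]
  have hsplit : ∀ w : SL(2, F),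
      Cfsg.extendByZero C (fun a => (θ a : ℂ)) (w⁻¹ * c * w) =
        (if w ∈ C then (θ c : ℂ) else 0) + (if y⁻¹ * w ∈ C then (θ c⁻¹ : ℂ) else 0) := by
    intro w
    by_cases hw : w ∈ C
    · have hy' : y⁻¹ * w ∉ C := fun h => hD.ynot (inv_mem_iff.1 ((C.mul_mem_cancel_right hw).1 h))
      rw [if_pos hw, if_neg hy', add_zero, mul_assoc, hy.comm _ c.2 _ hw, inv_mul_cancel_left,
        CharTheory.IndBasic.extendByZero_coe]
    · by_cases hw' : y⁻¹ * w ∈ C
      · have e : w⁻¹ * c * w = ((c⁻¹ : C) : SL(2, F)) := by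
          have e1 : w⁻¹ * c * w = (y⁻¹ * w)⁻¹ * (y⁻¹ * c * y) * (y⁻¹ * w) := by group
          have e2 : y⁻¹ * c * y = (c : SL(2, F))⁻¹ := by
            have := hy.inv _ (C.inv_mem c.2)
            rw [inv_inv] at this
            nth_rw 1 [← this]
            group
          rw [e1, e2, mul_assoc, hy.comm _ (C.inv_mem c.2) _ hw', inv_mul_cancel_left,
            Subgroup.coe_inv]
        rw [if_neg hw, if_pos hw', zero_add, e, CharTheory.IndBasic.extendByZero_coe]
      · rw [if_neg hw, if_neg hw', add_zero, CharTheory.IndBasic.extendByZero_of_notMem]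
        intro h
        have := hy.mem_or_mem (n := w⁻¹) c.2 hc (by simpa using h)
        rcases this with h' | h'
        · exact hw (inv_mem_iff.1 h')
        · refine hw' ?_
          have e3 : w⁻¹ * w⁻¹ = negOne F := hD.sq_of_mem h'
          have e4 : w = w⁻¹ * negOne F := by
            refine (eq_inv_mul_iff_mul_eq).2 ?_
            have : w * w = (negOne F)⁻¹ := by rw [← e3, _root_.mul_inv_rev, inv_inv]
            rw [this, inv_eq_of_mul_eq_one_right negOne_sq]
          rw [e4, ← mul_assoc]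
          exact C.mul_mem h' hy.negmem
  rw [Finset.sum_congr rfl fun w _ => hsplit w, Finset.sum_add_distrib, ← Finset.sum_filter,
    ← Finset.sum_filter, Finset.sum_const, Finset.sum_const, nsmul_eq_mul, nsmul_eq_mul]
  have h1 : (Finset.univ.filter fun w : SL(2, F) => w ∈ C).card = Nat.card C := by
    rw [Nat.card_eq_fintype_card, Fintype.card_subtype]
  have h2 : (Finset.univ.filter fun w : SL(2, F) => y⁻¹ * w ∈ C).card = Nat.card C := by
    rw [← h1]
    exact Finset.card_bij (fun w _ => y⁻¹ * w) (fun w hw => by simpa using hw)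
      (fun a _ b _ h => mul_left_cancel h) fun b hb => ⟨y * b, by simpa using hb, by simp⟩
  rw [h1, h2, mul_add]

/-! ### The function `X` -/

omit hodd hC hcard in
/-- The generalised character attached to a character of `C`. -/
noncomputable def X (α : MulChar F ℂ) (θ : C →* ℂˣ) : SL(2, F) → ℂ :=
  StS * pindS α - pindS α - Cfsg.indFun C (fun a => (θ a : ℂ))

omit hodd hC hcard in
theorem isGen_X (α : MulChar F ℂ) (θ : C →* ℂˣ) :
    Cfsg.IsGeneralizedCharacter SL(2, F) (X α θ) :=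
  isGen_sub (isGen_sub (isGen_mul (isGen_of_isCharacter (isCharacter_of_isIrr isIrr_StS))
    (isGen_of_isCharacter (isCharacter_pindS α))) (isGen_of_isCharacter (isCharacter_pindS α)))
    (isGen_indFun C (isGen_of_isCharacter (isCharacter_linear θ)))

omit hodd hC hcard in
theorem classFun_X (α : MulChar F ℂ) (θ : C →* ℂˣ) :
    Cfsg.IsClassFunction SL(2, F) (X α θ) := isGen_isClassFunction (isGen_X α θ)

theorem X_mkS {α : MulChar F ℂ} {θ : C →* ℂˣ}
    (hpar : α (-1) = (θ (zC hodd hC hcard) : ℂ)) (p : Fˣ) (x : F) :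
    X α θ (mkS p x) =
      if p = p⁻¹ then (if x = 0 then ((Fintype.card F : ℂ) - 1) * α p else -α p) else 0 := by
  simp only [X, Pi.sub_apply, Pi.mul_apply, StS_mkS]
  split_ifs with hp hx
  · subst hx
    rw [pindS_scalar α hp]
    rcases unit_sq_cases p hp with rfl | rfl
    · rw [mkS_one_zero, show (1 : SL(2, F)) = ((1 : C) : SL(2, F)) from rfl,
        ind_central hodd hC hcard _ _ (fun g => by simp), map_one θ, Units.val_one, Units.val_one,
        map_one]
      ring
    · rw [mkS_neg_one_zero, show negOne F = ((zC hodd hC hcard : C) : SL(2, F)) from rfl,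
        ind_central hodd hC hcard _ _ (fun g => negOne_central g), ← hpar]
      simp
      ring
  · rw [pindS_uni α hp hx, ind_BS hodd hC hcard _ p x (fun h => hx h.2)]
    ring
  · rw [pindS_mkS_ne α hp, ind_BS hodd hC hcard _ p x (fun h => hp h.1)]
    ring

theorem X_one {α : MulChar F ℂ} {θ : C →* ℂˣ} (hpar : α (-1) = (θ (zC hodd hC hcard) : ℂ)) :
    X α θ 1 = (Fintype.card F : ℂ) - 1 := by
  rw [← mkS_one_zero, X_mkS hodd hC hcard hpar, if_pos inv_one.symm, if_pos rfl, Units.val_one,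
    map_one, mul_one]

theorem X_C {α : MulChar F ℂ} {θ : C →* ℂˣ} (hpar : α (-1) = (θ (zC hodd hC hcard) : ℂ)) (c : C)
    [Decidable (c * c = 1)] :
    X α θ c = -((θ c : ℂ) + (θ c⁻¹ : ℂ)) +
      if c * c = 1 then ((Fintype.card F : ℂ) + 1) * (θ c : ℂ) else 0 := by
  have h2 := SylowSL2.two_ne_zero_of_odd hodd
  split_ifs with hc
  · have hi : c⁻¹ = c := inv_eq_of_mul_eq_one_right hc
    rw [hi]
    rcases eq_one_or_negOne h2 (congrArg Subtype.val hc : (c : SL(2, F)) * c = 1) with e | e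
    · rw [show c = 1 from Subtype.ext e, Subgroup.coe_one, X_one hodd hC hcard hpar, map_one,
        Units.val_one]
      ring
    · rw [show c = zC hodd hC hcard from Subtype.ext e, show ((zC hodd hC hcard : C) : SL(2, F)) =
        mkS (-1 : Fˣ) 0 from mkS_neg_one_zero.symm, X_mkS hodd hC hcard hpar, if_pos (by simp),
        if_pos rfl, ← hpar]
      simp
      ring
  · have hc' : (c : SL(2, F)) * c ≠ 1 := fun e => hc (Subtype.ext e)
    simp only [X, Pi.sub_apply, Pi.mul_apply]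
    rw [StS_elliptic hcard c.2 hc', pindS_elliptic hcard α c.2 hc', ind_C hodd hC hcard θ c hc']
    ring

theorem isCusp_X {α : MulChar F ℂ} {θ : C →* ℂˣ} (hpar : α (-1) = (θ (zC hodd hC hcard) : ℂ)) :
    IsCuspS (X α θ) := by
  intro β
  rw [classInner_pindS_left β (classFun_X α θ), Finset.sum_eq_zero, mul_zero]
  intro p _
  rw [Finset.sum_congr rfl fun x _ => X_mkS hodd hC hcard hpar p x]
  split_ifs with hp
  · rw [Finset.sum_ite, Finset.filter_eq' Finset.univ (0 : F), if_pos (Finset.mem_univ _),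
      Finset.filter_ne', Finset.sum_const, Finset.sum_const, Finset.card_singleton,
      Finset.card_erase_of_mem (Finset.mem_univ _), Finset.card_univ, nsmul_eq_mul, nsmul_eq_mul,
      CountsSL.cast_sub_one, Nat.cast_one, one_mul, mul_neg, add_neg_cancel, map_zero, mul_zero]
  · simp

omit hodd hC hcard in
theorem inner_StP (hodd : Odd (Fintype.card F)) {χ : SL(2, F) → ℂ}
    (hχ : Cfsg.IsClassFunction SL(2, F) χ) (hcusp : IsCuspS χ) (α : MulChar F ℂ) :
    Cfsg.classInner (StS * pindS α) χ =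
      (conj (χ 1) + α (-1) * conj (χ (negOne F))) / ((Fintype.card F : ℂ) - 1) := by
  classical
  have h2 := SylowSL2.two_ne_zero_of_odd hodd
  have hS : Cfsg.IsClassFunction SL(2, F) (StS : SL(2, F) → ℂ) :=
    char_isClassFunction (isCharacter_of_isIrr isIrr_StS)
  have hcl : Cfsg.IsClassFunction SL(2, F) (fun g => conj ((StS : SL(2, F) → ℂ) g) * χ g) :=
    fun g h => by simp only [hS g h, hχ g h]
  have he : Cfsg.classInner (StS * pindS α) χ =
      Cfsg.classInner (pindS α) (fun g => conj ((StS : SL(2, F) → ℂ) g) * χ g) := by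
    rw [classInner_def, classInner_def]
    congr 1
    refine Finset.sum_congr rfl fun g _ => ?_
    simp only [Pi.mul_apply, map_mul, Complex.conj_conj]
    ring
  rw [he, classInner_pindS_left α hcl]
  have hin : ∀ p : Fˣ, ∑ x : F, conj ((StS : SL(2, F) → ℂ) (mkS p x)) * χ (mkS p x) =
      if p = p⁻¹ then (Fintype.card F : ℂ) * χ (mkS p 0) else 0 := by
    intro p
    simp only [StS_mkS]
    split_ifs with hp
    · rw [Finset.sum_eq_single (0 : F) (fun x _ hx => by simp [hx]) (by simp)]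
      simp
    · simp only [map_one, one_mul]
      exact ValuesSL.cusp_sum_eq_zero hχ hcusp p
  simp only [hin]
  have hne : (1 : Fˣ) ≠ -1 := fun e => h2 (by
    have := congrArg Units.val e
    simp at this
    linear_combination this)
  rw [← Finset.sum_subset (Finset.subset_univ ({1, -1} : Finset Fˣ))
    (fun p _ hp => by
      rw [if_neg (fun e => hp (by rcases unit_sq_cases p e with rfl | rfl <;> simp))]
      simp), Finset.sum_pair hne, if_pos inv_one.symm, if_pos (by simp), mkS_one_zero,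
    mkS_neg_one_zero, Units.val_one, map_one, one_mul, map_mul, map_mul, Complex.conj_natCast,
    natCard_BS_cast, cast_card_units]
  have hq0 := card_ne_zero (F := F)
  have hq1 : (Fintype.card F : ℂ) - 1 ≠ 0 := by
    rw [← cast_card_units]; exact card_units_ne_zero
  rw [show ((-1 : Fˣ) : F) = -1 by simp]
  field_simp

theorem inner_X [Fintype C] {χ : SL(2, F) → ℂ} (hχ : Cfsg.IsClassFunction SL(2, F) χ) (hcusp : IsCuspS χ)
    {α : MulChar F ℂ} {θ : C →* ℂˣ} (hpar : α (-1) = (θ (zC hodd hC hcard) : ℂ)) :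
    Cfsg.classInner (X α θ) χ =
      (conj (χ 1) + (θ (zC hodd hC hcard) : ℂ) * conj (χ (negOne F))) / ((Fintype.card F : ℂ) - 1) -
        Cfsg.classInner (fun c : C => (θ c : ℂ)) (fun c : C => χ c) := by
  rw [X, classInner_sub_left, classInner_sub_left, frobenius_reciprocity C _ hχ,
    inner_StP hodd hχ hcusp, hcusp α, sub_zero, hpar]

end Cfsg.Agent.GL2.CuspidalTorus
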