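import Mathlib
import Cfsg.Agent.Lib.GL2.CuspidalTorus

/-!
# The values of the cuspidal characters of `SL₂(q)` on the non-split torus
-/

set_option autoImplicit false
set_option linter.unusedSectionVars false

open Matrix
open scoped MatrixGroups ComplexConjugate

namespace Cfsg.Agent.GL2.CuspidalTorusChars

open Borel Principal PrincipalSL ClassifySL CuspidalTorus
open Cfsg.Agent.Characters
open Cfsg.Agent.Classical Cfsg.Agent.Classical.TorusNormalizer

universe u

variable {F : Type u} [Field F] [Fintype F] [DecidableEq F] {C : Subgroup SL(2, F)}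

theorem sum_group {G : Type*} [Group G] [Fintype G] (θ : G →* ℂˣ) [Decidable (θ = 1)] :
    ∑ g : G, (θ g : ℂ) = if θ = 1 then (Fintype.card G : ℂ) else 0 := by
  split_ifs with h
  · simp [h]
  · obtain ⟨b, hb⟩ : ∃ b, θ b ≠ 1 := by
      by_contra hc
      push Not at hc
      exact h (MonoidHom.ext hc)
    have h1 : (θ b : ℂ) * ∑ g : G, (θ g : ℂ) = ∑ g : G, (θ g : ℂ) := by
      rw [Finset.mul_sum]
      exact Fintype.sum_equiv (Equiv.mulLeft b) _ _ fun g => by simp
    have h2 : ((θ b : ℂ) - 1) * ∑ g : G, (θ g : ℂ) = 0 := by rw [sub_mul, h1, one_mul, sub_self]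
    exact (mul_eq_zero.1 h2).resolve_left (sub_ne_zero.2 fun e => hb (Units.ext e))

theorem finite_chars (hC : IsCyclic C) :
    Nat.card (C →* ℂˣ) = Nat.card C ∧ Finite (C →* ℂˣ) := by
  letI : CommGroup C := { (inferInstance : Group C) with mul_comm := hC.commGroup.mul_comm }
  obtain ⟨e⟩ := CommGroup.monoidHom_mulEquiv_of_hasEnoughRootsOfUnity C ℂ
  exact ⟨Nat.card_congr e.toEquiv, Finite.of_equiv _ e.toEquiv.symm⟩

theorem exists_char_ne_one (hC : IsCyclic C) {c : C} (hc : c ≠ 1) : ∃ θ : C →* ℂˣ, θ c ≠ 1 := by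
  letI : CommGroup C := { (inferInstance : Group C) with mul_comm := hC.commGroup.mul_comm }
  exact CommGroup.exists_apply_ne_one_of_hasEnoughRootsOfUnity C ℂ hc

theorem sum_dual (hC : IsCyclic C) [Fintype (C →* ℂˣ)] (c : C) [Decidable (c = 1)] :
    ∑ θ : C →* ℂˣ, (θ c : ℂ) = if c = 1 then (Fintype.card (C →* ℂˣ) : ℂ) else 0 := by
  split_ifs with h
  · simp [h]
  · obtain ⟨φ, hφ⟩ := exists_char_ne_one hC h
    have h1 : (φ c : ℂ) * ∑ θ : C →* ℂˣ, (θ c : ℂ) = ∑ θ : C →* ℂˣ, (θ c : ℂ) := by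
      rw [Finset.mul_sum]
      exact Fintype.sum_equiv (Equiv.mulLeft φ) _ _ fun θ => by simp
    have h2 : ((φ c : ℂ) - 1) * ∑ θ : C →* ℂˣ, (θ c : ℂ) = 0 := by
      rw [sub_mul, h1, one_mul, sub_self]
    exact (mul_eq_zero.1 h2).resolve_left (sub_ne_zero.2 fun e => hφ (Units.ext e))

variable (hodd : Odd (Fintype.card F)) (hC : IsCyclic C) (hcard : Nat.card C = Fintype.card F + 1)

include hodd hC hcard

theorem theta_z (θ : C →* ℂˣ) :
    (θ (zC hodd hC hcard) : ℂ) = 1 ∨ (θ (zC hodd hC hcard) : ℂ) = -1 := by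
  refine mul_self_eq_one_iff.1 ?_
  rw [← Units.val_mul, ← map_mul, show zC hodd hC hcard * zC hodd hC hcard = 1 from
    Subtype.ext negOne_sq, map_one, Units.val_one]

theorem zC_ne_one : zC hodd hC hcard ≠ 1 := fun e =>
  SylowSL2.two_ne_zero_of_odd hodd (by
    have := congrArg (fun M : C => ((M : SL(2, F)) : Matrix (Fin 2) (Fin 2) F) 0 0) e
    simp [zC, coe_negOne] at this
    linear_combination -this)

theorem exists_parity (θ : C →* ℂˣ) :
    ∃ α : MulChar F ℂ, α (-1) = (θ (zC hodd hC hcard) : ℂ) := by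
  have h2 := SylowSL2.two_ne_zero_of_odd hodd
  rcases theta_z hodd hC hcard θ with h | h
  · exact ⟨1, by rw [h, MulChar.one_apply (isUnit_one.neg)]⟩
  · obtain ⟨α, hα⟩ := MulChar.exists_apply_ne_one_of_hasEnoughRootsOfUnity F ℂ
      (a := (-1 : F)) (fun e => h2 (by linear_combination -e))
    refine ⟨α, ?_⟩
    rw [h]
    have hsq : α (-1) * α (-1) = 1 := by rw [← map_mul]; simp
    exact (mul_self_eq_one_iff.1 hsq).resolve_left hα

/-- A multiplicative character with the parity of `θ`. -/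
noncomputable def par (θ : C →* ℂˣ) : MulChar F ℂ := (exists_parity hodd hC hcard θ).choose

theorem par_spec (θ : C →* ℂˣ) : par hodd hC hcard θ (-1) = (θ (zC hodd hC hcard) : ℂ) :=
  (exists_parity hodd hC hcard θ).choose_spec

/-- The virtual cuspidal character attached to `θ`. -/
noncomputable def W (θ : C →* ℂˣ) : SL(2, F) → ℂ := X (par hodd hC hcard θ) θ

theorem W_one (θ : C →* ℂˣ) : W hodd hC hcard θ 1 = (Fintype.card F : ℂ) - 1 :=
  X_one hodd hC hcard (par_spec hodd hC hcard θ)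

theorem W_mkS (θ : C →* ℂˣ) (p : Fˣ) (x : F) :
    W hodd hC hcard θ (mkS p x) = if p = p⁻¹ then (if x = 0 then
      ((Fintype.card F : ℂ) - 1) * par hodd hC hcard θ p else -par hodd hC hcard θ p) else 0 :=
  X_mkS hodd hC hcard (par_spec hodd hC hcard θ) p x

theorem W_C (θ : C →* ℂˣ) (c : C) [Decidable (c * c = 1)] :
    W hodd hC hcard θ c = -((θ c : ℂ) + (θ c⁻¹ : ℂ)) +
      if c * c = 1 then ((Fintype.card F : ℂ) + 1) * (θ c : ℂ) else 0 :=
  X_C hodd hC hcard (par_spec hodd hC hcard θ) c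

theorem W_negOne (θ : C →* ℂˣ) :
    W hodd hC hcard θ (negOne F) =
      ((Fintype.card F : ℂ) - 1) * (θ (zC hodd hC hcard) : ℂ) := by
  rw [← mkS_neg_one_zero, W_mkS, if_pos (by simp), if_pos rfl, ← par_spec hodd hC hcard θ]
  simp

theorem classFun_W (θ : C →* ℂˣ) : Cfsg.IsClassFunction SL(2, F) (W hodd hC hcard θ) :=
  classFun_X _ θ

theorem isCusp_W (θ : C →* ℂˣ) : IsCuspS (W hodd hC hcard θ) :=
  isCusp_X hodd hC hcard (par_spec hodd hC hcard θ)

theorem isGen_W (θ : C →* ℂˣ) : Cfsg.IsGeneralizedCharacter SL(2, F) (W hodd hC hcard θ) :=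
  isGen_X _ θ

theorem conj_theta (θ : C →* ℂˣ) (c : C) : conj (θ c : ℂ) = (θ c⁻¹ : ℂ) :=
  (char_inv (isCharacter_linear θ) c).symm

theorem inner_W {χ : SL(2, F) → ℂ} [Fintype C] (hχ : Cfsg.IsClassFunction SL(2, F) χ)
    (hcusp : IsCuspS χ) (θ : C →* ℂˣ) :
    Cfsg.classInner (W hodd hC hcard θ) χ =
      (conj (χ 1) + (θ (zC hodd hC hcard) : ℂ) * conj (χ (negOne F))) / ((Fintype.card F : ℂ) - 1) -
        Cfsg.classInner (fun c : C => (θ c : ℂ)) (fun c : C => χ c) :=
  inner_X hodd hC hcard hχ hcusp (par_spec hodd hC hcard θ)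

theorem inner_WW (θ φ : C →* ℂˣ) [Decidable (θ = φ)] [Decidable (θ = φ⁻¹)] :
    Cfsg.classInner (W hodd hC hcard θ) (W hodd hC hcard φ) =
      (if θ = φ then 1 else 0) + (if θ = φ⁻¹ then 1 else 0) := by
  classical
  haveI := Fintype.ofFinite C
  have hq1 : (Fintype.card F : ℂ) - 1 ≠ 0 := by
    rw [← ClassifySL.cast_card_units]; exact card_units_ne_zero
  have hC0 : (Nat.card C : ℂ) ≠ 0 := natCard_ne_zero
  have hin : Cfsg.classInner (fun c : C => (θ c : ℂ)) (fun c : C => W hodd hC hcard φ c) =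
      (1 + (θ (zC hodd hC hcard) : ℂ) * (φ (zC hodd hC hcard) : ℂ)) -
        ((if θ = φ then 1 else 0) + (if θ = φ⁻¹ then 1 else 0)) := by
    rw [classInner_def]
    have hterm : ∀ c : C, (θ c : ℂ) * conj (W hodd hC hcard φ c) =
        -(((θ * φ⁻¹) c : ℂ) + ((θ * φ) c : ℂ)) +
          if c * c = 1 then ((Fintype.card F : ℂ) + 1) * ((θ * φ) c : ℂ) else 0 := by
      intro c
      rw [W_C hodd hC hcard φ c, map_add, map_neg, map_add, conj_theta hodd hC hcard,
        conj_theta hodd hC hcard, inv_inv, apply_ite conj, map_zero, map_mul, map_add,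
        Complex.conj_natCast, map_one, conj_theta hodd hC hcard]
      simp only [MonoidHom.mul_apply, MonoidHom.inv_apply, Units.val_mul, map_inv]
      split_ifs with hc
      · rw [show (φ c)⁻¹ = φ c by rw [← map_inv, inv_eq_of_mul_eq_one_right hc]]
        ring
      · ring
    have hfil : (Finset.univ.filter fun c : C => c * c = 1) = {1, zC hodd hC hcard} := by
      ext c
      simp only [Finset.mem_filter, Finset.mem_univ, true_and, Finset.mem_insert,
        Finset.mem_singleton]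
      constructor
      · intro h
        rcases eq_one_or_negOne (SylowSL2.two_ne_zero_of_odd hodd)
          (congrArg Subtype.val h : (c : SL(2, F)) * c = 1) with e | e
        · exact Or.inl (Subtype.ext e)
        · exact Or.inr (Subtype.ext e)
      · rintro (rfl | rfl)
        · exact one_mul 1
        · exact Subtype.ext negOne_sq
    rw [Finset.sum_congr rfl fun c _ => hterm c, Finset.sum_add_distrib, Finset.sum_neg_distrib,
      Finset.sum_add_distrib, sum_group, sum_group, ← Finset.sum_filter, hfil,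
      Finset.sum_pair (zC_ne_one hodd hC hcard).symm, map_one, MonoidHom.mul_apply (x := zC hodd hC hcard),
      Units.val_mul, Units.val_one, ← Nat.card_eq_fintype_card, hcard]
    simp only [show (θ * φ⁻¹ = 1) ↔ θ = φ from
        ⟨fun h => MonoidHom.ext fun c => mul_inv_eq_one.1 (DFunLike.congr_fun h c),
          fun h => MonoidHom.ext fun c => mul_inv_eq_one.2 (DFunLike.congr_fun h c)⟩,
      show (θ * φ = 1) ↔ θ = φ⁻¹ from
        ⟨fun h => MonoidHom.ext fun c => mul_eq_one_iff_eq_inv.1 (DFunLike.congr_fun h c),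
          fun h => MonoidHom.ext fun c => mul_eq_one_iff_eq_inv.2 (DFunLike.congr_fun h c)⟩]
    rw [hcard] at hC0
    push_cast at hC0 ⊢
    split_ifs <;> field_simp <;> ring
  rw [inner_W hodd hC hcard (classFun_W hodd hC hcard φ) (isCusp_W hodd hC hcard φ) θ, hin, W_one,
    W_negOne, map_mul, map_sub, Complex.conj_natCast, map_one, conj_theta hodd hC hcard,
    show (zC hodd hC hcard)⁻¹ = zC hodd hC hcard from inv_eq_of_mul_eq_one_right (Subtype.ext negOne_sq)]
  field_simp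
  ring

theorem sq_ne_one_iff (θ : C →* ℂˣ) : (∃ c : C, θ c ^ 2 ≠ 1) ↔ θ ≠ θ⁻¹ := by
  rw [← not_iff_not]
  push Not
  rw [MonoidHom.ext_iff]
  simp [sq, eq_inv_iff_mul_eq_one]

theorem isIrr_W {θ : C →* ℂˣ} (h : θ ≠ θ⁻¹) : Cfsg.IsIrrCharacter SL(2, F) (W hodd hC hcard θ) := by
  classical
  refine isIrr_of_gen_norm_one (isGen_W hodd hC hcard θ) ?_ ?_
  · rw [inner_WW, if_pos rfl, if_neg h, add_zero]
  · have hq := Fintype.one_lt_card (α := F)
    have h1 : (1 : ℝ) < Fintype.card F := by exact_mod_cast hq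
    rw [W_one]
    simp
    linarith

theorem W_trivial : W hodd hC hcard (1 : C →* ℂˣ) = StS - fun _ => (1 : ℂ) := by
  classical
  refine classFun_ext_BC hodd hC hcard (classFun_W hodd hC hcard 1)
    (isGen_isClassFunction (isGen_sub (isGen_of_isCharacter (isCharacter_of_isIrr isIrr_StS))
      (isGen_of_isCharacter isCharacter_one))) (fun p x => ?_) fun c hc => ?_
  · rw [W_mkS, Pi.sub_apply, StS_mkS]
    split_ifs with hp hx
    · rcases unit_sq_cases p hp with rfl | rfl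
      · simp
      · rw [show ((-1 : Fˣ) : F) = -1 by simp, par_spec]
        simp
    · rcases unit_sq_cases p hp with rfl | rfl
      · simp
      · rw [show ((-1 : Fˣ) : F) = -1 by simp, par_spec]
        simp
    · simp
  · rw [show c = ((⟨c, hc⟩ : C) : SL(2, F)) from rfl, W_C, Pi.sub_apply]
    split_ifs with h
    · rcases eq_one_or_negOne (SylowSL2.two_ne_zero_of_odd hodd)
        (congrArg Subtype.val h : c * c = 1) with e | e
      · have e1 : c = 1 := e
        subst e1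
        simp [StS_one]
        ring
      · rw [show (((⟨c, hc⟩ : C) : SL(2, F))) = mkS (-1 : Fˣ) 0 from e.trans mkS_neg_one_zero.symm,
          StS_mkS, if_pos (by simp), if_pos rfl]
        simp
        ring
    · rw [StS_elliptic hcard hc (fun e => h (Subtype.ext e))]
      simp
      ring

theorem char_values {χ : SL(2, F) → ℂ} (hχ : Cfsg.IsIrrCharacter SL(2, F) χ) (hcusp : IsCuspS χ)
    (hdeg : χ 1 = (Fintype.card F : ℂ) - 1 ∨ 2 * χ 1 = (Fintype.card F : ℂ) - 1) :
    (χ 1 = (Fintype.card F : ℂ) - 1 → ∃ θ : C →* ℂˣ, θ ≠ θ⁻¹ ∧ χ = W hodd hC hcard θ) ∧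
    (2 * χ 1 = (Fintype.card F : ℂ) - 1 → ∃ θ : C →* ℂˣ, θ = θ⁻¹ ∧ θ ≠ 1 ∧
      ∀ c : C, c * c ≠ 1 → χ c = -(θ c : ℂ)) := by
  classical
  haveI := (finite_chars hC).2
  haveI := Fintype.ofFinite (C →* ℂˣ)
  haveI := Fintype.ofFinite C
  have hq1 : (Fintype.card F : ℂ) - 1 ≠ 0 := by
    rw [← ClassifySL.cast_card_units]; exact card_units_ne_zero
  have hC0 : (Nat.card C : ℂ) ≠ 0 := natCard_ne_zero
  have hcardD : (Fintype.card (C →* ℂˣ) : ℂ) = Nat.card C := by
    rw [← (finite_chars hC).1, Nat.card_eq_fintype_card]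
  have hd0 := irr_one_ne_zero hχ
  have hcl := char_isClassFunction (isCharacter_of_isIrr hχ)
  obtain ⟨d, -, hd⟩ := irr_one_pos hχ
  set z := zC hodd hC hcard with hzdef
  set ω : ℂ := χ (negOne F) / χ 1 with hω
  have hω1 : ω = 1 ∨ ω = -1 := by
    refine mul_self_eq_one_iff.1 ?_
    have := (center_mul hχ (z := negOne F) negOne_central (negOne F)).1
    rw [negOne_sq] at this
    rw [hω, div_mul_div_comm, div_eq_one_iff_eq (mul_ne_zero hd0 hd0)]
    rw [eq_div_iff hd0] at this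
    exact this.symm
  have hωconj : conj ω = ω := by rcases hω1 with e | e <;> rw [e] <;> simp
  have hχz : χ (negOne F) = ω * χ 1 := by rw [hω, div_mul_cancel₀ _ hd0]
  set m : (C →* ℂˣ) → ℂ := fun θ => Cfsg.classInner (fun c : C => (θ c : ℂ)) (fun c : C => χ c) with hm
  set n : (C →* ℂˣ) → ℂ := fun θ => Cfsg.classInner (W hodd hC hcard θ) χ with hn
  have hnm : ∀ θ : C →* ℂˣ, n θ = χ 1 * (1 + (θ z : ℂ) * ω) / ((Fintype.card F : ℂ) - 1) - m θ := by
    intro θ
    simp only [hn, hm]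
    rw [inner_W hodd hC hcard hcl hcusp θ, hχz, map_mul, hωconj, hd, Complex.conj_natCast]
    ring
  -- inversion
  have hinv : ∀ c : C, ∑ θ : C →* ℂˣ, m θ * (θ c⁻¹ : ℂ) = conj (χ c) := by
    intro c
    simp only [hm, classInner_def, mul_assoc]
    rw [← Finset.mul_sum]
    simp only [Finset.sum_mul]
    rw [Finset.sum_comm]
    have : ∀ a : C, ∑ θ : C →* ℂˣ, (θ a : ℂ) * conj (χ a) * (θ c⁻¹ : ℂ) =
        if a = c then (Nat.card C : ℂ) * conj (χ c) else 0 := by
      intro a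
      rw [show ∑ θ : C →* ℂˣ, (θ a : ℂ) * conj (χ a) * (θ c⁻¹ : ℂ) =
        (∑ θ : C →* ℂˣ, (θ (a * c⁻¹) : ℂ)) * conj (χ a) by
          rw [Finset.sum_mul]
          exact Finset.sum_congr rfl fun θ _ => by rw [map_mul, Units.val_mul]; ring,
        sum_dual hC]
      simp only [mul_inv_eq_one, hcardD]
      split_ifs with h
      · rw [h]
      · rw [zero_mul]
    rw [Finset.sum_congr rfl fun a _ => this a, Finset.sum_ite_eq' Finset.univ c, if_pos (Finset.mem_univ _),
      inv_mul_cancel_left₀ hC0]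
  have hnsum : ∀ c : C, ∑ θ : C →* ℂˣ, n θ * (θ c⁻¹ : ℂ) =
      χ 1 * ((if c = 1 then (Nat.card C : ℂ) else 0) + ω * (if c = z then (Nat.card C : ℂ) else 0)) /
        ((Fintype.card F : ℂ) - 1) - conj (χ c) := by
    intro c
    simp only [hnm, sub_mul, Finset.sum_sub_distrib, hinv]
    congr 1
    have h1 : ∀ θ : C →* ℂˣ, χ 1 * (1 + (θ z : ℂ) * ω) / ((Fintype.card F : ℂ) - 1) * (θ c⁻¹ : ℂ) =
        χ 1 / ((Fintype.card F : ℂ) - 1) * ((θ c⁻¹ : ℂ) + ω * (θ (z * c⁻¹) : ℂ)) := by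
      intro θ
      rw [map_mul, Units.val_mul]
      ring
    rw [Finset.sum_congr rfl fun θ _ => h1 θ, ← Finset.mul_sum, Finset.sum_add_distrib,
      ← Finset.mul_sum, sum_dual hC, sum_dual hC]
    simp only [inv_eq_one, mul_inv_eq_one, hcardD, eq_comm (a := z)]
    ring
  -- the non-quadratic and the trivial parameters
  have hirr : ∀ θ : C →* ℂˣ, θ ≠ θ⁻¹ → χ ≠ W hodd hC hcard θ → n θ = 0 := fun θ hθ hne =>
    classInner_isIrr_ne (isIrr_W hodd hC hcard hθ) hχ hne.symm
  have htriv : n 1 = 0 := by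
    simp only [hn]
    rw [W_trivial, classInner_sub_left]
    have e1 : (fun _ => (1 : ℂ)) ≠ χ := fun e => one_not_cusp (e ▸ hcusp)
    have e2 : (StS : SL(2, F) → ℂ) ≠ χ := fun e => StS_not_cusp (e ▸ hcusp)
    rw [classInner_isIrr_ne isIrr_StS hχ e2, classInner_isIrr_ne isIrrCharacter_one hχ e1, sub_zero]
  have huniq : ∀ θ φ : C →* ℂˣ, θ = θ⁻¹ → θ ≠ 1 → φ = φ⁻¹ → φ ≠ 1 → θ = φ := by
    intro θ φ hθ hθ1 hφ hφ1
    obtain ⟨g, hg⟩ := hC.exists_generator
    have hgen : ∀ ψ : C →* ℂˣ, ψ = ψ⁻¹ → ψ ≠ 1 → (ψ g : ℂ) = -1 := by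
      intro ψ hψ hψ1
      have : (ψ g : ℂ) * ψ g = 1 := by
        rw [← Units.val_mul]
        nth_rw 2 [hψ]
        simp
      refine (mul_self_eq_one_iff.1 this).resolve_left fun e => hψ1 (MonoidHom.ext fun c => ?_)
      obtain ⟨k, rfl⟩ := Subgroup.mem_zpowers_iff.1 (hg c)
      rw [map_zpow, Units.val_eq_one.1 e, _root_.one_zpow, MonoidHom.one_apply]
    refine MonoidHom.ext fun c => ?_
    obtain ⟨k, rfl⟩ := Subgroup.mem_zpowers_iff.1 (hg c)
    rw [map_zpow, map_zpow, Units.ext ((hgen θ hθ hθ1).trans (hgen φ hφ hφ1).symm)]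
  have hsum1 : ∑ θ : C →* ℂˣ, n θ = 2 * χ 1 / ((Fintype.card F : ℂ) - 1) := by
    have h := hnsum 1
    simp only [inv_one, map_one, Units.val_one, mul_one, if_true,
      if_neg (zC_ne_one hodd hC hcard).symm, hzdef, mul_zero, add_zero, Subgroup.coe_one] at h
    rw [h, hd, Complex.conj_natCast, hcard]
    push_cast
    field_simp
    ring
  -- the collapse
  have hsupp : (∀ θ : C →* ℂˣ, θ ≠ θ⁻¹ → χ ≠ W hodd hC hcard θ) →
      ∃ θ : C →* ℂˣ, θ = θ⁻¹ ∧ θ ≠ 1 ∧ n θ = 2 * χ 1 / ((Fintype.card F : ℂ) - 1) ∧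
        ∀ c : C, c * c ≠ 1 → n θ * (θ c⁻¹ : ℂ) = -conj (χ c) := by
    intro hno
    have hzero : ∀ θ : C →* ℂˣ, n θ ≠ 0 → θ = θ⁻¹ ∧ θ ≠ 1 := fun θ h =>
      ⟨by_contra fun hθ => h (hirr θ hθ (hno θ hθ)), fun e => h (e ▸ htriv)⟩
    obtain ⟨θ₀, hθ₀⟩ : ∃ θ₀, n θ₀ ≠ 0 := by
      by_contra hall
      push Not at hall
      rw [Finset.sum_eq_zero fun θ _ => hall θ, eq_comm, div_eq_zero_iff] at hsum1
      rcases hsum1 with e | e
      · exact hd0 ((mul_eq_zero.1 e).resolve_left two_ne_zero)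
      · exact hq1 e
    have honly : ∀ θ, θ ≠ θ₀ → n θ = 0 := fun θ hne => by
      by_contra h
      exact hne (huniq θ θ₀ (hzero θ h).1 (hzero θ h).2 (hzero θ₀ hθ₀).1 (hzero θ₀ hθ₀).2)
    refine ⟨θ₀, (hzero θ₀ hθ₀).1, (hzero θ₀ hθ₀).2, ?_, fun c hc => ?_⟩
    · rw [← hsum1, Finset.sum_eq_single θ₀ (fun θ _ hne => honly θ hne) (by simp)]
    · have h := hnsum c
      have e1 : c ≠ 1 := fun e => hc (by rw [e, one_mul])
      have e2 : c ≠ z := fun e => hc (by rw [e]; exact Subtype.ext negOne_sq)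
      rw [Finset.sum_eq_single θ₀ (fun θ _ hne => by rw [honly θ hne, zero_mul]) (by simp),
        if_neg e1, if_neg e2] at h
      rw [h]
      ring
  refine ⟨fun h1 => ?_, fun h1 => ?_⟩
  · by_contra hno
    push Not at hno
    obtain ⟨θ, hθ, -, hval, -⟩ := hsupp hno
    rw [h1, mul_div_assoc, div_self hq1, mul_one] at hval
    have hnorm : Cfsg.classInner (W hodd hC hcard θ - (2 : ℂ) • χ) (W hodd hC hcard θ - (2 : ℂ) • χ) =
        (-2 : ℂ) := by
      simp only [classInner_sub_left, classInner_sub_right, classInner_smul_left, classInner_smul_right]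
      rw [inner_WW, if_pos rfl, if_pos hθ, classInner_isIrr_self hχ,
        classInner_conj_symm (W hodd hC hcard θ) χ, show Cfsg.classInner (W hodd hC hcard θ) χ = 2 from hval]
      simp [map_ofNat]
      norm_num
    have hpos : ∀ f : SL(2, F) → ℂ, 0 ≤ (Cfsg.classInner f f).re := fun f => by
      rw [classInner_def]
      simp only [Complex.mul_conj]
      rw [← Complex.ofReal_sum, ← Complex.ofReal_natCast, ← Complex.ofReal_inv, ← Complex.ofReal_mul,
        Complex.ofReal_re]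
      exact mul_nonneg (inv_nonneg.2 (Nat.cast_nonneg _))
        (Finset.sum_nonneg fun g _ => Complex.normSq_nonneg _)
    have := hpos (W hodd hC hcard θ - (2 : ℂ) • χ)
    rw [hnorm] at this
    norm_num at this
  · have hne : ∀ θ : C →* ℂˣ, θ ≠ θ⁻¹ → χ ≠ W hodd hC hcard θ := fun θ _ e => by
      have := congrFun e 1
      rw [W_one] at this
      exact hd0 (by linear_combination h1 - this)
    obtain ⟨θ, hθ, hθ1, hval, hall⟩ := hsupp hne
    rw [h1, div_self hq1] at hval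
    refine ⟨θ, hθ, hθ1, fun c hc => ?_⟩
    have h := congrArg conj (hall c hc)
    rw [hval, one_mul, map_neg, Complex.conj_conj, conj_theta hodd hC hcard, inv_inv] at h
    rw [h, neg_neg]

end Cfsg.Agent.GL2.CuspidalTorusChars
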