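import Mathlib
import Cfsg.Agent.Lib.GL2.CuspidalTorusChars

/-!
# Statements about cuspidal values of `SL₂(q)`
-/

set_option autoImplicit false
set_option linter.unusedSectionVars false

open Matrix
open scoped MatrixGroups ComplexConjugate

namespace Cfsg.Agent.GL2.CuspidalTorusValues

open Borel Principal PrincipalSL ClassifySL CuspidalTorus CuspidalTorusChars
open Cfsg.Agent.Characters
open Cfsg.Agent.Classical Cfsg.Agent.Classical.TorusNormalizer

universe u

variable {F : Type u} [Field F] [Fintype F] [DecidableEq F]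

theorem sq_eq_one_iff_central (hodd : Odd (Fintype.card F)) {C : Subgroup SL(2, F)}
    (hcard : Nat.card C = Fintype.card F + 1) (c : C) :
    c * c = 1 ↔ (c : SL(2, F)) ∈ Subgroup.center SL(2, F) := by
  constructor
  · intro h
    rcases eq_one_or_negOne (SylowSL2.two_ne_zero_of_odd hodd)
      (congrArg Subtype.val h : (c : SL(2, F)) * c = 1) with e | e <;> rw [e]
    · exact one_mem _
    · exact Subgroup.mem_center_iff.2 fun g => (negOne_central g).symm
  · intro h
    refine Subtype.ext ?_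
    by_contra hne
    refine not_conj_BS hcard c.2 hne 1 ?_
    rw [one_mul, inv_one, mul_one]
    have e := Subgroup.mem_center_iff.1 h (Classical.GL2.uniSL (1 : F))
    have e' := congrFun (congrFun (congrArg (fun M : SL(2, F) => (M : Matrix (Fin 2) (Fin 2) F)) e) 1) 1
    simp [Classical.GL2.coe_uniSL, Matrix.mul_apply, Fin.sum_univ_two] at e'
    exact (mem_BS_iff _).2 e'

theorem part_one (hodd : Odd (Fintype.card F)) {C : Subgroup SL(2, F)} (hC : IsCyclic C)
    (hcard : Nat.card C = Fintype.card F + 1) (θ : C →* ℂˣ) (hθ : ∃ c : C, θ c ^ 2 ≠ 1) :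
    ∃ χ : SL(2, F) → ℂ, Cfsg.IsIrrCharacter SL(2, F) χ ∧ χ 1 = (Fintype.card F : ℂ) - 1 ∧
      (∀ c : C, (c : SL(2, F)) ∉ Subgroup.center SL(2, F) → χ c = -((θ c).val + (θ c)⁻¹.val)) ∧
      (∀ c : C, (c : SL(2, F)) ∈ Subgroup.center SL(2, F) →
        ∀ g : SL(2, F), χ ((c : SL(2, F)) * g) = (θ c).val * χ g) ∧
      (∀ g : SL(2, F), (g : Matrix (Fin 2) (Fin 2) F) 0 1 = 0 → (g : Matrix (Fin 2) (Fin 2) F) 1 0 = 0 →
        (g : Matrix (Fin 2) (Fin 2) F) 0 0 ^ 2 ≠ 1 → χ g = 0) ∧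
      (∀ g : SL(2, F), (g : Matrix (Fin 2) (Fin 2) F) 1 0 = 0 → (g : Matrix (Fin 2) (Fin 2) F) 0 0 = 1 →
        (g : Matrix (Fin 2) (Fin 2) F) 1 1 = 1 → (g : Matrix (Fin 2) (Fin 2) F) 0 1 ≠ 0 → χ g = -1) := by
  classical
  have hne := (sq_ne_one_iff hodd hC hcard θ).1 hθ
  have hirr := isIrr_W hodd hC hcard hne
  refine ⟨W hodd hC hcard θ, hirr, W_one hodd hC hcard θ, fun c hc => ?_, fun c hc g => ?_,
    fun g h01 h10 hsq => ?_, fun g h10 h00 h11 h01 => ?_⟩
  · rw [W_C, if_neg (fun e => hc ((sq_eq_one_iff_central hodd hcard c).1 e)), add_zero, map_inv]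
  · have hz : ∀ a, (c : SL(2, F)) * a = a * c := fun a => (Subgroup.mem_center_iff.1 hc a).symm
    have hq1 : (Fintype.card F : ℂ) - 1 ≠ 0 := by
      rw [← ClassifySL.cast_card_units]; exact card_units_ne_zero
    rw [hz g, (center_mul hirr hz g).1, W_one, W_C, if_pos ((sq_eq_one_iff_central hodd hcard c).2 hc),
      inv_eq_of_mul_eq_one_right ((sq_eq_one_iff_central hodd hcard c).2 hc)]
    field_simp
    ring
  · obtain ⟨p, x, rfl⟩ := ValuesSL.exists_mkS h10
    rw [W_mkS, if_neg]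
    intro hp
    refine hsq ?_
    rcases unit_sq_cases p hp with rfl | rfl <;> simp
  · obtain ⟨p, x, rfl⟩ := ValuesSL.exists_mkS h10
    have hp : p = 1 := Units.ext (by simpa using h00)
    subst hp
    rw [W_mkS, if_pos inv_one.symm, if_neg (by simpa using h01), Units.val_one, map_one]

theorem elliptic_no_eigen {C : Subgroup SL(2, F)} (hcard : Nat.card C = Fintype.card F + 1)
    {c : SL(2, F)} (hc : c ∈ C) (hc2 : c * c ≠ 1) :
    ∀ (a : F) (v : Fin 2 → F), v ≠ 0 → (c : Matrix (Fin 2) (Fin 2) F) *ᵥ v ≠ a • v :=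
  no_eigen_of_not_conj (not_conj_BS hcard hc hc2)

theorem half_elliptic (hodd : Odd (Fintype.card F)) {χ : SL(2, F) → ℂ}
    (hχ : Cfsg.IsIrrCharacter SL(2, F) χ) (h : IsHalf χ) {g : SL(2, F)}
    (hg : ∀ (a : F) (v : Fin 2 → F), v ≠ 0 → (g : Matrix (Fin 2) (Fin 2) F) *ᵥ v ≠ a • v) :
    χ g = 0 := by
  obtain ⟨α, χ', hα, hα1, hχ', hne, he⟩ := h
  have hres : res (pind α 1) = χ + χ' := by rw [res_pind, inv_one, mul_one, he]
  have h1 := split_eq (isIrr_pind hα1) hχ hχ' hne.symm hres g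
    (Or.inr (ValuesSL.elliptic_trace hg (SylowSL2.two_ne_zero_of_odd hodd)))
  have h2 := congrFun he g
  rw [pindS_eq_zero α hg, Pi.add_apply, ← h1] at h2
  linear_combination -h2 / 2

theorem part_two (hodd : Odd (Fintype.card F)) {C : Subgroup SL(2, F)} (hC : IsCyclic C)
    (hcard : Nat.card C = Fintype.card F + 1) (χ : SL(2, F) → ℂ)
    (hχ : Cfsg.IsIrrCharacter SL(2, F) χ) (h1 : χ 1 = (Fintype.card F : ℂ) - 1) :
    ∃ θ : C →* ℂˣ, (∃ c : C, θ c ^ 2 ≠ 1) ∧
      ∀ c : C, (c : SL(2, F)) ∉ Subgroup.center SL(2, F) → χ c = -((θ c).val + (θ c)⁻¹.val) := by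
  classical
  have hq := Fintype.one_lt_card (α := F)
  by_cases hcusp : IsCuspS χ
  · obtain ⟨θ, hθ, rfl⟩ := (char_values hodd hC hcard hχ hcusp (Or.inl h1)).1 h1
    refine ⟨θ, (sq_ne_one_iff hodd hC hcard θ).2 hθ, fun c hc => ?_⟩
    rw [W_C, if_neg (fun e => hc ((sq_eq_one_iff_central hodd hcard c).1 e)), add_zero, map_inv]
  · have h2 : 2 * χ 1 = ((2 * (Fintype.card F - 1) : ℕ) : ℂ) := by
      rw [h1, Nat.cast_mul, CountsSL.cast_sub_one, Nat.cast_ofNat]
    obtain ⟨i, hi⟩ := CountsSL.exists_kind hχ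
    have hd : CountsSL.deg2 (Fintype.card F) i = 2 * (Fintype.card F - 1) :=
      Nat.cast_injective (R := ℂ) (hi.2.symm.trans h2)
    have hhalf : IsHalf χ ∧ Fintype.card F = 3 := by
      rcases classify_degree hχ with ⟨rfl, e⟩ | ⟨rfl, e⟩ | ⟨⟨α, hα, rfl⟩, e⟩ | ⟨hh, e⟩ | ⟨hh, -⟩ |
        ⟨hh, -⟩
      · exfalso
        rw [e] at h2
        have : (2 : ℕ) = 2 * (Fintype.card F - 1) :=
          Nat.cast_injective (R := ℂ) (Eq.trans (by norm_num) h2)
        rw [Nat.odd_iff] at hodd; omega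
      · exfalso
        rw [e] at h2
        have : 2 * Fintype.card F = 2 * (Fintype.card F - 1) := by exact_mod_cast h2
        omega
      · exfalso
        rw [e] at h2
        have : 2 * (Fintype.card F + 1) = 2 * (Fintype.card F - 1) := by exact_mod_cast h2
        omega
      · refine ⟨hh, ?_⟩
        rw [e] at h2
        have : Fintype.card F + 1 = 2 * (Fintype.card F - 1) := by exact_mod_cast h2
        omega
      · exact absurd hh hcusp
      · exact absurd hh hcusp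
    obtain ⟨g, hg⟩ := hC.exists_generator
    have hordg : orderOf g = 4 := by rw [orderOf_eq_card_of_forall_mem_zpowers hg, hcard, hhalf.2]
    obtain ⟨θ, hθ⟩ := exists_char_ne_one hC (c := g ^ 2)
      (pow_ne_one_of_lt_orderOf two_ne_zero (by omega))
    refine ⟨θ, ⟨g, by rwa [← map_pow]⟩, fun c hc => ?_⟩
    have hc2 : c * c ≠ 1 := fun e => hc ((sq_eq_one_iff_central hodd hcard c).1 e)
    rw [half_elliptic hodd hχ hhalf.1 (elliptic_no_eigen hcard c.2 fun e => hc2 (Subtype.ext e))]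
    obtain ⟨k, hk⟩ := Subgroup.mem_zpowers_iff.1 (hg c)
    have hg4 : g ^ 4 = 1 := by rw [← hordg]; exact pow_orderOf_eq_one g
    have hcc : c * c = g ^ 2 := by
      rcases Int.even_or_odd k with ⟨a, rfl⟩ | ⟨a, rfl⟩
      · refine absurd ?_ hc2
        rw [← hk, ← _root_.zpow_add, show a + a + (a + a) = (4 : ℤ) * a by ring, _root_.zpow_mul,
          show g ^ (4 : ℤ) = 1 by rw [zpow_ofNat, hg4], _root_.one_zpow]
      · rw [← hk, ← _root_.zpow_add, show 2 * a + 1 + (2 * a + 1) = (4 : ℤ) * a + 2 by ring,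
          _root_.zpow_add, _root_.zpow_mul,
          show g ^ (4 : ℤ) = 1 by rw [zpow_ofNat, hg4], _root_.one_zpow, one_mul, zpow_ofNat]
    have hu : ((θ c : ℂ) * θ c) ^ 2 = 1 := by
      rw [← Units.val_mul, ← map_mul, hcc, ← Units.val_pow_eq_pow_val, ← map_pow, ← pow_mul, hg4,
        map_one, Units.val_one]
    have hu1 : (θ c : ℂ) * θ c ≠ 1 := by
      rw [← Units.val_mul, ← map_mul, hcc, Ne, Units.val_eq_one]
      exact hθ
    have hneg : (θ c : ℂ) * θ c = -1 := (sq_eq_one_iff.1 hu).resolve_left hu1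
    have hinv : ((θ c)⁻¹ : ℂˣ).val = -(θ c : ℂ) := by
      refine mul_left_cancel₀ (θ c).ne_zero ?_
      rw [← Units.val_mul, mul_inv_cancel, Units.val_one]
      linear_combination hneg
    rw [hinv, add_neg_cancel, neg_zero]

theorem cusp_half_values (hodd : Odd (Fintype.card F)) {χ : SL(2, F) → ℂ}
    (hχ : Cfsg.IsIrrCharacter SL(2, F) χ) (hcusp : IsCuspS χ)
    (hdeg : 2 * χ 1 = (Fintype.card F : ℂ) - 1) (g : SL(2, F))
    (hg : ∀ (a : F) (v : Fin 2 → F), v ≠ 0 → (g : Matrix (Fin 2) (Fin 2) F) *ᵥ v ≠ a • v) :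
    (g ^ ((Fintype.card F + 1) / 2) = 1 → χ g = -1) ∧
      (g ^ ((Fintype.card F + 1) / 2) ≠ 1 → χ g = 1) := by
  classical
  have h2 := SylowSL2.two_ne_zero_of_odd hodd
  obtain ⟨A, hA⟩ := Torus.exists_irreducible F
  haveI : Fact (∀ r : F, r ^ 2 ≠ A + 1 * r) := ⟨hA⟩
  set C := (Torus.torusHom (F := F) (A := A) (B := 1)).range with hCdef
  have hcard : Nat.card C = Fintype.card F + 1 := by
    rw [hCdef, ← Nat.card_congr (MonoidHom.ofInjective Torus.torusHom_injective).toEquiv,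
      Torus.natCard_normOne]
  have hC : IsCyclic C := isCyclic_of_surjective
    (Torus.torusHom (F := F) (A := A) (B := 1)).rangeRestrict (MonoidHom.rangeRestrict_surjective _)
  have hnB : ∀ x : SL(2, F), x * g * x⁻¹ ∉ BS F := by
    intro x hx
    have h10 := (mem_BS_iff _).1 hx
    set b := x * g * x⁻¹ with hb
    refine hg ((b : Matrix (Fin 2) (Fin 2) F) 0 0)
      ((x⁻¹ : SL(2, F)).1 *ᵥ ![1, 0]) (fun e => ?_) ?_
    · have := congrArg (fun w => (x : Matrix (Fin 2) (Fin 2) F) *ᵥ w) e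
      rw [mulVec_mulVec, ← Matrix.SpecialLinearGroup.coe_mul, mul_inv_cancel,
        Matrix.SpecialLinearGroup.coe_one, one_mulVec, mulVec_zero] at this
      simpa using congrFun this 0
    · rw [mulVec_mulVec, ← Matrix.SpecialLinearGroup.coe_mul, show g * x⁻¹ = x⁻¹ * b by rw [hb]; group,
        Matrix.SpecialLinearGroup.coe_mul, ← mulVec_mulVec, ← mulVec_smul]
      congr 1
      funext i
      fin_cases i <;> simp [Matrix.mulVec, dotProduct, Fin.sum_univ_two, h10]
  obtain ⟨x, hx⟩ := (exists_data hodd hC hcard).2 g hnB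
  set c : C := ⟨_, hx⟩ with hc
  have hcl := char_isClassFunction (isCharacter_of_isIrr hχ)
  obtain ⟨θ, hθ, hθ1, hval⟩ := (char_values hodd hC hcard hχ hcusp (Or.inr hdeg)).2 hdeg
  have hc2 : c * c ≠ 1 := by
    intro e
    have e' : x * g * x⁻¹ * (x * g * x⁻¹) = 1 := congrArg Subtype.val e
    rcases eq_one_or_negOne h2 e' with h | h
    · exact hnB x (h ▸ one_mem _)
    · exact hnB x (by rw [h, mem_BS_iff]; simp [coe_negOne])
  have hpow : (c ^ ((Fintype.card F + 1) / 2) = 1) ↔ g ^ ((Fintype.card F + 1) / 2) = 1 := by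
    rw [Subtype.ext_iff, SubgroupClass.coe_pow, Subgroup.coe_one, conj_pow, conj_eq_one_iff]
  obtain ⟨γ, hγ⟩ := hC.exists_generator
  have hγ1 : (θ γ : ℂ) = -1 := by
    have : (θ γ : ℂ) * θ γ = 1 := by
      rw [← Units.val_mul]
      nth_rw 2 [hθ]
      simp
    refine (mul_self_eq_one_iff.1 this).resolve_left fun e => hθ1 (MonoidHom.ext fun a => ?_)
    obtain ⟨k, rfl⟩ := Subgroup.mem_zpowers_iff.1 (hγ a)
    rw [map_zpow, Units.val_eq_one.1 e, _root_.one_zpow, MonoidHom.one_apply]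
  have hkey : (θ c : ℂ) = if c ^ ((Fintype.card F + 1) / 2) = 1 then 1 else -1 := by
    obtain ⟨k, hk⟩ := (Submonoid.mem_powers_iff c γ).1
      ((mem_powers_iff_mem_zpowers).2 (hγ c))
    have hord : orderOf γ = Fintype.card F + 1 := by
      rw [orderOf_eq_card_of_forall_mem_zpowers hγ, hcard]
    have hhalf : (Fintype.card F + 1) / 2 * 2 = Fintype.card F + 1 :=
      Nat.div_mul_cancel (by rw [Nat.odd_iff] at hodd; omega)
    have hiff : c ^ ((Fintype.card F + 1) / 2) = 1 ↔ Even k := by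
      rw [← hk, ← pow_mul, ← orderOf_dvd_iff_pow_eq_one, hord, even_iff_two_dvd]
      have := Fintype.one_lt_card (α := F)
      generalize (Fintype.card F + 1) / 2 = a at hhalf ⊢
      rw [← hhalf, mul_comm k]
      exact Nat.mul_dvd_mul_iff_left (show 0 < a by omega)
    simp only [hiff]
    rw [← hk, map_pow, Units.val_pow_eq_pow_val, hγ1]
    split_ifs with he
    · exact he.neg_one_pow
    · exact (Nat.not_even_iff_odd.1 he).neg_one_pow
  have hv : χ g = -(θ c : ℂ) := by rw [← hval c hc2, ← hcl g x]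
  refine ⟨fun h => ?_, fun h => ?_⟩
  · rw [hv, hkey, if_pos (hpow.2 h)]
  · rw [hv, hkey, if_neg (fun e => h (hpow.1 e)), neg_neg]

theorem half_diag (hodd : Odd (Fintype.card F)) {χ : SL(2, F) → ℂ}
    (hχ : Cfsg.IsIrrCharacter SL(2, F) χ) (h : IsHalf χ) {p : Fˣ} (hp : p ≠ p⁻¹) :
    (IsSquare (p : F) → χ (mkS p 0) = 1) ∧ (¬ IsSquare (p : F) → χ (mkS p 0) = -1) := by
  classical
  obtain ⟨α, χ', hα, hα1, hχ', hne, he⟩ := h
  have hres : res (pind α 1) = χ + χ' := by rw [res_pind, inv_one, mul_one, he]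
  have hne' : (p : F) ≠ ((p⁻¹ : Fˣ) : F) := fun e => hp (Units.ext e)
  have h1 := split_eq (isIrr_pind hα1) hχ hχ' hne.symm hres (mkS p 0) (Or.inr (by
    rw [coe_mkS, trace_fin_two]
    simp only [of_apply, cons_val', cons_val_zero, cons_val_one, empty_val', cons_val_fin_one]
    intro h4
    refine hne' (sub_eq_zero.1 ((pow_eq_zero_iff two_ne_zero).1 ?_))
    linear_combination h4 - 4 * Units.mul_inv p))
  have hval : χ (mkS p 0) = α p := by
    have h2 := congrFun he (mkS p 0)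
    rw [pindS_mkS_ne α hp, Pi.add_apply, ← h1, apply_inv_units,
      show α⁻¹ = α from inv_eq_of_mul_eq_one_right (by rw [← sq, hα])] at h2
    linear_combination -h2 / 2
  have hchar : ringChar F ≠ 2 := fun hc => by
    have := FiniteField.even_card_iff_char_two.1 hc
    rw [Nat.odd_iff] at hodd
    omega
  set β : MulChar F ℂ := (quadraticChar F).ringHomComp (Int.castRingHom ℂ) with hβdef
  have hβ2 : β ^ 2 = 1 := by
    refine MulChar.ext fun a => ?_
    rw [MulChar.pow_apply_coe, MulChar.one_apply_coe, hβdef, MulChar.ringHomComp_apply, ← map_pow,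
      quadraticChar_sq_one a.ne_zero, map_one]
  have hβ1 : β ≠ 1 := by
    obtain ⟨e, he0, he⟩ := Counts.exists_nonsquare hodd
    intro hb
    have := congrArg (fun γ : MulChar F ℂ => γ e) hb
    simp only [hβdef, MulChar.ringHomComp_apply, quadraticChar_neg_one_iff_not_isSquare.2 he,
      MulChar.one_apply (isUnit_iff_ne_zero.2 he0), map_neg, map_one] at this
    norm_num at this
  rw [hval, quadratic_unique hα hα1 hβ2 hβ1, hβdef, MulChar.ringHomComp_apply]
  exact ⟨fun hs => by rw [(quadraticChar_one_iff_isSquare p.ne_zero).2 hs, map_one],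
    fun hs => by rw [quadraticChar_neg_one_iff_not_isSquare.2 hs, map_neg, map_one]⟩

end Cfsg.Agent.GL2.CuspidalTorusValues
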