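import Cfsg.Agent.Lib.GL2.PrincipalSL
import Cfsg.Agent.Lib.CharTheory.Clifford

/-!
# The irreducible characters of `SL₂(q)`
-/

set_option autoImplicit false
set_option linter.unusedSectionVars false

open Matrix
open scoped MatrixGroups ComplexConjugate

namespace Cfsg.Agent.GL2.ClassifySL

open Borel Principal PrincipalSL
open Cfsg.Agent.Characters
open Cfsg.Agent.GL2.ClassifyGL (classFun_eq_of_isConj)

universe u

/-- A character of norm at most two with a given constituent. -/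
theorem split_of_norm {G : Type u} [Group G] [Fintype G] {Φ χ : G → ℂ} (hΦ : Cfsg.IsCharacter G Φ)
    (hχ : Cfsg.IsIrrCharacter G χ) (hne : Cfsg.classInner Φ χ ≠ 0) {n : ℕ} (hn : n ≤ 2)
    (hnorm : Cfsg.classInner Φ Φ = (n : ℂ)) :
    (Φ = χ ∧ n = 1) ∨ (n = 2 ∧ ∃ χ', Cfsg.IsIrrCharacter G χ' ∧ χ' ≠ χ ∧ Φ = χ + χ') := by
  obtain ⟨m, hm⟩ := classInner_char_nat hΦ (isCharacter_of_isIrr hχ)
  obtain ⟨ρ, hρ, he⟩ := CharTheory.Basics.eq_smul_of_degree hΦ hχ hm
  obtain ⟨r, hr⟩ := classInner_char_nat hρ hρ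
  have hχρ : Cfsg.classInner ρ χ = 0 := by
    rw [he, classInner_add_left, classInner_smul_left, classInner_isIrr_self hχ, mul_one] at hm
    linear_combination hm
  have hρχ : Cfsg.classInner χ ρ = 0 := by rw [classInner_conj_symm ρ χ, hχρ, map_zero]
  rw [he] at hnorm
  simp only [classInner_add_left, classInner_add_right, classInner_smul_left, classInner_smul_right,
    classInner_isIrr_self hχ, hχρ, hρχ, hr, Complex.conj_natCast] at hnorm
  have hN : m * m + r = n := by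
    have : ((m * m + r : ℕ) : ℂ) = (n : ℂ) := by push_cast; linear_combination hnorm
    exact_mod_cast this
  have hm0 : m ≠ 0 := fun h => hne (by rw [hm, h, Nat.cast_zero])
  have hm1 : m = 1 := by
    by_contra h
    have : 2 * 2 ≤ m * m := Nat.mul_le_mul (by omega) (by omega)
    omega
  subst hm1
  rw [Nat.cast_one, one_smul] at he
  rcases (show r = 0 ∨ r = 1 by omega) with rfl | rfl
  · rw [Nat.cast_zero, classInner_self_eq_zero] at hr
    exact Or.inl ⟨by rw [he, hr, add_zero], by omega⟩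
  · rw [Nat.cast_one] at hr
    refine Or.inr ⟨by omega, ρ, isIrr_of_isCharacter_of_norm_one hρ hr, fun h => ?_, he⟩
    rw [h, classInner_isIrr_self hχ] at hχρ
    exact one_ne_zero hχρ

variable {F : Type u} [Field F] [Fintype F] [DecidableEq F]

/-- Orthogonality to every principal series of `SL₂`. -/
def IsCuspS (χ : SL(2, F) → ℂ) : Prop :=
  ∀ α : MulChar F ℂ, Cfsg.classInner (pindS α) χ = 0

/-- One of the two constituents of a reducible principal series of `SL₂`. -/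
def IsHalf (χ : SL(2, F) → ℂ) : Prop :=
  ∃ (α : MulChar F ℂ) (χ' : SL(2, F) → ℂ), α ^ 2 = 1 ∧ α ≠ 1 ∧ Cfsg.IsIrrCharacter SL(2, F) χ' ∧
    χ' ≠ χ ∧ pindS α = χ + χ'

theorem range_toGL_normal :
    (Matrix.SpecialLinearGroup.toGL : SL(2, F) →* GL (Fin 2) F).range.Normal := by
  refine ⟨fun n hn g => ?_⟩
  obtain ⟨h, rfl⟩ := hn
  refine ⟨⟨(g * Matrix.SpecialLinearGroup.toGL h * g⁻¹ : GL (Fin 2) F), ?_⟩, Units.ext rfl⟩
  rw [Units.val_mul, Units.val_mul, Matrix.coe_units_inv, det_mul, det_mul, det_nonsing_inv,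
    Ring.inverse_eq_inv]
  show (g : Matrix (Fin 2) (Fin 2) F).det * (h : Matrix (Fin 2) (Fin 2) F).det * _ = 1
  rw [h.2, mul_one, mul_inv_cancel₀ (Classes.det_val_ne_zero g)]

/-- Constituents of a restriction are conjugate under `GL₂`. -/
theorem exists_conj {ψ : GL (Fin 2) F → ℂ} (hψ : Cfsg.IsIrrCharacter (GL (Fin 2) F) ψ)
    {χ χ' : SL(2, F) → ℂ} (hχ : Cfsg.IsIrrCharacter SL(2, F) χ)
    (hχ' : Cfsg.IsIrrCharacter SL(2, F) χ') (h1 : Cfsg.classInner (res ψ) χ ≠ 0)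
    (h2 : Cfsg.classInner (res ψ) χ' ≠ 0) :
    ∃ g : GL (Fin 2) F, ∀ h h' : SL(2, F), Matrix.SpecialLinearGroup.toGL h' =
      g * Matrix.SpecialLinearGroup.toGL h * g⁻¹ → χ h' = χ' h := by
  classical
  let f : SL(2, F) →* GL (Fin 2) F := Matrix.SpecialLinearGroup.toGL
  haveI hN : f.range.Normal := range_toGL_normal
  haveI := Fintype.ofFinite f.range
  let e : SL(2, F) ≃* f.range := MonoidHom.ofInjective Matrix.SpecialLinearGroup.toGL_injective
  have he : ∀ h, ((e h : f.range) : GL (Fin 2) F) = Matrix.SpecialLinearGroup.toGL h := fun h => rfl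
  have hin : ∀ φ : SL(2, F) → ℂ,
      Cfsg.classInner (fun n : f.range => ψ n) (φ ∘ e.symm) = Cfsg.classInner (res ψ) φ := by
    intro φ
    rw [← CharTheory.Basics.classInner_comp_equiv e]
    congr 1
    funext h
    simp
  obtain ⟨g, hg⟩ := CharTheory.Clifford.exists_conjBy_eq f.range hψ
    (CharTheory.Basics.isIrrCharacter_comp_equiv e.symm hχ)
    (CharTheory.Basics.isIrrCharacter_comp_equiv e.symm hχ') (by rw [hin]; exact h1)
    (by rw [hin]; exact h2)
  refine ⟨g, fun h h' hh => ?_⟩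
  have h3 := congrFun hg (e h)
  simp only [CharTheory.Clifford.conjBy_apply, Function.comp_apply, MulEquiv.symm_apply_apply] at h3
  rw [← h3]
  congr 1
  refine e.injective ?_
  rw [MulEquiv.apply_symm_apply]
  refine Subtype.ext ?_
  show ((e h' : f.range) : GL (Fin 2) F) = g * ((e h : f.range) : GL (Fin 2) F) * g⁻¹
  rw [he, he, hh]

/-- When a restriction splits, a diagonal element of non-square determinant interchanges the parts. -/
theorem split_diag {ψ : GL (Fin 2) F → ℂ} (hψ : Cfsg.IsIrrCharacter (GL (Fin 2) F) ψ)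
    {χ χ' : SL(2, F) → ℂ} (hχ : Cfsg.IsIrrCharacter SL(2, F) χ)
    (hχ' : Cfsg.IsIrrCharacter SL(2, F) χ') (hne : χ ≠ χ') (he : res ψ = χ + χ') :
    ∃ e : Fˣ, ¬ IsSquare (e : F) ∧ ∀ h h' : SL(2, F), Matrix.SpecialLinearGroup.toGL h' =
      mkB e 1 0 * Matrix.SpecialLinearGroup.toGL h * (mkB e 1 0)⁻¹ → χ h' = χ' h := by
  obtain ⟨g, hg⟩ := exists_conj hψ hχ hχ'
    (by rw [he, classInner_add_left, classInner_isIrr_self hχ, classInner_isIrr_ne hχ' hχ hne.symm]
        norm_num)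
    (by rw [he, classInner_add_left, classInner_isIrr_self hχ', classInner_isIrr_ne hχ hχ' hne]
        norm_num)
  have hcl' := char_isClassFunction (isCharacter_of_isIrr hχ')
  have hdet : ∀ (x : GL (Fin 2) F), (g : Matrix (Fin 2) (Fin 2) F).det =
      (x : Matrix (Fin 2) (Fin 2) F).det → ∃ h₀ : SL(2, F), g = x * Matrix.SpecialLinearGroup.toGL h₀ := by
    intro x hx
    refine ⟨⟨(x⁻¹ * g : GL (Fin 2) F), ?_⟩, ?_⟩
    · rw [Units.val_mul, Matrix.coe_units_inv, det_mul, det_nonsing_inv, Ring.inverse_eq_inv, hx,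
        inv_mul_cancel₀ (Classes.det_val_ne_zero x)]
    · rw [eq_comm, ← eq_inv_mul_iff_mul_eq]
      exact Units.ext rfl
  set e : Fˣ := Matrix.GeneralLinearGroup.det g with he'
  have hnsq : ¬ IsSquare (e : F) := by
    rintro ⟨s, hs⟩
    have hs0 : s ≠ 0 := fun h => e.ne_zero (by rw [hs, h, mul_zero])
    obtain ⟨h₀, hh₀⟩ := hdet (Counts.scalarGL (Units.mk0 s hs0)) (by
      show (e : F) = _
      rw [hs, Counts.coe_scalarGL, det_smul, det_one, mul_one, Fintype.card_fin, sq]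
      rfl)
    refine hne (funext fun h => ?_)
    have hz : ∀ x : GL (Fin 2) F,
        Counts.scalarGL (Units.mk0 s hs0) * x * (Counts.scalarGL (Units.mk0 s hs0))⁻¹ = x := fun x => by
      rw [mul_inv_eq_iff_eq_mul]
      exact Units.ext ((Counts.isScalar_scalarGL (Units.mk0 s hs0)).commute _).symm
    have h1 := hg (h₀⁻¹ * h * h₀) h (by
      rw [hh₀, map_mul, map_mul, map_inv, _root_.mul_inv_rev]
      conv_lhs => rw [← hz (Matrix.SpecialLinearGroup.toGL h)]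
      group)
    rw [h1]
    simpa using hcl' h h₀⁻¹
  refine ⟨e, hnsq, fun h h' hh => ?_⟩
  obtain ⟨h₀, hh₀⟩ := hdet (mkB e 1 0) (by
    show (e : F) = _
    simp [det_fin_two_of])
  have h1 := hg (h₀⁻¹ * h * h₀) h' (by
    rw [hh, hh₀, map_mul, map_mul, map_inv]
    group)
  rw [h1]
  simpa using hcl' h h₀⁻¹

theorem split_degree {ψ : GL (Fin 2) F → ℂ} (hψ : Cfsg.IsIrrCharacter (GL (Fin 2) F) ψ)
    {χ χ' : SL(2, F) → ℂ} (hχ : Cfsg.IsIrrCharacter SL(2, F) χ)
    (hχ' : Cfsg.IsIrrCharacter SL(2, F) χ') (hne : χ ≠ χ') (he : res ψ = χ + χ') :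
    χ 1 = χ' 1 ∧ 2 * χ 1 = ψ 1 := by
  obtain ⟨e, -, h⟩ := split_diag hψ hχ hχ' hne he
  have h1 := h 1 1 (by simp)
  refine ⟨h1, ?_⟩
  have h2 := congrFun he 1
  simp only [res, Function.comp_apply, map_one, Pi.add_apply, ← h1] at h2
  rw [h2, two_mul]

/-- The two parts agree at every element whose class does not split. -/
theorem split_eq {ψ : GL (Fin 2) F → ℂ} (hψ : Cfsg.IsIrrCharacter (GL (Fin 2) F) ψ)
    {χ χ' : SL(2, F) → ℂ} (hχ : Cfsg.IsIrrCharacter SL(2, F) χ)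
    (hχ' : Cfsg.IsIrrCharacter SL(2, F) χ') (hne : χ ≠ χ') (he : res ψ = χ + χ') (h : SL(2, F))
    (hs : Classes.IsScalar (h : Matrix (Fin 2) (Fin 2) F) ∨
      (h : Matrix (Fin 2) (Fin 2) F).trace ^ 2 ≠ 4) :
    χ h = χ' h := by
  obtain ⟨e, -, hd⟩ := split_diag hψ hχ hχ' hne he
  haveI : (Matrix.SpecialLinearGroup.toGL : SL(2, F) →* GL (Fin 2) F).range.Normal := range_toGL_normal
  obtain ⟨h', hh'⟩ := (inferInstance :
    (Matrix.SpecialLinearGroup.toGL : SL(2, F) →* GL (Fin 2) F).range.Normal).conj_mem _ ⟨h, rfl⟩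
      (mkB e 1 0)
  have h1 := hd h h' hh'
  have hc : IsConj h h' := by
    have hcg : IsConj (Matrix.SpecialLinearGroup.toGL h) (Matrix.SpecialLinearGroup.toGL h') := by
      rw [hh']; exact isConj_iff.2 ⟨_, rfl⟩
    by_cases hsc : Classes.IsScalar (h : Matrix (Fin 2) (Fin 2) F)
    · rw [Matrix.SpecialLinearGroup.toGL_injective (Classes.eq_of_isConj_scalar hcg hsc)]
    · have htd := (Classes.IsConj.trace_det_GL hcg).1
      have hsc' : ¬ Classes.IsScalar (h' : Matrix (Fin 2) (Fin 2) F) := fun hs' => hsc (by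
        have := Classes.eq_of_isConj_scalar hcg.symm hs'
        rw [← Matrix.SpecialLinearGroup.toGL_injective this]; exact hs')
      refine Classes.isConj_SL_of_surjective hsc hsc' htd fun c _ =>
        Classes.exists_normForm_eq (Or.inr ?_)
      rw [h.2, mul_one]
      exact hs.resolve_left hsc
  rw [← h1]
  exact (classFun_eq_of_isConj (char_isClassFunction (isCharacter_of_isIrr hχ)) hc).symm

theorem exists_res_constituent {χ : SL(2, F) → ℂ} (hχ : Cfsg.IsIrrCharacter SL(2, F) χ) :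
    ∃ ψ : GL (Fin 2) F → ℂ, Cfsg.IsIrrCharacter (GL (Fin 2) F) ψ ∧
      Cfsg.classInner (res ψ) χ ≠ 0 := by
  classical
  by_contra hcon
  push Not at hcon
  haveI := Fintype.ofFinite (Cfsg.IrrCharacter (GL (Fin 2) F))
  have hr := regular_eq_sum (G := GL (Fin 2) F)
  have h0 : Cfsg.classInner (res fun g => if g = 1 then (Nat.card (GL (Fin 2) F) : ℂ) else 0) χ = 0 := by
    rw [hr]
    have : res (∑ ψ : Cfsg.IrrCharacter (GL (Fin 2) F), (ψ : GL (Fin 2) F → ℂ) 1 • (ψ : GL (Fin 2) F → ℂ)) =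
        ∑ ψ : Cfsg.IrrCharacter (GL (Fin 2) F), (ψ : GL (Fin 2) F → ℂ) 1 • res (ψ : GL (Fin 2) F → ℂ) := by
      funext h
      simp [res, Finset.sum_apply]
    rw [this, classInner_sum_left]
    exact Finset.sum_eq_zero fun ψ _ => by rw [classInner_smul_left, hcon _ ψ.2, mul_zero]
  rw [classInner_def, Finset.sum_eq_single 1] at h0
  · simp only [res, Function.comp_apply, map_one, if_pos, mul_eq_zero, inv_eq_zero,
      natCard_ne_zero, false_or] at h0
    exact irr_one_ne_zero hχ (star_eq_zero.1 h0)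
  · intro h _ hh
    rw [res, Function.comp_apply, if_neg, zero_mul]
    exact fun h1 => hh (Matrix.SpecialLinearGroup.toGL_injective (h1.trans (map_one _).symm))
  · simp

theorem one_not_cusp : ¬ IsCuspS (fun _ => 1 : SL(2, F) → ℂ) := fun h => by
  classical
  simpa [classInner_pindS_one] using h 1

theorem pindS_one_decomp : pindS (1 : MulChar F ℂ) = (fun _ => 1) + (StS : SL(2, F) → ℂ) := by
  simp [StS]

theorem one_ne_StS : (fun _ => 1 : SL(2, F) → ℂ) ≠ StS := fun h => by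
  have h1 : ((1 : ℕ) : ℂ) = ((Fintype.card F : ℕ) : ℂ) := by
    rw [Nat.cast_one, ← StS_one (F := F)]; exact congrFun h 1
  exact (Fintype.one_lt_card (α := F)).ne (Nat.cast_injective h1)

theorem StS_not_cusp : ¬ IsCuspS (StS : SL(2, F) → ℂ) := fun h => by
  have h1 := h 1
  rw [pindS_one_decomp, classInner_add_left, classInner_isIrr_self isIrr_StS,
    classInner_isIrr_ne isIrrCharacter_one isIrr_StS one_ne_StS] at h1
  norm_num at h1

theorem pindS_not_cusp {α : MulChar F ℂ} (hα : α ^ 2 ≠ 1) : ¬ IsCuspS (pindS α) := fun h => by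
  have h1 := h α
  rw [classInner_isIrr_self (isIrr_pindS hα)] at h1
  exact one_ne_zero h1

theorem isIrr_half {χ : SL(2, F) → ℂ} (hχ : Cfsg.IsIrrCharacter SL(2, F) χ) (h : IsHalf χ) :
    ¬ IsCuspS χ ∧ 2 * χ 1 = (Fintype.card F : ℂ) + 1 := by
  obtain ⟨α, χ', hα, hα1, hχ', hne, he⟩ := h
  refine ⟨fun hc => ?_, ?_⟩
  · have h1 := hc α
    rw [he, classInner_add_left, classInner_isIrr_self hχ, classInner_isIrr_ne hχ' hχ hne] at h1
    norm_num at h1
  · have hres : res (pind α 1) = χ + χ' := by rw [res_pind, inv_one, mul_one, he]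
    rw [(split_degree (isIrr_pind hα1) hχ hχ' hne.symm hres).2, pind_one]

theorem classify {χ : SL(2, F) → ℂ} (hχ : Cfsg.IsIrrCharacter SL(2, F) χ) :
    χ = (fun _ => 1) ∨ χ = StS ∨ (∃ α, α ^ 2 ≠ 1 ∧ χ = pindS α) ∨ IsHalf χ ∨ IsCuspS χ := by
  by_cases h : IsCuspS χ
  · exact Or.inr (Or.inr (Or.inr (Or.inr h)))
  obtain ⟨α, hne⟩ : ∃ α, Cfsg.classInner (pindS α) χ ≠ 0 := by simpa [IsCuspS] using h
  by_cases hα : α ^ 2 = 1
  · by_cases hα1 : α = 1
    · subst hα1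
      rw [pindS_one_decomp, classInner_add_left] at hne
      by_cases h1 : χ = fun _ => 1
      · exact Or.inl h1
      by_cases h2 : χ = StS
      · exact Or.inr (Or.inl h2)
      rw [classInner_isIrr_ne isIrrCharacter_one hχ (Ne.symm h1),
        classInner_isIrr_ne isIrr_StS hχ (Ne.symm h2), add_zero] at hne
      exact absurd rfl hne
    · rcases split_of_norm (isCharacter_pindS α) hχ hne le_rfl
        (by rw [classInner_pindS_self_of_sq hα]; norm_num) with ⟨-, h2⟩ | ⟨-, χ', h1, h2, h3⟩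
      · omega
      · exact Or.inr (Or.inr (Or.inr (Or.inl ⟨α, χ', hα, hα1, h1, h2, h3⟩)))
  · refine Or.inr (Or.inr (Or.inl ⟨α, hα, ?_⟩))
    by_contra h1
    exact hne (classInner_isIrr_ne (isIrr_pindS hα) hχ (Ne.symm h1))

theorem card_sq_one_le : Nat.card {r : F // r ^ 2 = 1} ≤ 2 := by
  classical
  by_cases h2 : (2 : F) = 0
  · haveI : CharP F 2 := CharTwo.of_one_ne_zero_of_two_eq_zero one_ne_zero h2
    rw [Counts.sq_eq_one_card_two]; omega
  · rw [Counts.sq_eq_one_card_odd h2]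

/-- Cuspidal characters of `SL₂` come from cuspidal characters of `GL₂`. -/
theorem cusp_data {χ : SL(2, F) → ℂ} (hχ : Cfsg.IsIrrCharacter SL(2, F) χ) (hc : IsCuspS χ) :
    ∃ ψ : GL (Fin 2) F → ℂ, Cfsg.IsIrrCharacter (GL (Fin 2) F) ψ ∧ ClassifyGL.IsCusp ψ ∧
      (res ψ = χ ∨ (Nat.card {r : F // r ^ 2 = 1} = 2 ∧
        ∃ χ', Cfsg.IsIrrCharacter SL(2, F) χ' ∧ χ' ≠ χ ∧ res ψ = χ + χ')) := by
  obtain ⟨ψ, hψ, hne⟩ := exists_res_constituent hχ
  refine ⟨ψ, hψ, ?_, ?_⟩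
  · rcases ClassifyGL.classify hψ with ⟨α, h⟩ | ⟨α, h⟩ | ⟨α, β, -, h⟩ | h
    · exfalso
      rw [h, res_lin] at hne
      by_cases h1 : χ = fun _ => 1
      · exact one_not_cusp (h1 ▸ hc)
      · exact hne (classInner_isIrr_ne isIrrCharacter_one hχ (Ne.symm h1))
    · exfalso
      rw [h, res_stTw] at hne
      by_cases h1 : χ = StS
      · exact StS_not_cusp (h1 ▸ hc)
      · exact hne (classInner_isIrr_ne isIrr_StS hχ (Ne.symm h1))
    · exfalso
      rw [h, res_pind] at hne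
      exact hne (hc _)
    · exact h
  · obtain ⟨n, hn, hnorm⟩ := norm_res_le hψ
    rcases split_of_norm (isCharacter_res (isCharacter_of_isIrr hψ)) hχ hne
      (hn.trans card_sq_one_le) hnorm with ⟨h, -⟩ | ⟨h2, h⟩
    · exact Or.inl h
    · exact Or.inr ⟨le_antisymm card_sq_one_le (h2 ▸ hn), h⟩

theorem cusp_degree {χ : SL(2, F) → ℂ} (hχ : Cfsg.IsIrrCharacter SL(2, F) χ) (hc : IsCuspS χ) :
    (χ 1 = Fintype.card Fˣ ∧ χ (mkS 1 1) = -1) ∨
      (Nat.card {r : F // r ^ 2 = 1} = 2 ∧ 2 * χ 1 = Fintype.card Fˣ) := by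
  obtain ⟨ψ, hψ, hψc, h | ⟨hk, χ', hχ', hne, h⟩⟩ := cusp_data hχ hc
  · obtain ⟨h1, h2⟩ := ClassifyGL.families.2.2.2.2 ψ hψ hψc
    refine Or.inl ⟨?_, ?_⟩
    · rw [← h]; simpa [res] using h1
    · rw [← h, res, Function.comp_apply, toGL_mkS, inv_one, h2]
  · exact Or.inr ⟨hk, by
      rw [(split_degree hψ hχ hχ' hne.symm h).2, (ClassifyGL.families.2.2.2.2 ψ hψ hψc).1]⟩

theorem cast_card_units : (Fintype.card Fˣ : ℂ) = (Fintype.card F : ℂ) - 1 :=
  ClassifyGL.cast_card_units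

/-- Classification with degrees. -/
theorem classify_degree {χ : SL(2, F) → ℂ} (hχ : Cfsg.IsIrrCharacter SL(2, F) χ) :
    (χ = (fun _ => 1) ∧ χ 1 = 1) ∨
    (χ = StS ∧ χ 1 = (Fintype.card F : ℂ)) ∨
    ((∃ α, α ^ 2 ≠ 1 ∧ χ = pindS α) ∧ χ 1 = (Fintype.card F : ℂ) + 1) ∨
    (IsHalf χ ∧ 2 * χ 1 = (Fintype.card F : ℂ) + 1) ∨
    (IsCuspS χ ∧ χ 1 = (Fintype.card F : ℂ) - 1 ∧ χ (mkS 1 1) = -1) ∨
    (IsCuspS χ ∧ Nat.card {r : F // r ^ 2 = 1} = 2 ∧ 2 * χ 1 = (Fintype.card F : ℂ) - 1) := by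
  rcases classify hχ with h | h | ⟨α, hα, h⟩ | h | h
  · exact Or.inl ⟨h, by rw [h]⟩
  · exact Or.inr (Or.inl ⟨h, by rw [h, StS_one]⟩)
  · exact Or.inr (Or.inr (Or.inl ⟨⟨α, hα, h⟩, by rw [h, pindS_one]⟩))
  · exact Or.inr (Or.inr (Or.inr (Or.inl ⟨h, (isIrr_half hχ h).2⟩)))
  · rcases cusp_degree hχ h with ⟨h1, h2⟩ | ⟨hk, h1⟩
    · exact Or.inr (Or.inr (Or.inr (Or.inr (Or.inl ⟨h, h1.trans cast_card_units, h2⟩))))
    · exact Or.inr (Or.inr (Or.inr (Or.inr (Or.inr ⟨h, hk, h1.trans cast_card_units⟩))))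

theorem quadratic_unique {α β : MulChar F ℂ} (hα : α ^ 2 = 1) (hα1 : α ≠ 1) (hβ : β ^ 2 = 1)
    (hβ1 : β ≠ 1) : α = β := by
  classical
  by_contra hne
  haveI := Fintype.ofFinite (MulChar F ℂ)
  have h := card_sq_eq_one (F := F) ▸ card_sq_one_le (F := F)
  rw [Nat.card_eq_fintype_card, Fintype.card_subtype] at h
  have : ({1, α, β} : Finset (MulChar F ℂ)) ⊆ Finset.univ.filter fun γ => γ ^ 2 = 1 := by
    intro γ hγ
    simp only [Finset.mem_insert, Finset.mem_singleton] at hγ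
    rcases hγ with rfl | rfl | rfl <;> simp [*]
  have h3 := (Finset.card_le_card this).trans h
  rw [Finset.card_insert_of_notMem (by simp [Ne.symm hα1, Ne.symm hβ1]), Finset.card_pair hne] at h3
  omega

theorem half_pair {χ η : SL(2, F) → ℂ} (hχ : Cfsg.IsIrrCharacter SL(2, F) χ)
    (hη : Cfsg.IsIrrCharacter SL(2, F) η) (hne : χ ≠ η) (h1 : IsHalf χ) (h2 : IsHalf η) :
    ∃ α : MulChar F ℂ, α ^ 2 = 1 ∧ α ≠ 1 ∧ pindS α = χ + η := by
  obtain ⟨α, χ', hα, hα1, hχ', hne', he⟩ := h1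
  obtain ⟨β, η', hβ, hβ1, hη', hne'', he'⟩ := h2
  obtain rfl := quadratic_unique hα hα1 hβ hβ1
  refine ⟨α, hα, hα1, ?_⟩
  have h : Cfsg.classInner (χ + χ') η ≠ 0 := by
    rw [← he, he', classInner_add_left, classInner_isIrr_self hη, classInner_isIrr_ne hη' hη hne'']
    norm_num
  rw [classInner_add_left, classInner_isIrr_ne hχ hη hne, zero_add] at h
  by_cases h3 : χ' = η
  · rw [he, h3]
  · exact absurd (classInner_isIrr_ne hχ' hη h3) h

end Cfsg.Agent.GL2.ClassifySL
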