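import Cfsg.Agent.Lib.GL2.Borel
import Cfsg.Agent.Lib.CharTheory.Basics

/-!
# Inner products of principal series, linear characters and the Steinberg character of `GL₂`
-/

set_option autoImplicit false
set_option linter.unusedSectionVars false

open Matrix
open scoped MatrixGroups ComplexConjugate

namespace Cfsg.Agent.GL2.Principal

open Borel
open Cfsg.Agent.Characters

universe u

variable {F : Type u} [Field F] [Fintype F]

theorem conj_apply (α : MulChar F ℂ) (a : F) : conj (α a) = α⁻¹ a := MulChar.star_apply' α a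

theorem norm_apply_units (α : MulChar F ℂ) (p : Fˣ) : ‖α (p : F)‖ = 1 := by
  refine Complex.norm_eq_one_of_pow_eq_one (n := Nat.card Fˣ) ?_ Nat.card_pos.ne'
  rw [← map_pow, ← Units.val_pow_eq_pow_val, pow_card_eq_one', Units.val_one, map_one]

theorem apply_mul_inv (α α' : MulChar F ℂ) (p : Fˣ) :
    α p * conj (α' p) = (α * α'⁻¹) p := by rw [conj_apply, MulChar.mul_apply]

variable [DecidableEq F]

theorem sum_units (α : MulChar F ℂ) [Decidable (α = 1)] :
    ∑ p : Fˣ, α p = if α = 1 then (Fintype.card Fˣ : ℂ) else 0 := by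
  split_ifs with h
  · simp [h, MulChar.one_apply_coe]
  · obtain ⟨b, hb⟩ := MulChar.ne_one_iff.1 h
    have h1 : α b * ∑ p : Fˣ, α p = ∑ p : Fˣ, α p := by
      rw [Finset.mul_sum]
      exact Fintype.sum_equiv (Equiv.mulLeft b) _ _ fun p => by simp [map_mul]
    have h2 : (α b - 1) * ∑ p : Fˣ, α p = 0 := by rw [sub_mul, h1, one_mul, sub_self]
    exact (mul_eq_zero.1 h2).resolve_left (sub_ne_zero.2 hb)

theorem natCard_mulChar : Nat.card (MulChar F ℂ) = Fintype.card F - 1 := by
  rw [MulChar.card_eq_card_units_of_hasEnoughRootsOfUnity F ℂ, Classical.Linear.natCard_units_eq]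

theorem sum_chars [Fintype (MulChar F ℂ)] (p : Fˣ) :
    ∑ α : MulChar F ℂ, α p = if p = 1 then (Fintype.card Fˣ : ℂ) else 0 := by
  split_ifs with h
  · subst h
    simp only [Units.val_one, map_one, Finset.sum_const, Finset.card_univ, nsmul_eq_mul, mul_one]
    rw [← Nat.card_eq_fintype_card, natCard_mulChar, Fintype.card_units]
  · have hp : (p : F) ≠ 1 := fun e => h (Units.ext e)
    obtain ⟨χ, hχ⟩ := MulChar.exists_apply_ne_one_of_hasEnoughRootsOfUnity F ℂ hp
    have h1 : χ p * ∑ α : MulChar F ℂ, α p = ∑ α : MulChar F ℂ, α p := by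
      rw [Finset.mul_sum]
      exact Fintype.sum_equiv (Equiv.mulLeft χ) _ _ fun α => by simp [MulChar.mul_apply]
    have h2 : (χ p - 1) * ∑ α : MulChar F ℂ, α p = 0 := by rw [sub_mul, h1, one_mul, sub_self]
    exact (mul_eq_zero.1 h2).resolve_left (sub_ne_zero.2 hχ)

theorem card_units_ne_zero : (Fintype.card Fˣ : ℂ) ≠ 0 := Nat.cast_ne_zero.2 Fintype.card_ne_zero

theorem card_ne_zero : (Fintype.card F : ℂ) ≠ 0 := Nat.cast_ne_zero.2 Fintype.card_ne_zero

theorem natCard_B_cast : (Nat.card (Cfsg.upperTriangularGL 2 F) : ℂ) =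
    (Fintype.card Fˣ : ℂ) * ((Fintype.card Fˣ : ℂ) * Fintype.card F) := by
  rw [natCard_B, ← Fintype.card_units]
  push_cast
  rfl

theorem natCard_BS_cast :
    (Nat.card (BS F) : ℂ) = (Fintype.card Fˣ : ℂ) * Fintype.card F := by
  rw [natCard_BS, ← Fintype.card_units]
  push_cast
  rfl

theorem sum_pind (α β : MulChar F ℂ) (p r : Fˣ) :
    ∑ x : F, pind α β (mkB p r x) = (Fintype.card F : ℂ) * (α p * β r + α r * β p) := by
  simp_rw [pind_mkB, Finset.sum_add_distrib, ← Finset.sum_mul, ← Nat.cast_sum]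
  have h : ∑ x : F, (Finset.univ.filter fun a : F => x = a * ((r : F) - p)).card = Fintype.card F := by
    rw [← Finset.card_univ, Finset.card_eq_sum_card_fiberwise (s := (Finset.univ : Finset F))
      (t := Finset.univ) (f := fun a : F => a * ((r : F) - p)) (fun x _ => Finset.mem_univ _)]
    exact Finset.sum_congr rfl fun x _ => congrArg Finset.card (Finset.filter_congr fun a _ => eq_comm)
  rw [h, Finset.sum_const, Finset.card_univ, nsmul_eq_mul]
  ring

theorem classInner_pind_left (α β : MulChar F ℂ) {χ : GL (Fin 2) F → ℂ}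
    (hχ : Cfsg.IsClassFunction (GL (Fin 2) F) χ) :
    Cfsg.classInner (pind α β) χ = (Nat.card (Cfsg.upperTriangularGL 2 F) : ℂ)⁻¹ *
      ∑ p : Fˣ, ∑ r : Fˣ, α p * β r * conj (∑ x : F, χ (mkB p r x)) := by
  haveI := Fintype.ofFinite (Cfsg.upperTriangularGL 2 F)
  rw [pind, frobenius_reciprocity _ _ hχ, classInner_def, sum_borel]
  congr 1
  refine Finset.sum_congr rfl fun p _ => Finset.sum_congr rfl fun r _ => ?_
  rw [map_sum, Finset.mul_sum]
  refine Finset.sum_congr rfl fun x _ => ?_
  simp [thetaG]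

theorem classInner_pind (α β α' β' : MulChar F ℂ) [DecidableEq (MulChar F ℂ)] :
    Cfsg.classInner (pind α β) (pind α' β') =
      (if α = α' ∧ β = β' then 1 else 0) + (if α = β' ∧ β = α' then 1 else 0) := by
  have key : ∀ γ δ : MulChar F ℂ,
      ∑ p : Fˣ, ∑ r : Fˣ, α p * β r * conj (γ p * δ r) =
        (Fintype.card Fˣ : ℂ) * Fintype.card Fˣ * (if α = γ ∧ β = δ then 1 else 0) := by
    intro γ δ
    have : ∀ p r : Fˣ, α p * β r * conj (γ p * δ r) = (α * γ⁻¹) p * (β * δ⁻¹) r := by
      intro p r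
      rw [map_mul, ← apply_mul_inv, ← apply_mul_inv]
      ring
    simp_rw [this, ← Finset.sum_mul_sum, sum_units, mul_inv_eq_one]
    by_cases e1 : α = γ <;> by_cases e2 : β = δ <;> simp [e1, e2]
  rw [classInner_pind_left α β (char_isClassFunction (isCharacter_pind α' β'))]
  have hsum : ∀ p r : Fˣ, α p * β r * conj (∑ x : F, pind α' β' (mkB p r x)) =
      (Fintype.card F : ℂ) * (α p * β r * conj (α' p * β' r)) +
        (Fintype.card F : ℂ) * (α p * β r * conj (α' r * β' p)) := by
    intro p r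
    rw [sum_pind, map_mul, map_add, Complex.conj_natCast]
    ring
  simp_rw [hsum, Finset.sum_add_distrib, ← Finset.mul_sum, key]
  have key' : ∑ p : Fˣ, ∑ r : Fˣ, α p * β r * conj (α' r * β' p) =
        (Fintype.card Fˣ : ℂ) * Fintype.card Fˣ * (if α = β' ∧ β = α' then 1 else 0) := by
    rw [← key β' α']
    simp_rw [mul_comm (α' _) (β' _)]
  rw [key', natCard_B_cast]
  have h1 := card_units_ne_zero (F := F)
  have h2 := card_ne_zero (F := F)
  field_simp

/-- `α ∘ det`. -/
noncomputable def lin (α : MulChar F ℂ) : GL (Fin 2) F → ℂ :=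
  fun g => α (g : Matrix (Fin 2) (Fin 2) F).det

theorem isIrr_lin (α : MulChar F ℂ) : Cfsg.IsIrrCharacter (GL (Fin 2) F) (lin α) :=
  isIrrCharacter_monoidHom ((α.toMonoidHom).comp
    ((Matrix.detMonoidHom).comp (Units.coeHom (Matrix (Fin 2) (Fin 2) F))))

theorem lin_one_apply (α : MulChar F ℂ) : lin α 1 = 1 := by simp [lin]

theorem lin_mkB (α : MulChar F ℂ) (p r : Fˣ) (x : F) : lin α (mkB p r x) = α p * α r := by
  simp [lin, det_fin_two_of, map_mul]

theorem norm_lin (α : MulChar F ℂ) (g : GL (Fin 2) F) : ‖lin α g‖ = 1 :=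
  norm_apply_units α (Matrix.GeneralLinearGroup.det g)

theorem lin_injective : Function.Injective (lin : MulChar F ℂ → GL (Fin 2) F → ℂ) := by
  intro α β h
  refine MulChar.ext fun a => ?_
  simpa [lin_mkB] using congrFun h (mkB a 1 0)

theorem pind_self_eq (α : MulChar F ℂ) : pind α α = lin α * pind 1 1 := by
  funext g
  rw [Pi.mul_apply, pind_eq_sum, pind_eq_sum, Finset.mul_sum]
  refine Finset.sum_congr rfl fun o _ => ?_
  have hdet : (((repG o)⁻¹ * g * repG o : GL (Fin 2) F) : Matrix (Fin 2) (Fin 2) F).det =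
      (g : Matrix (Fin 2) (Fin 2) F).det := by
    rw [Units.val_mul, Units.val_mul, Matrix.coe_units_inv, det_mul, det_mul, det_nonsing_inv,
      Ring.inverse_eq_inv]
    field_simp [Classes.det_val_ne_zero]
  set y := (repG o)⁻¹ * g * repG o
  by_cases hy : y ∈ Cfsg.upperTriangularGL 2 F
  · obtain ⟨p, r, x, hp⟩ := exists_mkB ((mem_B_iff y).1 hy)
    rw [lin, ← hdet, hp, extend_thetaG_mkB, extend_thetaG_mkB]
    simp [det_fin_two_of, map_mul, MulChar.one_apply_coe]
  · rw [CharTheory.IndBasic.extendByZero_of_notMem _ _ hy,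
      CharTheory.IndBasic.extendByZero_of_notMem _ _ hy, mul_zero]

theorem pind_one (α β : MulChar F ℂ) : pind α β 1 = (Fintype.card F : ℂ) + 1 := by
  have h1 : (1 : GL (Fin 2) F) = mkB 1 1 0 := Units.ext (by simp [Matrix.one_fin_two])
  rw [h1, pind_mkB]
  simp
  ring

theorem classInner_pind_self (α β : MulChar F ℂ) [Decidable (α = β)] :
    Cfsg.classInner (pind α β) (pind α β) = if α = β then 2 else 1 := by
  classical
  rw [classInner_pind]
  by_cases h : α = β
  · subst h; norm_num
  · have : ¬ (α = β ∧ β = α) := fun e => h e.1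
    simp [h, this]

theorem isIrr_pind {α β : MulChar F ℂ} (h : α ≠ β) : Cfsg.IsIrrCharacter (GL (Fin 2) F) (pind α β) := by
  classical
  exact isIrr_of_isCharacter_of_norm_one (isCharacter_pind α β) (by rw [classInner_pind_self, if_neg h])

theorem pind_comm (α β : MulChar F ℂ) : pind α β = pind β α := by
  classical
  refine sub_eq_zero.1 (classInner_self_eq_zero.1 ?_)
  simp only [classInner_sub_left, classInner_sub_right, classInner_pind]
  by_cases h : α = β
  · subst h; simp
  · have : ¬ (α = β ∧ β = α) := fun e => h e.1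
    simp [h, Ne.symm h]

theorem pind_eq_iff (α β α' β' : MulChar F ℂ) :
    pind α β = pind α' β' ↔ (α = α' ∧ β = β') ∨ (α = β' ∧ β = α') := by
  classical
  refine ⟨fun h => ?_, ?_⟩
  · by_contra hc
    push Not at hc
    have h1 := classInner_pind_self α β
    rw [show Cfsg.classInner (pind α β) (pind α β) = Cfsg.classInner (pind α β) (pind α' β') by
      rw [← h], classInner_pind, if_neg (fun e => hc.1 e.1 e.2), if_neg (fun e => hc.2 e.1 e.2)] at h1
    split_ifs at h1 <;> norm_num at h1
  · rintro (⟨rfl, rfl⟩ | ⟨rfl, rfl⟩)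
    · rfl
    · exact pind_comm _ _

theorem pind_mul_linear (α : MulChar F ℂ) : Cfsg.IsCharacter (GL (Fin 2) F) (lin α) :=
  isCharacter_of_isIrr (isIrr_lin α)

/-- The Steinberg character of `GL₂`. -/
noncomputable def St : GL (Fin 2) F → ℂ := pind 1 1 - fun _ => 1

theorem classInner_pind_lin (α β : MulChar F ℂ) [DecidableEq (MulChar F ℂ)] (γ : MulChar F ℂ) :
    Cfsg.classInner (pind α β) (lin γ) = if α = γ ∧ β = γ then 1 else 0 := by
  rw [classInner_pind_left α β (char_isClassFunction (pind_mul_linear γ))]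
  have : ∀ p r : Fˣ, α p * β r * conj (∑ x : F, lin γ (mkB p r x)) =
      (Fintype.card F : ℂ) * ((α * γ⁻¹) p * (β * γ⁻¹) r) := by
    intro p r
    simp only [lin_mkB, Finset.sum_const, Finset.card_univ, nsmul_eq_mul, map_mul,
      Complex.conj_natCast, ← apply_mul_inv]
    ring
  simp_rw [this, ← Finset.mul_sum, ← Finset.sum_mul, sum_units, mul_inv_eq_one]
  rw [natCard_B_cast]
  have h1 := card_units_ne_zero (F := F)
  have h2 := card_ne_zero (F := F)
  split_ifs <;> simp_all <;> field_simp

theorem isIrr_St : Cfsg.IsIrrCharacter (GL (Fin 2) F) (St : GL (Fin 2) F → ℂ) := by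
  classical
  have h1 : (fun _ => 1 : GL (Fin 2) F → ℂ) = lin 1 := by
    funext g
    exact (MulChar.one_apply_coe (R := F) (R' := ℂ) (Matrix.GeneralLinearGroup.det g)).symm
  refine isIrr_of_gen_norm_one (isGen_sub (isGen_of_isCharacter (isCharacter_pind 1 1))
    (isGen_of_isCharacter isCharacter_one)) ?_ ?_
  · unfold St
    simp only [classInner_sub_left, classInner_sub_right]
    rw [h1, classInner_conj_symm (pind 1 1) (lin 1), classInner_pind_self, classInner_pind_lin,
      classInner_isIrr_self (isIrr_lin 1)]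
    simp
    norm_num
  · simp [St, pind_one, Fintype.card_pos]

theorem St_one : (St : GL (Fin 2) F → ℂ) 1 = Fintype.card F := by simp [St, pind_one]

/-- The twists of the Steinberg character. -/
noncomputable def stTw (α : MulChar F ℂ) : GL (Fin 2) F → ℂ := St * lin α

theorem isIrr_stTw (α : MulChar F ℂ) : Cfsg.IsIrrCharacter (GL (Fin 2) F) (stTw α) :=
  CharTheory.Basics.isIrr_mul_linear isIrr_St (pind_mul_linear α) (lin_one_apply α)

theorem stTw_one (α : MulChar F ℂ) : stTw α 1 = Fintype.card F := by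
  simp [stTw, St_one, lin_one_apply]

theorem pind_self_decomp (α : MulChar F ℂ) : pind α α = lin α + stTw α := by
  rw [pind_self_eq]
  funext g
  simp [stTw, St]
  ring

theorem stTw_injective : Function.Injective (stTw : MulChar F ℂ → GL (Fin 2) F → ℂ) := by
  intro α β h
  refine MulChar.ext fun a => ?_
  rcases eq_or_ne a 1 with rfl | ha
  · simp
  · have := congrFun h (mkB a 1 0)
    simp only [stTw, Pi.mul_apply, St, Pi.sub_apply, pind_mkB_ne _ _ ha, lin_mkB] at this
    simpa [MulChar.one_apply_coe] using this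

end Cfsg.Agent.GL2.Principal
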